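import Groth.Agent.Sga3.H811.Pts
import Groth.Agent.Sga3B.DSRigid
import Groth.Agent.Sga3B.Chart
import Groth.Agent.Sga3B.PinTransport

/-!
# Characters of split tori
-/

set_option autoImplicit false
universe u

open CategoryTheory MonoidalCategory CartesianMonoidalCategory MonObj GrpObj AlgebraicGeometry Limits

namespace K929.CharLemmas

open Groth.Agent.Sga3B Cell PinMod DSPts GaPts
open Groth.Agent.Sga3.H811.Pts (gmFn_comp gmFn_injective gmFn_mul)

variable {S : Scheme.{u}} {M N : Type} [AddCommGroup M] [AddCommGroup N]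

lemma gmFn_one' {X : Over S} : Red.gmFn (1 : X ⟶ Red.Gm S) = 1 := Groth.Agent.Sga3.H811.Pts.gmFn_one

lemma chi_ext {X : Over S} {x y : X ⟶ Red.Gm S} (h : Red.gmFn x = Red.gmFn y) : x = y :=
  gmFn_injective X h

lemma chi_zero : Red.chi S (0 : M) = 1 := by
  apply chi_ext
  rw [gmFn_one', ← Category.id_comp (Red.chi S (0 : M)), gmFn_chi, ofAdd_zero, map_one]

lemma chi_add (m n : M) : Red.chi S (m + n) = Red.chi S m * Red.chi S n := by
  apply chi_ext
  rw [gmFn_mul, ← Category.id_comp (Red.chi S (m + n)), ← Category.id_comp (Red.chi S m),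
    ← Category.id_comp (Red.chi S n), gmFn_chi, gmFn_chi, gmFn_chi, ofAdd_add, map_mul]

lemma chi_neg (m : M) : Red.chi S (-m) = (Red.chi S m)⁻¹ := by
  rw [eq_inv_iff_mul_eq_one, ← chi_add, neg_add_cancel, chi_zero]

/-- the characters as a homomorphism -/
noncomputable def chiHom (S : Scheme.{u}) (M : Type) [AddCommGroup M] :
    Multiplicative M →* (Red.DS S M ⟶ Red.Gm S) where
  toFun m := Red.chi S m.toAdd
  map_one' := chi_zero
  map_mul' m n := chi_add m.toAdd n.toAdd

lemma chi_zsmul (k : ℤ) (m : M) : Red.chi S (k • m) = (Red.chi S m) ^ k := by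
  have := map_zpow (chiHom S M) (Multiplicative.ofAdd m) k
  exact this

instance isMonHom_chi (m : M) : IsMonHom (Red.chi S m) :=
  PinTransport.isMonHom_DSmap _

lemma chi_injective_affine {R : Type u} [CommRing R] [Nontrivial R] {s : Spec (CommRingCat.of R) ⟶ S}
    {m n : M} (h : Red.chi S m = Red.chi S n) : m = n := by
  let t : TPt M (MonoidAlgebra R (Multiplicative M)) :=
    MonoidHom.toHomUnits (MonoidAlgebra.of R (Multiplicative M))
  have h1 : Red.gmFn (dsEquiv (tB s (MonoidAlgebra R (Multiplicative M))) M (chΓ s t) ≫ Red.chi S m) =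
      Red.gmFn (dsEquiv (tB s (MonoidAlgebra R (Multiplicative M))) M (chΓ s t) ≫ Red.chi S n) := by
    rw [h]
  rw [gmFn_chi, gmFn_chi, dsChar_dsEquiv, chΓ_apply, chΓ_apply] at h1
  have h2 := fnOf_injective s h1
  exact Multiplicative.ofAdd.injective (MonoidAlgebra.of_injective h2)

lemma chi_injective [hS : Nonempty S] {m n : M} (h : Red.chi S m = Red.chi S n) : m = n := by
  obtain ⟨x⟩ := hS
  exact chi_injective_affine (R := S.residueField x) (s := S.fromSpecResidueField x) h

lemma chi_eq_one_iff [hS : Nonempty S] {m : M} : Red.chi S m = 1 ↔ m = 0 := by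
  rw [← chi_zero]
  exact ⟨fun h => chi_injective h, fun h => by rw [h]⟩

/-- the characters of a split torus over a local ring -/
theorem exists_eq_chi {R : Type u} [CommRing R] [IsLocalRing R]
    (f : Red.DS (Spec (CommRingCat.of R)) M ⟶ Red.Gm (Spec (CommRingCat.of R))) [IsMonHom f] :
    ∃ m : M, f = Red.chi (Spec (CommRingCat.of R)) m := by
  obtain ⟨φ, hφ⟩ := DSRigid.exists_eq_DSmap f
  refine ⟨φ 1, ?_⟩
  rw [hφ, Red.chi]
  congr 1
  ext
  simp

instance nonempty_spec (R : Type u) [CommRing R] [Nontrivial R] : Nonempty (Spec (CommRingCat.of R)) :=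
  inferInstanceAs (Nonempty (PrimeSpectrum R))

end K929.CharLemmas
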