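import Groth.Agent.LieWt.K929.LieSplit
import Groth.Agent.LieWt.K929.CharLemmas
import Groth.Agent.Sga3B.RootFinal136
import Groth.Agent.Sga3B.Parab.TorRank156

/-!
# Roots as weights, for split reductive groups over a local ring
-/

set_option autoImplicit false
universe u v

open CategoryTheory MonoidalCategory CartesianMonoidalCategory MonObj GrpObj AlgebraicGeometry Limits

namespace K929.LieRoot

open Groth.Agent.Sga3B Cell PinMod DSPts GaPts K929.LieDict K929.LieCell K929.LieSplit K929.CharLemmas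

section transport

variable {R : Type u} [CommRing R] {G T T' : Over (Spec (CommRingCat.of R))} [GrpObj G]

lemma weightSpOf_iso (i : T ⟶ G) (i' : T' ⟶ G) (e : T ≅ T') (h : i = e.hom ≫ i')
    (α : T ⟶ Red.Gm (Spec (CommRingCat.of R))) (B : Type u) [CommRing B] [Algebra R B] :
    LieWt.weightSpOf i α B = LieWt.weightSpOf i' (e.inv ≫ α) B := by
  ext x
  unfold LieWt.weightSpOf
  rw [LieWt.mem_weightSp_iff, LieWt.mem_weightSp_iff]
  constructor
  · intro H B' _ _ φ t
    have h1 := H B' φ (t ≫ e.inv)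
    rw [h, Category.assoc, Iso.inv_hom_id_assoc] at h1
    have h2 : VecGrp.chiVal α (t ≫ e.inv) = VecGrp.chiVal (e.inv ≫ α) t := by
      unfold VecGrp.chiVal
      rw [Category.assoc]
    rw [h2] at h1
    exact h1
  · intro H B' _ _ φ t
    have h1 := H B' φ (t ≫ e.hom)
    have h2 : VecGrp.chiVal (e.inv ≫ α) (t ≫ e.hom) = VecGrp.chiVal α t := by
      unfold VecGrp.chiVal
      rw [Category.assoc, Iso.hom_inv_id_assoc]
    rw [h2, Category.assoc, ← h] at h1
    exact h1

end transport

section mono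

variable {S : Scheme.{u}} {G T T' : Over S} [GrpObj G] [GrpObj T] [GrpObj T']

/-- An isomorphism between two subgroups over `G` is an isomorphism of groups. -/
lemma isMonHom_of_mono (φ : T ⟶ T') (j : T' ⟶ G) [Mono j] [IsMonHom j] (i : T ⟶ G) [IsMonHom i]
    (h : φ ≫ j = i) : IsMonHom φ where
  one_hom := by
    rw [← cancel_mono j, Category.assoc, h, IsMonHom.one_hom, IsMonHom.one_hom]
  mul_hom := by
    rw [← cancel_mono j, Category.assoc, h, IsMonHom.mul_hom, Category.assoc, IsMonHom.mul_hom,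
      ← Category.assoc, MonoidalCategory.tensorHom_comp_tensorHom, h]

lemma exists_iso_of_eq (D : Red.SplitRed G) (i : T ⟶ G) (hT : Red.IsMaximalTorus i)
    (h : D.T = T) (hi : HEq D.i i) :
    ∃ τ : Grp.mk T ≅ Grp.mk D.T, i = τ.hom.hom.hom ≫ D.i := by
  have hm : IsMonHom D.i := D.maximalTorus.1
  have hm' : IsMonHom i := hT.1
  have hmono : Mono D.i := D.maximalTorus.2.1
  have e : eqToHom h.symm ≫ D.i = i := by
    have : ∀ (T₁ : Over S) (h : T₁ = T) (j : T₁ ⟶ G), HEq j i → eqToHom h.symm ≫ j = i := by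
      intro T₁ h j hj
      subst h
      rw [eqToHom_refl, Category.id_comp]
      exact eq_of_heq hj
    exact this D.T h D.i hi
  have h1 : IsMonHom (eqToIso h.symm).hom := isMonHom_of_mono _ D.i i e
  exact ⟨Grp.mkIso' (eqToIso h.symm), e.symm⟩

end mono

/-- The spectrum of a local ring is connected. -/
theorem preconnectedSpace (A : Type u) [CommRing A] [IsLocalRing A] :
    PreconnectedSpace (PrimeSpectrum A) := by
  rw [preconnectedSpace_iff_clopen]
  intro s hs
  by_cases h : IsLocalRing.closedPoint A ∈ s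
  · right
    rw [Set.eq_univ_iff_forall]
    intro x
    exact (IsLocalRing.specializes_closedPoint x).mem_open hs.2 h
  · left
    rw [Set.eq_empty_iff_forall_notMem]
    intro x hx
    exact (IsLocalRing.specializes_closedPoint x).mem_open hs.1.isOpen_compl h hx

section loc

variable {R : Type u} [CommRing R] [IsLocalRing R] {G T : Over (Spec (CommRingCat.of R))} [GrpObj G] [GrpObj T]

/-- **Splittings with given torus over local rings.** -/
theorem exists_split (hG : Red.IsReductive G) (i : T ⟶ G) (hT : Red.IsMaximalTorus i)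
    {M : Type} [AddCommGroup M] (hM : Red.IsSplitTorusWith M T) :
    ∃ (D : Red.SplitRed G) (τ : Grp.mk T ≅ Grp.mk D.T), i = τ.hom.hom.hom ≫ D.i ∧ D.P.IsReduced := by
  have := preconnectedSpace R
  obtain ⟨r, ⟨e⟩⟩ := Parab.TorRank156.finite_free hT.2.2.1 hM
  have hfin : Module.Finite ℤ M := Module.Finite.equiv e.toIntLinearEquiv.symm
  have hfree : Module.Free ℤ M := Module.Free.of_equiv e.toIntLinearEquiv.symm
  obtain ⟨D, h1, h2, h3⟩ := RootFinal136.exists_splitRed hG i hT hM
  obtain ⟨τ, hτ⟩ := exists_iso_of_eq D i hT h1 h2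
  exact ⟨D, τ, hτ, h3⟩

/-- characters of the torus of a splitting -/
theorem exists_char (D : Red.SplitRed G) (α : D.T ⟶ Red.Gm (Spec (CommRingCat.of R))) [IsMonHom α] :
    ∃ m : D.M, α = Chart.splitHom D ≫ Red.chi (Spec (CommRingCat.of R)) m := by
  obtain ⟨m, hm⟩ := exists_eq_chi (Chart.splitInv D ≫ α)
  exact ⟨m, by rw [← hm, Chart.splitHom_inv_assoc]⟩

end loc

section main

variable {R : Type u} [CommRing R] {G : Over (Spec (CommRingCat.of R))} [GrpObj G]
  (D : Red.SplitRed G) (c : Chart G (𝟙 (Spec (CommRingCat.of R))))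
variable {B : Type u} [CommRing B] [Algebra R B]

lemma exists_chart' (D : Red.SplitRed G) : Nonempty (Chart G (𝟙 (Spec (CommRingCat.of R)))) :=
  have : IsAffineHom G.hom := D.reductive.1
  exists_chart G _

/-- the character of an element of the character group -/
noncomputable abbrev ch (m : D.M) : D.T ⟶ Red.Gm (Spec (CommRingCat.of R)) :=
  Chart.splitHom D ≫ Red.chi (Spec (CommRingCat.of R)) m

lemma ch_zero : ch D 0 = 1 := by
  rw [ch, chi_zero, MonObj.comp_one]

lemma ch_neg (m : D.M) : ch D (-m) = (ch D m)⁻¹ := by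
  rw [ch, chi_neg, GrpObj.comp_inv]

lemma ch_injective [Nontrivial R] {m n : D.M} (h : ch D m = ch D n) : m = n := by
  have h1 := congrArg (fun z => Chart.splitInv D ≫ z) h
  simp only [Chart.splitInv_hom_assoc] at h1
  exact chi_injective h1

/-- elements of the weight space of a root -/
theorem mem_weightSpOf_root (a : D.idx) (x : LieS.LieR G B) :
    x ∈ LieWt.weightSpOf D.i (ch D (D.P.root a)) B ↔
      ∃ ξ : B, infR c B x = (c.datum D).uu a (DualNumber B) (TrivSqZeroExt.inr ξ) := by
  rw [mem_weightSpOf_iff c D]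
  exact isWt_root_iff (E := c.datum D) (c.good848 D) a (infR_mem c x)

theorem weightSpOf_eq_bot {m : D.M} (hm : m ≠ 0) (hr : ∀ a, D.P.root a ≠ m) :
    LieWt.weightSpOf D.i (ch D m) B = ⊥ := by
  obtain ⟨c⟩ := exists_chart' D
  rw [eq_bot_iff]
  intro x hx
  rw [mem_weightSpOf_iff c D] at hx
  have h1 := eq_one_of_isWt (E := c.datum D) (c.good848 D) hm hr (infR_mem c x) hx
  rw [Subgroup.mem_bot]
  apply infR_injective c
  rw [h1, _root_.map_one]

theorem weightSpOf_root_ne_bot [Nontrivial B] (a : D.idx) :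
    LieWt.weightSpOf D.i (ch D (D.P.root a)) B ≠ ⊥ := by
  obtain ⟨c⟩ := exists_chart' D
  intro h
  obtain ⟨x, hx⟩ := exists_infR c (uu_mem (c.datum D) a (1 : B))
  have h1 : x ∈ LieWt.weightSpOf D.i (ch D (D.P.root a)) B :=
    (mem_weightSpOf_root D c a x).mpr ⟨1, hx⟩
  rw [h, Subgroup.mem_bot] at h1
  rw [h1, _root_.map_one] at hx
  exact one_ne_zero ((uu_inr_eq_one_iff (E := c.datum D) a (1 : B)).mp hx.symm)

lemma root_ne_zero (a : D.idx) : D.P.root a ≠ 0 := D.P.ne_zero a

lemma exists_neg (a : D.idx) : ∃ b : D.idx, D.P.root b = - D.P.root a :=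
  ⟨D.P.reflectionPerm a a, by rw [D.P.root_reflectionPerm, D.P.reflection_apply_self]⟩

end main

section iff

variable {R : Type u} [CommRing R] [IsLocalRing R] {G : Over (Spec (CommRingCat.of R))} [GrpObj G]
  (D : Red.SplitRed G)

/-- **Roots as weights.** -/
theorem isRoot_iff (α : D.T ⟶ Red.Gm (Spec (CommRingCat.of R))) :
    LieWt.IsRoot D.i α ↔ ∃ a, α = ch D (D.P.root a) := by
  constructor
  · rintro ⟨h1, h2, h3⟩
    obtain ⟨m, rfl⟩ := exists_char D α
    have hm : m ≠ 0 := fun h => h2 (by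
      have := ch_zero D
      rw [ch, ← h] at this
      exact this)
    by_contra hne
    push Not at hne
    exact h3 (weightSpOf_eq_bot D hm fun a h => hne a (by rw [h]))
  · rintro ⟨a, rfl⟩
    refine ⟨inferInstance, ?_, weightSpOf_root_ne_bot D a⟩
    intro h
    rw [← ch_zero D] at h
    exact root_ne_zero D a (ch_injective D h)

variable {T : Over (Spec (CommRingCat.of R))} [GrpObj T]

lemma isRoot_iso (i : T ⟶ G) (τ : Grp.mk T ≅ Grp.mk D.T) (h : i = τ.hom.hom.hom ≫ D.i)
    (α : T ⟶ Red.Gm (Spec (CommRingCat.of R))) :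
    LieWt.IsRoot i α ↔ ∃ a, α = τ.hom.hom.hom ≫ ch D (D.P.root a) := by
  have e1 : τ.hom.hom.hom ≫ τ.inv.hom.hom = 𝟙 _ := congrArg (fun f => f.hom.hom) τ.hom_inv_id
  have e2 : τ.inv.hom.hom ≫ τ.hom.hom.hom = 𝟙 _ := congrArg (fun f => f.hom.hom) τ.inv_hom_id
  have m1 : IsMonHom τ.hom.hom.hom := τ.hom.hom.isMonHom_hom
  have m2 : IsMonHom τ.inv.hom.hom := τ.inv.hom.isMonHom_hom
  let e : T ≅ D.T := ⟨τ.hom.hom.hom, τ.inv.hom.hom, e1, e2⟩
  have key : LieWt.IsRoot i α ↔ LieWt.IsRoot D.i (τ.inv.hom.hom ≫ α) := by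
    unfold LieWt.IsRoot
    rw [weightSpOf_iso i D.i e h α R]
    refine and_congr ?_ (and_congr ?_ Iff.rfl)
    · constructor
      · intro h1
        infer_instance
      · intro h1
        have : α = τ.hom.hom.hom ≫ τ.inv.hom.hom ≫ α := by rw [← Category.assoc, e1, Category.id_comp]
        rw [this]
        infer_instance
    · apply not_congr
      constructor
      · rintro rfl
        exact MonObj.comp_one _
      · intro h1
        have : α = τ.hom.hom.hom ≫ τ.inv.hom.hom ≫ α := by rw [← Category.assoc, e1, Category.id_comp]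
        rw [this, h1, MonObj.comp_one]
  rw [key, isRoot_iff]
  constructor
  · rintro ⟨a, ha⟩
    exact ⟨a, by rw [← ha, ← Category.assoc, e1, Category.id_comp]⟩
  · rintro ⟨a, ha⟩
    exact ⟨a, by rw [ha, ← Category.assoc, e2, Category.id_comp]⟩

end iff

end K929.LieRoot
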