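import Groth.Prelude.Def_LieWt
import Groth.Agent.Sga3B.ChartEx
import Groth.Agent.Sga3B.CellTan

/-!
# Lie algebras of affine group schemes in charts

For an affine chart `c : Chart G s` (`s : Spec R ⟶ S`) and an `R`-algebra `B`, the elements of `LieS.Lie G B f`
(`f = Spec B ⟶ Spec R ⟶ S`) are the infinitesimal points of the coordinate ring: `inf c hf x : Pt R c.A B[ε]`.
-/

set_option autoImplicit false
universe u

open CategoryTheory MonoidalCategory CartesianMonoidalCategory MonObj GrpObj AlgebraicGeometry Limits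

namespace K929.LieDict

open Groth.Agent.Sga3B Cell PinMod DSPts GaPts

section maps

variable {R B C : Type u} [CommRing R] [CommRing B] [Algebra R B] [CommRing C] [Algebra R C]

/-- base change of dual numbers as an algebra map -/
noncomputable def dmap (φ : B →ₐ[R] C) : DualNumber B →ₐ[R] DualNumber C :=
  tsmap φ (φ : B →+ C) (fun b m => map_mul φ b m)

@[simp] lemma dmap_fst (φ : B →ₐ[R] C) (x : DualNumber B) : (dmap φ x).fst = φ x.fst := rfl
@[simp] lemma dmap_snd (φ : B →ₐ[R] C) (x : DualNumber B) : (dmap φ x).snd = φ x.snd := rfl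

/-- rescaling of dual numbers as an algebra map -/
noncomputable def dscale (R : Type u) [CommRing R] {B : Type u} [CommRing B] [Algebra R B] (b : B) :
    DualNumber B →ₐ[R] DualNumber B :=
  tsmap (AlgHom.id R B) (AddMonoidHom.mulLeft b) (fun x m => by
    change b * (x * m) = x * (b * m)
    ring)

@[simp] lemma dscale_fst (b : B) (x : DualNumber B) : (dscale R b x).fst = x.fst := rfl
@[simp] lemma dscale_snd (b : B) (x : DualNumber B) : (dscale R b x).snd = b * x.snd := rfl

lemma dmap_coe (φ : B →ₐ[R] C) : (dmap φ : DualNumber B →+* DualNumber C) = LieS.bcHom (φ : B →+* C) := by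
  apply RingHom.ext
  intro x
  apply TrivSqZeroExt.ext
  · simp [LieS.bcHom, TrivSqZeroExt.algebraMap_eq_inl']
  · simp [LieS.bcHom, TrivSqZeroExt.algebraMap_eq_inl']

lemma dscale_coe (b : B) : (dscale R b : DualNumber B →+* DualNumber B) = LieS.scaleHom b := by
  apply RingHom.ext
  intro x
  apply TrivSqZeroExt.ext
  · simp [LieS.scaleHom, TrivSqZeroExt.algebraMap_eq_inl']
  · simp [LieS.scaleHom, TrivSqZeroExt.algebraMap_eq_inl']
    ring

lemma tfst_comp_dmap (φ : B →ₐ[R] C) : (tfst R C).comp (dmap φ) = φ.comp (tfst R B) := rfl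

lemma tfst_comp_dscale (b : B) : (tfst R B).comp (dscale R b) = tfst R B := rfl

lemma tfst_comp_tinl : (tfst R B).comp (tinl R B) = AlgHom.id R B := rfl

lemma dmap_comp_tinl (φ : B →ₐ[R] C) : (dmap φ).comp (tinl R B) = (tinl R C).comp φ := by
  apply AlgHom.ext
  intro b
  apply TrivSqZeroExt.ext
  · simp
  · simp

lemma dscale_comp_tinl (b : B) : (dscale R b).comp (tinl R B) = tinl R B := by
  apply AlgHom.ext
  intro c
  apply TrivSqZeroExt.ext
  · simp
  · simp

lemma dmap_comp_dscale (φ : B →ₐ[R] C) (b : B) :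
    (dmap φ).comp (dscale R b) = (dscale R (φ b)).comp (dmap φ) := by
  apply AlgHom.ext
  intro c
  apply TrivSqZeroExt.ext
  · rfl
  · exact map_mul φ b _

end maps

section casts

variable {S : Scheme.{u}} {R : Type u} [CommRing R] {s : Spec (CommRingCat.of R) ⟶ S}
variable {B C : Type u} [CommRing B] [Algebra R B] [CommRing C] [Algebra R C]
variable {f : Spec (CommRingCat.of B) ⟶ S} {f' : Spec (CommRingCat.of C) ⟶ S}

/-- `Spec B` as an `S`-scheme -/
noncomputable def castP (hf : f = Spec.map (CommRingCat.ofHom (algebraMap R B)) ≫ s) :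
    tB s B ≅ LieS.pt B f :=
  Over.isoMk (Iso.refl (Spec (CommRingCat.of B))) (by
    change 𝟙 _ ≫ f = Spec.map _ ≫ s
    rw [Category.id_comp, hf])

/-- `Spec B[ε]` as an `S`-scheme -/
noncomputable def castD (hf : f = Spec.map (CommRingCat.ofHom (algebraMap R B)) ≫ s) :
    tB s (DualNumber B) ≅ LieS.dpt B f :=
  Over.isoMk (Iso.refl (Spec (CommRingCat.of (DualNumber B)))) (by
    change 𝟙 _ ≫ Spec.map _ ≫ f = Spec.map _ ≫ s
    rw [Category.id_comp, hf, ← Category.assoc, LieS.specMap_comp, LieS.algebraMap_comp_eq])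

@[simp] lemma castP_hom_left (hf : f = Spec.map (CommRingCat.ofHom (algebraMap R B)) ≫ s) :
    (castP hf).hom.left = 𝟙 _ := rfl

@[simp] lemma castD_hom_left (hf : f = Spec.map (CommRingCat.ofHom (algebraMap R B)) ≫ s) :
    (castD hf).hom.left = 𝟙 _ := rfl

lemma tMap_tinl_castP (hf : f = Spec.map (CommRingCat.ofHom (algebraMap R B)) ≫ s) :
    tMap s (tinl R B) ≫ (castP hf).hom = (castD hf).hom ≫ LieS.proj B f := by
  ext
  change Spec.map _ ≫ 𝟙 _ = 𝟙 _ ≫ Spec.map _
  rw [Category.comp_id, Category.id_comp]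
  congr 2

lemma tMap_tfst_castD (hf : f = Spec.map (CommRingCat.ofHom (algebraMap R B)) ≫ s) :
    tMap s (tfst R B) ≫ (castD hf).hom = (castP hf).hom ≫ LieS.zeroSec B f := by
  ext
  change Spec.map _ ≫ 𝟙 _ = 𝟙 _ ≫ Spec.map _
  rw [Category.comp_id, Category.id_comp]
  congr 2

lemma tMap_dscale_castD (hf : f = Spec.map (CommRingCat.ofHom (algebraMap R B)) ≫ s) (b : B) :
    tMap s (dscale R b) ≫ (castD hf).hom = (castD hf).hom ≫ LieS.scale B f b := by
  ext
  change Spec.map (CommRingCat.ofHom (dscale R b : DualNumber B →+* DualNumber B)) ≫ 𝟙 _ =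
    𝟙 _ ≫ Spec.map (CommRingCat.ofHom (LieS.scaleHom b))
  rw [Category.comp_id, Category.id_comp, dscale_coe]

lemma tMap_castP (hf : f = Spec.map (CommRingCat.ofHom (algebraMap R B)) ≫ s) (φ : B →ₐ[R] C)
    (hf' : Spec.map (CommRingCat.ofHom φ.toRingHom) ≫ f =
      Spec.map (CommRingCat.ofHom (algebraMap R C)) ≫ s) :
    tMap s φ ≫ (castP hf).hom = (castP hf').hom ≫ LieS.ptMap f φ.toRingHom := by
  ext
  change Spec.map _ ≫ 𝟙 _ = 𝟙 _ ≫ Spec.map _
  rw [Category.comp_id, Category.id_comp]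
  rfl

lemma tMap_dmap_castD (hf : f = Spec.map (CommRingCat.ofHom (algebraMap R B)) ≫ s) (φ : B →ₐ[R] C)
    (hf' : Spec.map (CommRingCat.ofHom φ.toRingHom) ≫ f =
      Spec.map (CommRingCat.ofHom (algebraMap R C)) ≫ s) :
    tMap s (dmap φ) ≫ (castD hf).hom = (castD hf').hom ≫ LieS.dptMap f φ.toRingHom := by
  ext
  change Spec.map (CommRingCat.ofHom (dmap φ : DualNumber B →+* DualNumber C)) ≫ 𝟙 _ =
    𝟙 _ ≫ Spec.map (CommRingCat.ofHom (LieS.bcHom φ.toRingHom))
  rw [Category.comp_id, Category.id_comp, dmap_coe]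
  rfl

lemma comp_hf (hf : f = Spec.map (CommRingCat.ofHom (algebraMap R B)) ≫ s) (φ : B →ₐ[R] C) :
    Spec.map (CommRingCat.ofHom φ.toRingHom) ≫ f =
      Spec.map (CommRingCat.ofHom (algebraMap R C)) ≫ s := by
  rw [hf, ← Category.assoc, LieS.specMap_comp]
  congr 3
  exact RingHom.ext fun r => φ.commutes r

end casts

section inf

variable {S : Scheme.{u}} {G : Over S} [GrpObj G] {R : Type u} [CommRing R]
  {s : Spec (CommRingCat.of R) ⟶ S} (c : Chart G s)
variable {B C : Type u} [CommRing B] [Algebra R B] [CommRing C] [Algebra R C]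
variable {f : Spec (CommRingCat.of B) ⟶ S}

/-- the infinitesimal points of the coordinate ring -/
noncomputable def infP (R A B : Type u) [CommRing R] [CommRing A] [Algebra R A] [PtGrp R A] [CommRing B] [Algebra R B] :
    Subgroup (Pt R A (DualNumber B)) := (Pt.mapHom (tfst R B)).ker

lemma mem_infP {A : Type u} [CommRing A] [Algebra R A] [PtGrp R A] {g : Pt R A (DualNumber B)} :
    g ∈ infP R A B ↔ Pt.map (tfst R B) g = 1 := Iff.rfl

/-- The element of the coordinate ring points attached to an element of the Lie algebra. -/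
noncomputable def inf (hf : f = Spec.map (CommRingCat.ofHom (algebraMap R B)) ≫ s) :
    LieS.Lie G B f →* Pt R c.A (DualNumber B) where
  toFun x := (c.pts (DualNumber B)).symm ((castD hf).hom ≫ x.1)
  map_one' := by
    rw [Subgroup.coe_one, MonObj.comp_one, map_one]
  map_mul' x y := by
    rw [Subgroup.coe_mul, MonObj.comp_mul, map_mul]

lemma pts_inf (hf : f = Spec.map (CommRingCat.ofHom (algebraMap R B)) ≫ s) (x : LieS.Lie G B f) :
    c.pts (DualNumber B) (inf c hf x) = (castD hf).hom ≫ x.1 := MulEquiv.apply_symm_apply _ _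

lemma inf_injective (hf : f = Spec.map (CommRingCat.ofHom (algebraMap R B)) ≫ s) :
    Function.Injective (inf c hf) := by
  intro x y h
  have h1 := congrArg (c.pts (DualNumber B)) h
  rw [pts_inf, pts_inf] at h1
  exact Subtype.ext ((cancel_epi _).mp h1)

lemma inf_mem (hf : f = Spec.map (CommRingCat.ofHom (algebraMap R B)) ≫ s) (x : LieS.Lie G B f) :
    inf c hf x ∈ infP R c.A B := by
  rw [mem_infP]
  apply (c.pts B).injective
  rw [← c.pts_nat, pts_inf, ← Category.assoc, tMap_tfst_castD, Category.assoc,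
    (LieS.mem_Lie_iff G B f x.1).1 x.2, MonObj.comp_one, map_one]

/-- The element of the Lie algebra attached to an infinitesimal point. -/
noncomputable def ofInf (hf : f = Spec.map (CommRingCat.ofHom (algebraMap R B)) ≫ s)
    (g : Pt R c.A (DualNumber B)) (hg : Pt.map (tfst R B) g = 1) : LieS.Lie G B f :=
  ⟨(castD hf).inv ≫ c.pts (DualNumber B) g, by
    rw [LieS.mem_Lie_iff]
    have h1 : LieS.zeroSec B f ≫ (castD hf).inv = (castP hf).inv ≫ tMap s (tfst R B) := by
      rw [Iso.comp_inv_eq, Category.assoc, tMap_tfst_castD, Iso.inv_hom_id_assoc]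
    rw [← Category.assoc, h1, Category.assoc, c.pts_nat, hg, map_one, MonObj.comp_one]⟩

@[simp] lemma inf_ofInf (hf : f = Spec.map (CommRingCat.ofHom (algebraMap R B)) ≫ s)
    (g : Pt R c.A (DualNumber B)) (hg : Pt.map (tfst R B) g = 1) : inf c hf (ofInf c hf g hg) = g := by
  apply (c.pts (DualNumber B)).injective
  rw [pts_inf]
  change (castD hf).hom ≫ (castD hf).inv ≫ _ = _
  rw [Iso.hom_inv_id_assoc]

lemma exists_inf_eq (hf : f = Spec.map (CommRingCat.ofHom (algebraMap R B)) ≫ s)
    (g : Pt R c.A (DualNumber B)) (hg : Pt.map (tfst R B) g = 1) :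
    ∃ x : LieS.Lie G B f, inf c hf x = g := ⟨ofInf c hf g hg, inf_ofInf c hf g hg⟩

/-- rescaling -/
lemma inf_smul (hf : f = Spec.map (CommRingCat.ofHom (algebraMap R B)) ≫ s) (b : B)
    (x : LieS.Lie G B f) : inf c hf (b • x) = Pt.map (dscale R b) (inf c hf x) := by
  apply (c.pts (DualNumber B)).injective
  rw [pts_inf, LieS.smul_val, ← c.pts_nat, pts_inf, ← Category.assoc, ← Category.assoc,
    tMap_dscale_castD]

/-- base change -/
lemma inf_pull (hf : f = Spec.map (CommRingCat.ofHom (algebraMap R B)) ≫ s) (φ : B →ₐ[R] C)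
    (hf' : Spec.map (CommRingCat.ofHom φ.toRingHom) ≫ f =
      Spec.map (CommRingCat.ofHom (algebraMap R C)) ≫ s) (x : LieS.Lie G B f) :
    inf c hf' (LieS.pull G f φ.toRingHom x) = Pt.map (dmap φ) (inf c hf x) := by
  apply (c.pts (DualNumber C)).injective
  rw [pts_inf, LieWt.pull_val, ← c.pts_nat, pts_inf, ← Category.assoc, ← Category.assoc,
    tMap_dmap_castD hf φ hf']

/-- the adjoint action -/
lemma inf_Ad (hf : f = Spec.map (CommRingCat.ofHom (algebraMap R B)) ≫ s)
    (g : LieS.pt B f ⟶ G) (γ : Pt R c.A B) (hγ : c.pts B γ = (castP hf).hom ≫ g)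
    (x : LieS.Lie G B f) : inf c hf (LieS.Ad G B f g x) =
      Pt.map (tinl R B) γ * inf c hf x * (Pt.map (tinl R B) γ)⁻¹ := by
  apply (c.pts (DualNumber B)).injective
  rw [pts_inf, LieWt.Ad_val, map_mul, map_mul, map_inv, ← c.pts_nat, hγ, pts_inf, ← Category.assoc,
    tMap_tinl_castP, Category.assoc, MonObj.comp_mul, MonObj.comp_mul, GrpObj.comp_inv]

end inf

section additive

variable {R A B : Type u} [CommRing R] [CommRing A] [Algebra R A] [PtGrp R A] [CommRing B] [Algebra R B]

lemma infP_ext {g g' : Pt R A (DualNumber B)} (hg : g ∈ infP R A B) (hg' : g' ∈ infP R A B)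
    (h : ∀ a, (g.hom a).snd = (g'.hom a).snd) : g = g' :=
  pt_ext_tsq (hg.trans hg'.symm) h

lemma infP_comm {g g' : Pt R A (DualNumber B)} (hg : g ∈ infP R A B) (hg' : g' ∈ infP R A B) :
    g * g' = g' * g := by
  apply infP_ext (mul_mem hg hg') (mul_mem hg' hg)
  intro a
  rw [snd_mul hg hg', snd_mul hg' hg, add_comm]

lemma infP_scale {g : Pt R A (DualNumber B)} (hg : g ∈ infP R A B) (b : B) :
    Pt.map (dscale R b) g ∈ infP R A B := by
  rw [mem_infP, Pt.map_map, tfst_comp_dscale]
  exact hg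

lemma infP_dmap {C : Type u} [CommRing C] [Algebra R C] {g : Pt R A (DualNumber B)}
    (hg : g ∈ infP R A B) (φ : B →ₐ[R] C) : Pt.map (dmap φ) g ∈ infP R A C := by
  rw [mem_infP, Pt.map_map, tfst_comp_dmap, ← Pt.map_map, mem_infP.1 hg, Pt.map_one]

lemma infP_conj {g : Pt R A (DualNumber B)} (hg : g ∈ infP R A B) (γ : Pt R A (DualNumber B)) :
    γ * g * γ⁻¹ ∈ infP R A B :=
  (MonoidHom.normal_ker _).conj_mem g hg γ

omit [PtGrp R A] in
@[simp] lemma snd_scale (b : B) (g : Pt R A (DualNumber B)) (a : A) :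
    ((Pt.map (dscale R b) g).hom a).snd = b * (g.hom a).snd := rfl

omit [PtGrp R A] in
@[simp] lemma snd_dmap {C : Type u} [CommRing C] [Algebra R C] (φ : B →ₐ[R] C)
    (g : Pt R A (DualNumber B)) (a : A) :
    ((Pt.map (dmap φ) g).hom a).snd = φ (g.hom a).snd := rfl

lemma scale_add (b b' : B) {g : Pt R A (DualNumber B)} (hg : g ∈ infP R A B) :
    Pt.map (dscale R (b + b')) g = Pt.map (dscale R b) g * Pt.map (dscale R b') g := by
  apply infP_ext (infP_scale hg _) (mul_mem (infP_scale hg _) (infP_scale hg _))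
  intro a
  rw [snd_mul (infP_scale hg _) (infP_scale hg _), snd_scale, snd_scale, snd_scale, add_mul]

end additive

end K929.LieDict
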