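import Groth.Agent.LieWt.K929.CentDim
import Groth.Agent.S5572
import Groth.Agent.Grpsch.KerMul

/-!
# The roots of the centralizer of the kernel torus of a root, over a field; the coroot
-/

set_option autoImplicit false
universe u v

open CategoryTheory MonoidalCategory CartesianMonoidalCategory MonObj GrpObj AlgebraicGeometry Limits
open scoped TensorProduct

namespace K929.HopfChart

open Groth.Agent.Books.AffBridge Groth.Agent.Sga3B Cell K929.LieDict K929.LieSplit K929.Act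
open Groth.Agent.Sga3B.RootCoact Groth.Agent.Sga3B.RootOrb Groth.Agent.Sga3B.RootGr
open Groth.Agent.Sga3B.RootGa Groth.Agent.Sga3B.RootRefl136 Groth.Agent.Sga3B.RootWt136
open Groth.Agent.Sga3B.RootCert Groth.Agent.Sga3B.RootBC136
open K929.CharLemmas K929.LieRoot

variable {k : Type u} [Field k] {M : Type} [AddCommGroup M]
variable {G T : Over (Spec (CommRingCat.of k))} [GrpObj G] [GrpObj T]
variable {i : T ⟶ G} {sp : Grp.mk T ≅ Grp.mk (Red.DS (Spec (CommRingCat.of k)) M)} (s : Setup i sp)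

/-- the rank of a root over a field -/
lemma Setup.rk_ne_zero_of_field {a : M} (ha : a ≠ 0) (h : LieWt.weightSpOf i (chr sp a) k ≠ ⊥) :
    ∀ x, s.rk a x ≠ 0 := by
  intro x
  have h1 := (s.isWt_iff_rk k ha).1 ((s.isWt_iff_weightSpOf ha).2 h)
  rwa [Subsingleton.elim x ((⊥ : PrimeSpectrum k).comap (algebraMap k k))]

/-- **The weights of the centralizer of the kernel torus.** -/
theorem Setup.weightSpOf_cent_ne_bot_iff [Module.Finite ℤ M] [Module.Free ℤ M] [IsMonHom i] [Mono i]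
    {Ta Z : Over (Spec (CommRingCat.of k))} [GrpObj Ta] [GrpObj Z] (j : Ta ⟶ T)
    (z : Z ⟶ G) [IsMonHom z] (hz : Red.IsCentralizerOf (j ≫ i) z) {a : M} (ha : a ≠ 0)
    (hrk : ∀ x, s.rk a x ≠ 0) (hj : j ≫ chr sp a = 1)
    (f' : Red.DS (Spec (CommRingCat.of k)) (M ⧸ satQ a) ⟶ Ta) (hf' : f' ≫ j = kerT sp a)
    (iz : T ⟶ Z) (hiz : iz ≫ z = i) {m : M} (hm : m ≠ 0) :
    LieWt.weightSpOf iz (chr sp m) k ≠ ⊥ ↔ m = a ∨ m = -a := by
  have hzm : Mono z := hz.2.1
  symm
  constructor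
  · intro hmem
    have hrm : s.rk m ((⊥ : PrimeSpectrum k).comap (algebraMap k k)) ≠ 0 := by
      rcases hmem with rfl | rfl
      · exact hrk _
      · exact s.rk_neg ha (hrk _)
    have h1 : LieWt.weightSpOf i (chr sp m) k ≠ ⊥ :=
      (s.isWt_iff_weightSpOf hm).1 ((s.isWt_iff_rk k hm).2 hrm)
    rw [Ne, Subgroup.eq_bot_iff_forall] at h1
    push Not at h1
    obtain ⟨y, hy, hy1⟩ := h1
    obtain ⟨w, -, hw⟩ : y ∈ Subgroup.map (LieS.map k (Spec.map (CommRingCat.ofHom (algebraMap k k))) z) ⊤ := by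
      rw [s.mem_map_cent j z hz ha hrk hj f' hf']
      intro n _ hn2 hn3
      rw [s.mem_weightSpOf'] at hy
      refine hy n ?_
      rintro rfl
      rcases hmem with h | h
      · exact hn2 h
      · exact hn3 h
    intro hbot
    have h2 : w ∈ LieWt.weightSpOf iz (chr sp m) k := by
      rw [mem_weightSpOf_map z iz i hiz, hw]
      exact hy
    rw [hbot, Subgroup.mem_bot] at h2
    apply hy1
    rw [← hw, h2, _root_.map_one]
  · intro h1
    rw [Ne, Subgroup.eq_bot_iff_forall] at h1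
    push Not at h1
    obtain ⟨w, hw, hw1⟩ := h1
    rw [mem_weightSpOf_map z iz i hiz, s.mem_weightSpOf'] at hw
    have h2 := (s.mem_map_cent j z hz ha hrk hj f' hf'
      (LieS.map k (Spec.map (CommRingCat.ofHom (algebraMap k k))) z w)).1 ⟨w, trivial, rfl⟩
    by_contra hmem
    rw [not_or] at hmem
    apply hw1
    apply map_injective z (Spec.map (CommRingCat.ofHom (algebraMap k k)))
    rw [_root_.map_one]
    refine s.eq_one_of_noComp fun n => ?_
    by_cases hn : n = m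
    · subst hn
      exact h2 n hm hmem.1 hmem.2
    · exact hw n hn

/-- **A splitting of the centralizer of the kernel torus of a root: it has exactly the roots `± a`.** -/
theorem exists_split_cent [Module.Finite ℤ M] [Module.Free ℤ M] (hG : Red.IsReductive G)
    (hT : Red.IsMaximalTorus i) (s : Setup i sp)
    {Ta Z : Over (Spec (CommRingCat.of k))} [GrpObj Ta] [GrpObj Z] (hTa : Red.IsTorus Ta) (j : Ta ⟶ T)
    [IsMonHom j] [Mono j] (z : Z ⟶ G) [IsMonHom z]
    (hz : Red.IsCentralizerOf (j ≫ i) z) {a : M} (ha : a ≠ 0)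
    (hrk : ∀ x, s.rk a x ≠ 0) (hj : j ≫ chr sp a = 1)
    (f' : Red.DS (Spec (CommRingCat.of k)) (M ⧸ satQ a) ⟶ Ta) (hf' : f' ≫ j = kerT sp a)
    (iz : T ⟶ Z) (hiz : iz ≫ z = i) :
    ∃ (D : Red.SplitRed Z) (τ : Grp.mk T ≅ Grp.mk D.T) (b : D.idx), iz = τ.hom.hom.hom ≫ D.i ∧
      D.P.IsReduced ∧ chr sp a = τ.hom.hom.hom ≫ ch D (D.P.root b) ∧
      ∀ c : D.idx, D.P.root c = D.P.root b ∨ D.P.root c = -D.P.root b := by
  have hi : IsMonHom i := hT.1
  have him : Mono i := hT.2.1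
  have hzm : Mono z := hz.2.1
  have hZ : Red.IsReductive Z := Groth.Agent.Agf.H600.CentRedK.isReductive_of_isCentralizerOf hG (j ≫ i) hTa z hz
  have hTz : Red.IsMaximalTorus iz := isMaximalTorus_of_sub z iz hiz hT
  obtain ⟨D, τ, h1, h2⟩ := exists_split hZ iz hTz ⟨sp⟩
  have m1 : IsMonHom τ.hom.hom.hom := τ.hom.hom.isMonHom_hom
  have m2 : IsMonHom sp.hom.hom.hom := sp.hom.hom.isMonHom_hom
  have e2 : τ.inv.hom.hom ≫ τ.hom.hom.hom = 𝟙 _ := congrArg (fun f => f.hom.hom) τ.inv_hom_id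
  have hw := fun {m : M} (hm : m ≠ 0) => s.weightSpOf_cent_ne_bot_iff j z hz ha hrk hj f' hf' iz hiz hm
  have hchr : ∀ m : M, IsMonHom (chr sp m) := by
    intro m
    rw [chr]
    have : IsMonHom (Red.chi (Spec (CommRingCat.of k)) m) :=
      AdCentre.isMonHom_DSmap (S := Spec (CommRingCat.of k)) _
    infer_instance
  have hroot : LieWt.IsRoot iz (chr sp a) := by
    refine ⟨hchr a, ?_, (hw ha).2 (Or.inl rfl)⟩
    intro h3
    apply ha
    rw [← chi_eq_one_iff (S := Spec (CommRingCat.of k)), ← inv_chr sp, h3, MonObj.comp_one]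
  obtain ⟨b, hb⟩ := (isRoot_iso D iz τ h1 (chr sp a)).1 hroot
  refine ⟨D, τ, b, h1, h2, hb, ?_⟩
  intro c
  have h3 : LieWt.IsRoot iz (τ.hom.hom.hom ≫ ch D (D.P.root c)) := (isRoot_iso D iz τ h1 _).2 ⟨c, rfl⟩
  -- the character as a character of `M`
  have h4 : IsMonHom sp.inv.hom.hom := sp.inv.hom.isMonHom_hom
  have h5 : IsMonHom (sp.inv.hom.hom ≫ τ.hom.hom.hom ≫ ch D (D.P.root c)) := inferInstance
  obtain ⟨n, hn⟩ := exists_eq_chi (sp.inv.hom.hom ≫ τ.hom.hom.hom ≫ ch D (D.P.root c))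
  have h6 : τ.hom.hom.hom ≫ ch D (D.P.root c) = chr sp n := by
    rw [chr, ← hn]
    exact ((Category.assoc _ _ _).symm.trans ((congrArg (fun w => w ≫ _) (sp_hom_inv sp)).trans
      (Category.id_comp _))).symm
  rw [h6] at h3
  have hn0 : n ≠ 0 := by
    rintro rfl
    exact h3.2.1 Setup.chr_zero
  have h7 : ∀ x y, τ.hom.hom.hom ≫ ch D x = τ.hom.hom.hom ≫ ch D y → x = y := by
    intro x y h
    have h8 := congrArg (fun w => τ.inv.hom.hom ≫ w) h
    have h9 : ∀ w : D.T ⟶ Red.Gm (Spec (CommRingCat.of k)), τ.inv.hom.hom ≫ τ.hom.hom.hom ≫ w = w := fun w =>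
      (Category.assoc _ _ _).symm.trans ((congrArg (fun v => v ≫ w) e2).trans (Category.id_comp _))
    simp only [h9] at h8
    exact ch_injective D h8
  rcases (hw hn0).1 h3.2.2 with rfl | rfl
  · left
    apply h7
    rw [h6, hb]
  · right
    apply h7
    rw [h6, ch_neg, GrpObj.comp_inv, ← hb, chr_neg]

section coroot

variable {Z : Over (Spec (CommRingCat.of k))} [GrpObj Z] (D : Red.SplitRed Z) (b : D.idx)

/-- the cocharacter of a coroot -/
noncomputable def cochar (ψ : D.M →+ ℤ) : Red.Gm (Spec (CommRingCat.of k)) ⟶ D.T :=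
  Red.DSmap (Spec (CommRingCat.of k)) ψ ≫ Chart.splitInv D

instance (ψ : D.M →+ ℤ) : IsMonHom (cochar D ψ) := by
  have : IsMonHom (Red.DSmap (Spec (CommRingCat.of k)) ψ) :=
    AdCentre.isMonHom_DSmap (S := Spec (CommRingCat.of k)) _
  rw [cochar]
  infer_instance

lemma cochar_ch (ψ : D.M →+ ℤ) (m : D.M) :
    cochar D ψ ≫ ch D m = Red.chi (Spec (CommRingCat.of k)) (ψ m) := by
  rw [cochar, ch, Category.assoc, Chart.splitInv_hom_assoc, DSmap_chi]

/-- cocharacters -/
lemma exists_cochar (l : Red.Gm (Spec (CommRingCat.of k)) ⟶ D.T) [IsMonHom l] :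
    ∃ ψ : D.M →+ ℤ, l = cochar D ψ := by
  have h0 : IsMonHom (l ≫ Chart.splitHom D) := inferInstance
  obtain ⟨ψ, hψ⟩ := DSRigid.exists_eq_DSmap (R := k) (M := ℤ) (N := D.M) (l ≫ Chart.splitHom D)
  refine ⟨ψ, ?_⟩
  rw [cochar, ← hψ, Category.assoc, Chart.splitHom_inv, Category.comp_id]

lemma DSmap_zero {S : Scheme.{u}} {M N : Type} [AddCommGroup M] [AddCommGroup N] :
    Red.DSmap S (0 : M →+ N) = 1 := by
  have h : ∀ (T : Over S) (x : T ⟶ Red.DS S N), x ≫ Red.DSmap S (0 : M →+ N) = 1 := by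
    intro T x
    rw [← DSPts.dsEquiv_dsChar (x ≫ Red.DSmap S (0 : M →+ N)), DSPts.dsChar_DSmap]
    rw [← map_one (DSPts.dsEquiv T M)]
    congr 1
    refine MonoidHom.ext fun m => ?_
    exact map_one (DSPts.dsChar x)
  have := h _ (𝟙 _)
  rwa [Category.id_comp] at this

lemma coroot_two : D.P.coroot b (D.P.root b) = 2 := by
  have h1 := D.P.root_coroot_two b
  rw [D.pairing_eq] at h1
  exact h1

variable (hb : ∀ c : D.idx, D.P.root c = D.P.root b ∨ D.P.root c = -D.P.root b)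

/-- the characters killed by the coroots -/
def corN : AddSubgroup D.M where
  carrier := {m | ∀ a : D.idx, D.P.coroot a m = 0}
  zero_mem' := fun a => map_zero _
  add_mem' := fun {x y} hx hy a => by rw [map_add, hx a, hy a, add_zero]
  neg_mem' := fun {x} hx a => by rw [map_neg, hx a, neg_zero]

include hb in
lemma coroot_of (c : D.idx) (m : D.M) (h : D.P.coroot b m = 0) : D.P.coroot c m = 0 := by
  rcases hb c with h1 | h1
  · rw [D.P.root.injective h1, h]
  · have h2 : c = D.P.reflectionPerm b b := by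
      apply D.P.root.injective
      rw [D.P.root_reflectionPerm, D.P.reflection_apply_self, h1]
    rw [h2, D.P.coroot_reflectionPerm, D.P.coreflection_apply_self, LinearMap.neg_apply, h, neg_zero]

include hb in
lemma mem_corN (m : D.M) : (2 : ℤ) • m - (D.P.coroot b m) • D.P.root b ∈ corN D := by
  intro c
  apply coroot_of D b hb
  rw [map_sub, map_smul, map_smul, coroot_two, smul_eq_mul, smul_eq_mul]
  ring

include hb in
/-- **The coroot.** -/
theorem existsUnique_coroot (DD : Over (Spec (CommRingCat.of k))) [GrpObj DD] (d : DD ⟶ Z) [IsMonHom d]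
    (hker : ∃ (C : Over (Spec (CommRingCat.of k))) (_ : GrpObj C) (f₀ : Z ⟶ C), IsMonHom f₀ ∧
      (∀ (X : Over (Spec (CommRingCat.of k))) (a b : X ⟶ C), a * b = b * a) ∧ AlgGrp.IsKernel d f₀)
    (hkill : RedSub.KilledByCommutative d) :
    ∃! lam : Red.Gm (Spec (CommRingCat.of k)) ⟶ D.T, IsMonHom lam ∧
      (∃ c : Red.Gm (Spec (CommRingCat.of k)) ⟶ DD, c ≫ d = lam ≫ D.i) ∧
      lam ≫ ch D (D.P.root b) = Red.chi (Spec (CommRingCat.of k)) (2 : ℤ) := by
  obtain ⟨f, hf, hfT, hfK⟩ := Groth.Agent.S5572.result D (corN D) (fun m => Iff.rfl)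
  obtain ⟨K, _, κ, hκ, hK⟩ := Groth.Agent.Grpsch.KerMul.exists_kernel f
  obtain ⟨-, -, hKk⟩ := hfK K κ hK
  have hcomm : ∀ (X : Over (Spec (CommRingCat.of k))) (x y : X ⟶ Red.DS (Spec (CommRingCat.of k)) ↥(corN D)),
      x * y = y * x := by
    intro X x y
    apply (DSPts.dsEquiv X ↥(corN D)).symm.injective
    change DSPts.dsChar _ = DSPts.dsChar _
    rw [DSPts.dsChar_mul, DSPts.dsChar_mul, mul_comm]
  have hcf : ∀ ψ : D.M →+ ℤ, cochar D ψ ≫ D.i ≫ f =
      Red.DSmap (Spec (CommRingCat.of k)) (ψ.comp (corN D).subtype) := by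
    intro ψ
    rw [hfT, cochar, Category.assoc]
    have h1 := Chart.splitInv_hom_assoc (D := D) (Red.DSmap (Spec (CommRingCat.of k)) (corN D).subtype)
    rw [← BorSpan613.DSmap_comp_DSmap]
    exact congrArg (fun w => Red.DSmap (Spec (CommRingCat.of k)) ψ ≫ w) h1
  refine ⟨cochar D (D.P.coroot b).toAddMonoidHom, ⟨inferInstance, ?_, ?_⟩, ?_⟩
  · obtain ⟨C, _, f₀, hf₀, hC, hd⟩ := hker
    have h1 : (cochar D (D.P.coroot b).toAddMonoidHom ≫ D.i) ≫ f = toUnit _ ≫ η := by
      rw [Category.assoc, hcf]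
      have h2 : (D.P.coroot b).toAddMonoidHom.comp (corN D).subtype = 0 := by
        ext x
        exact x.2 b
      rw [h2, DSmap_zero]
      rfl
    have h2 : hK.lift _ _ h1 ≫ κ = cochar D (D.P.coroot b).toAddMonoidHom ≫ D.i := hK.lift_fst _ _ _
    have h3 : (cochar D (D.P.coroot b).toAddMonoidHom ≫ D.i) ≫ f₀ = toUnit _ ≫ η := by
      rw [← h2, Category.assoc, hKk C f₀ hC, MonObj.comp_one]
      rfl
    exact ⟨hd.lift _ _ h3, hd.lift_fst _ _ _⟩
  · rw [cochar_ch]
    congr 1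
    exact coroot_two D b
  · rintro lam ⟨h1, ⟨c, hc⟩, h3⟩
    obtain ⟨ψ, rfl⟩ := exists_cochar D lam
    congr 1
    rw [cochar_ch] at h3
    have h4 : ψ (D.P.root b) = 2 := chi_injective h3
    have h5 : Red.DSmap (Spec (CommRingCat.of k)) (ψ.comp (corN D).subtype) = 1 := by
      rw [← hcf, ← Category.assoc, ← hc, Category.assoc, hkill _ f hcomm, MonObj.comp_one]
    have h6 : ∀ n : corN D, ψ n = 0 := by
      intro n
      have h7 : Red.DSmap (Spec (CommRingCat.of k)) (ψ.comp (corN D).subtype) ≫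
          Red.chi (Spec (CommRingCat.of k)) n = 1 := by
        have h8 : IsMonHom (Red.chi (Spec (CommRingCat.of k)) n) :=
          AdCentre.isMonHom_DSmap (S := Spec (CommRingCat.of k)) (zmultiplesHom ↥(corN D) n)
        rw [h5]
        exact MonObj.one_comp (Red.chi (Spec (CommRingCat.of k)) n)
      rw [DSmap_chi, chi_eq_one_iff] at h7
      exact h7
    ext m
    have h7 := h6 ⟨_, mem_corN D b hb m⟩
    simp only [map_sub, map_zsmul, h4] at h7
    change ψ m = D.P.coroot b m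
    simp only [smul_eq_mul] at h7
    linarith

end coroot

end K929.HopfChart
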