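import Groth.Agent.LieWt.K929.LieNoRoot
import Groth.Agent.S3951
import Groth.Agent.S3952
import Groth.Agent.S3953
import Groth.Agent.S3988
import Groth.Agent.S0348
import Groth.Agent.Flat2B.SmoothGeom
import Groth.Agent.Sga3B.AlgBc2
import Groth.Agent.RedSub.H641.TypeRBc

/-!
# Split reductive groups with two roots: the two Borel subgroups
-/

set_option autoImplicit false
universe u v

open CategoryTheory MonoidalCategory CartesianMonoidalCategory MonObj GrpObj AlgebraicGeometry Limits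

namespace K929.TwoBorel

open Groth.Agent.Sga3B Groth.Agent.RedSub.H633

section root

variable {idx M : Type} [AddCommGroup M] (P : RootPairing idx ℤ M (Module.Dual ℤ M))

/-- all roots are equal or opposite -/
def OneRoot : Prop := ∀ a b : idx, P.root b = P.root a ∨ P.root b = - P.root a

variable {P} (h : OneRoot P)

include h

lemma OneRoot.eq_or (a b : idx) : b = a ∨ b = P.reflectionPerm a a := by
  rcases h a b with h1 | h1
  · exact Or.inl (P.root.injective h1)
  · right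
    apply P.root.injective
    rw [h1, P.root_reflectionPerm, P.reflection_apply_self]

lemma OneRoot.coroot (a b : idx) : P.coroot b = P.coroot a ∨ P.coroot b = - P.coroot a := by
  rcases h.eq_or a b with rfl | rfl
  · exact Or.inl rfl
  · right
    rw [P.coroot_reflectionPerm, P.coreflection_apply_self]

variable [IsAddTorsionFree M] [IsAddTorsionFree (Module.Dual ℤ M)]

/-- the base with one given simple root -/
def OneRoot.base (a : idx) : P.Base where
  support := {a}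
  linearIndepOn_root := by
    rw [Finset.coe_singleton]
    exact LinearIndepOn.singleton (P.ne_zero a)
  linearIndepOn_coroot := by
    rw [Finset.coe_singleton]
    exact LinearIndepOn.singleton (P.flip.ne_zero a)
  root_mem_or_neg_mem b := by
    rw [Finset.coe_singleton, Set.image_singleton]
    rcases h a b with h1 | h1
    · exact Or.inl (by rw [h1]; exact AddSubmonoid.subset_closure rfl)
    · exact Or.inr (by rw [h1, neg_neg]; exact AddSubmonoid.subset_closure rfl)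
  coroot_mem_or_neg_mem b := by
    rw [Finset.coe_singleton, Set.image_singleton]
    rcases h.coroot a b with h1 | h1
    · exact Or.inl (by rw [h1]; exact AddSubmonoid.subset_closure rfl)
    · exact Or.inr (by rw [h1, neg_neg]; exact AddSubmonoid.subset_closure rfl)

lemma OneRoot.posRoots_base (a : idx) : _root_.RedSub.posRoots P (h.base a) = {a} := by
  ext b
  rw [Set.mem_singleton_iff]
  constructor
  · intro hb
    change P.root b ∈ AddSubmonoid.closure (P.root '' (({a} : Finset idx) : Set idx)) at hb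
    rw [Finset.coe_singleton, Set.image_singleton, AddSubmonoid.mem_closure_singleton] at hb
    obtain ⟨n, hn⟩ := hb
    rcases h a b with h1 | h1
    · exact P.root.injective h1
    · exfalso
      rw [h1] at hn
      have h2 : (n + 1) • P.root a = 0 := by
        rw [add_smul, hn, one_smul, neg_add_cancel]
      have h3 := P.ne_zero a
      rcases smul_eq_zero.mp h2 with h4 | h4
      · omega
      · exact h3 h4
  · rintro rfl
    exact AddSubmonoid.subset_closure ⟨b, by simp [OneRoot.base], rfl⟩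

lemma OneRoot.negRoots_base (a : idx) : _root_.RedSub.negRoots P (h.base a) = {P.reflectionPerm a a} := by
  ext b
  rw [Set.mem_singleton_iff, Groth.Agent.RedSub.H670.PosRoots.mem_negRoots_iff,
    ← Groth.Agent.RedSub.H670.PosRoots.mem_posRoots_iff, h.posRoots_base, Set.mem_singleton_iff]
  have hne : a ≠ P.reflectionPerm a a := by
    intro h1
    have h2 := congrArg P.root h1
    rw [P.root_reflectionPerm, P.reflection_apply_self] at h2
    exact P.ne_zero a (self_eq_neg.mp h2)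
  rcases h.eq_or a b with rfl | rfl
  · exact ⟨fun h1 => absurd rfl h1, fun h1 => absurd h1 hne⟩
  · exact ⟨fun _ => rfl, fun _ h1 => hne h1.symm⟩

omit [IsAddTorsionFree M] [IsAddTorsionFree (Module.Dual ℤ M)] in
lemma OneRoot.exists_posRoots (b : P.Base) (a₀ : idx) : ∃ a, _root_.RedSub.posRoots P b = {a} := by
  have key : ∀ a, a ∈ _root_.RedSub.posRoots P b → _root_.RedSub.posRoots P b = {a} := by
    intro a ha
    ext c
    rw [Set.mem_singleton_iff]
    refine ⟨fun hc => ?_, fun hc => hc ▸ ha⟩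
    rcases h.eq_or a c with rfl | rfl
    · rfl
    · exfalso
      rw [Groth.Agent.RedSub.H633.PosRoots.mem_posRoots_iff] at ha hc
      have : b.height (P.reflectionPerm a a) = - b.height a := b.height_reflectionPerm_self a
      omega
  rcases b.root_mem_or_neg_mem a₀ with h1 | h1
  · exact ⟨a₀, key a₀ h1⟩
  · refine ⟨P.reflectionPerm a₀ a₀, key _ ?_⟩
    unfold _root_.RedSub.posRoots
    rw [Set.mem_ofPred_eq, P.root_reflectionPerm, P.reflection_apply_self]
    exact h1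

end root

section maps

variable {S : Scheme.{u}} {G : Over S} [GrpObj G] (D : Red.SplitRed G)

/-- one coordinate -/
noncomputable def inj1 {X : Over S} (x : X ⟶ Red.Ga S) : X ⟶ _root_.RedSub.pow (Red.Ga S) 1 :=
  PowPts.mkPt (fun _ => x)

lemma inj1_prodMap {X : Over S} (x : X ⟶ Red.Ga S) (f : Fin 1 → (Red.Ga S ⟶ G)) :
    inj1 x ≫ _root_.RedSub.prodMap (Red.Ga S) 1 f = x ≫ f 0 := by
  rw [inj1, PowPts.mkPt_comp_prodMap]
  simp

lemma inj1_injective {X : Over S} {x y : X ⟶ Red.Ga S} (h : inj1 x = inj1 y) : x = y := by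
  have h1 := congrArg (fun z => z ≫ PowPts.fstP (Red.Ga S) 0) h
  simp only [inj1, PowPts.mkPt, PowPts.liftP_fst] at h1
  exact h1

lemma pt_borelMap {X : Over S} (t : X ⟶ D.T) (x : X ⟶ Red.Ga S) (a : D.idx) :
    lift t (inj1 x) ≫ _root_.RedSub.borelMap D (fun _ : Fin 1 => a) = (t ≫ D.i) * (x ≫ D.u a) := by
  unfold _root_.RedSub.borelMap
  rw [MonObj.comp_mul, lift_fst_assoc, lift_snd_assoc, inj1_prodMap]

lemma pt_cellMap {X : Over S} (y : X ⟶ Red.Ga S) (t : X ⟶ D.T) (x : X ⟶ Red.Ga S) (a' a : D.idx) :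
    lift (inj1 y) (lift t (inj1 x)) ≫
      _root_.RedSub.cellMap D (fun _ : Fin 1 => a') (fun _ : Fin 1 => a) =
      (y ≫ D.u a') * ((t ≫ D.i) * (x ≫ D.u a)) := by
  unfold _root_.RedSub.cellMap
  rw [MonObj.comp_mul, MonObj.comp_mul, lift_fst_assoc, lift_snd_assoc, lift_snd_assoc,
    lift_fst_assoc, lift_snd_assoc, inj1_prodMap, inj1_prodMap]

lemma isMonHom_u (a : D.idx) : IsMonHom (D.u a) := (D.rootHom a).1
lemma isMonHom_i : IsMonHom D.i := D.maximalTorus.1

lemma i_borelMap (a : D.idx) :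
    lift (𝟙 D.T) (inj1 1) ≫ _root_.RedSub.borelMap D (fun _ : Fin 1 => a) = D.i := by
  have := isMonHom_u D a
  rw [pt_borelMap, Category.id_comp, MonObj.one_comp, _root_.mul_one]

lemma u_borelMap (a : D.idx) :
    lift 1 (inj1 (𝟙 (Red.Ga S))) ≫ _root_.RedSub.borelMap D (fun _ : Fin 1 => a) = D.u a := by
  have := isMonHom_i D
  rw [pt_borelMap, Category.id_comp, MonObj.one_comp, _root_.one_mul]

instance torsM (D : Red.SplitRed G) : IsAddTorsionFree D.M := .of_isTorsionFree ℤ D.M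
instance torsN (D : Red.SplitRed G) : IsAddTorsionFree (Module.Dual ℤ D.M) :=
  .of_isTorsionFree ℤ (Module.Dual ℤ D.M)

/-- the Borel subgroup of a root -/
theorem exists_borel {D : Red.SplitRed G} (h : OneRoot D.P) (a : D.idx) :
    ∃ (B : Over S) (_ : GrpObj B) (b : B ⟶ G) (t : D.T ⟶ B) (v : Red.Ga S ⟶ B),
      Red.IsBorel b ∧ t ≫ b = D.i ∧ v ≫ b = D.u a := by
  obtain ⟨-, B, hB, b, e, h1, h2⟩ := Groth.Agent.S3952.result D (h.base a) (fun _ : Fin 1 => a)
    ⟨fun x y _ => Subsingleton.elim x y, by rw [h.posRoots_base, Set.range_const]⟩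
  refine ⟨B, hB, b, lift (𝟙 D.T) (inj1 1) ≫ e.hom, lift 1 (inj1 (𝟙 (Red.Ga S))) ≫ e.hom, h1, ?_, ?_⟩
  · rw [Category.assoc, h2, i_borelMap]
  · rw [Category.assoc, h2, u_borelMap]

/-- the big cell -/
theorem isOpenImmersion_cell {D : Red.SplitRed G} (h : OneRoot D.P) (a : D.idx) :
    IsOpenImmersion (_root_.RedSub.cellMap D (fun _ : Fin 1 => D.P.reflectionPerm a a) (fun _ : Fin 1 => a)).left :=
  (Groth.Agent.S3951.result D (h.base a) (fun _ : Fin 1 => D.P.reflectionPerm a a) (fun _ : Fin 1 => a)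
    ⟨fun x y _ => Subsingleton.elim x y, by rw [h.negRoots_base, Set.range_const]⟩
    ⟨fun x y _ => Subsingleton.elim x y, by rw [h.posRoots_base, Set.range_const]⟩).1

end maps

section field

variable {k : Type u} [Field k]

lemma opens_eq_top (V : (Spec (CommRingCat.of k)).Opens) (s : Spec (CommRingCat.of k)) (hs : s ∈ V) :
    V = ⊤ := by
  ext x
  have : x = s := Subsingleton.elim (α := PrimeSpectrum k) x s
  rw [this]
  exact ⟨fun _ => trivial, fun _ => hs⟩

lemma isIso_opens_ι (V : (Spec (CommRingCat.of k)).Opens) (s : Spec (CommRingCat.of k)) (hs : s ∈ V) :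
    IsIso V.ι := by
  rw [opens_eq_top V s hs]
  exact inferInstanceAs (IsIso (Scheme.topIso _).hom)

lemma hasConnectedFibres (X : Over (Spec (CommRingCat.of k))) [ConnectedSpace X.left] :
    _root_.RedSub.HasConnectedFibres X := by
  intro s
  have : X.hom.base ⁻¹' {s} = Set.univ := by
    ext x
    simp only [Set.mem_preimage, Set.mem_singleton_iff, Set.mem_univ, iff_true]
    exact Subsingleton.elim (α := PrimeSpectrum k) _ s
  rw [this]
  exact isConnected_univ

variable {H : Over (Spec (CommRingCat.of k))} [GrpObj H]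

lemma isTypeR_of_borel (hH : Red.IsReductive H) {B T : Over (Spec (CommRingCat.of k))} [GrpObj B] [GrpObj T]
    (b : B ⟶ H) (hb : Red.IsBorelOver k b) (t : T ⟶ B) (hT : Red.IsMaximalTorus (t ≫ b)) :
    _root_.RedSub.IsTypeR b := by
  obtain ⟨h1, h2, h3, h4, -, -⟩ := hb
  have h5 : IsAffineHom H.hom := hH.1
  have h6 : IsAffineHom B.hom := by
    rw [← Over.w b]
    infer_instance
  refine Groth.Agent.RedSub.H641.TypeRBc.isTypeR_of_torus hH ⟨h1, inferInstance⟩ h3 inferInstance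
    (hasConnectedFibres B) t hT

variable [IsAlgClosed k] {D : Red.SplitRed H} (h : OneRoot D.P)

include h

theorem exists_root_of_borel (a₀ : D.idx) {B : Over (Spec (CommRingCat.of k))} [GrpObj B] (b : B ⟶ H)
    (hb : Red.IsBorelOver k b) (t : D.T ⟶ B) (ht : t ≫ b = D.i) :
    ∃ a, ∀ d, (∃ v : Red.Ga _ ⟶ B, v ≫ b = D.u d) ↔ d = a := by
  obtain ⟨V, hV, bb, hbb⟩ := Groth.Agent.S3988.result D b (AlgBc.isBorel_iff.mpr hb) t ht
    (IsLocalRing.closedPoint k : Spec (CommRingCat.of k))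
  have hι := isIso_opens_ι V _ hV
  obtain ⟨a, ha⟩ := h.exists_posRoots bb a₀
  refine ⟨a, fun d => ?_⟩
  rw [ha] at hbb
  rw [← Set.mem_singleton_iff, ← hbb d]
  constructor
  · rintro ⟨v, hv⟩
    exact ⟨(Over.pullback V.ι).map v, by rw [← Functor.map_comp, hv]⟩
  · rintro ⟨v, hv⟩
    refine ⟨(Over.pullback V.ι).preimage v, (Over.pullback V.ι).map_injective ?_⟩
    rw [Functor.map_comp, Functor.map_preimage, hv]

omit [IsAlgClosed k] in
theorem exists_iso_of_root (a : D.idx) {B B' : Over (Spec (CommRingCat.of k))} [GrpObj B] [GrpObj B']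
    (b : B ⟶ H) (hb : Red.IsBorelOver k b) (t : D.T ⟶ B) (ht : t ≫ b = D.i)
    (hu : ∀ d, (∃ v : Red.Ga _ ⟶ B, v ≫ b = D.u d) ↔ d = a)
    (b' : B' ⟶ H) (hb' : Red.IsBorelOver k b') (t' : D.T ⟶ B') (ht' : t' ≫ b' = D.i)
    (hu' : ∀ d, (∃ v : Red.Ga _ ⟶ B', v ≫ b' = D.u d) ↔ d = a) :
    ∃ e : B ≅ B', e.hom ≫ b' = b := by
  have hc : ConnectedSpace (Spec (CommRingCat.of k)) :=
    inferInstanceAs (ConnectedSpace (PrimeSpectrum k))
  refine (Groth.Agent.S3953.result D {a} ?_).2 B B' b b' t t' ?_ ?_ ht ht' hu hu'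
  · rintro x y z (rfl : x = a) (rfl : y = x) hxy
    rcases h.eq_or y z with rfl | rfl
    · exact Set.mem_singleton _
    · exfalso
      rw [D.P.root_reflectionPerm, D.P.reflection_apply_self] at hxy
      have h1 := D.P.ne_zero y
      have h2 : (3 : ℤ) • D.P.root y = 0 := by
        have : (3 : ℤ) • D.P.root y = (D.P.root y + D.P.root y) + D.P.root y := by module
        rw [this, hxy, neg_add_cancel]
      rcases smul_eq_zero.mp h2 with h3 | h3
      · omega
      · exact h1 h3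
  · exact isTypeR_of_borel D.reductive b hb t (ht ▸ D.maximalTorus)
  · exact isTypeR_of_borel D.reductive b' hb' t' (ht' ▸ D.maximalTorus)

omit h [IsAlgClosed k] in
lemma cellMap_one (a' a : D.idx) :
    _root_.RedSub.cellMap D (fun _ : Fin 1 => a') (fun _ : Fin 1 => a) =
      (fst _ _ ≫ PowPts.fstP (Red.Ga _) 0 ≫ D.u a') *
        ((snd _ _ ≫ fst _ _ ≫ D.i) * (snd _ _ ≫ snd _ _ ≫ PowPts.fstP (Red.Ga _) 0 ≫ D.u a)) := by
  unfold _root_.RedSub.cellMap
  rw [PowPts.prodMap_succ, PowPts.prodMap_succ, PowPts.prodMap_zero, PowPts.prodMap_zero,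
    MonObj.comp_one, _root_.mul_one, _root_.mul_one]

/-- two opposite Borel subgroups generate -/
theorem isIso_of_factor (a : D.idx) {C : Over (Spec (CommRingCat.of k))} [GrpObj C] (c : C ⟶ H)
    [IsMonHom c] (hc : IsClosedImmersion c.left) (s : D.T ⟶ C) (hs : s ≫ c = D.i)
    (v : Red.Ga _ ⟶ C) (hv : v ≫ c = D.u a)
    (v' : Red.Ga _ ⟶ C) (hv' : v' ≫ c = D.u (D.P.reflectionPerm a a)) : IsIso c := by
  have h1 := isOpenImmersion_cell h a
  have hred := AlgBc.isReductive_iff.mp D.reductive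
  have hconn : ConnectedSpace H.left := hred.2.2.1
  have hsm : Smooth H.hom := hred.2.1
  have hirr : IrreducibleSpace H.left := Groth.Agent.S0348.result k H
  have hrd : IsReduced H.left := Groth.Agent.Flat2B.SmoothGeom.isReduced_of_smooth H.hom
  set φ : _root_.RedSub.pow (Red.Ga _) 1 ⊗ (D.T ⊗ _root_.RedSub.pow (Red.Ga _) 1) ⟶ C :=
    (fst _ _ ≫ PowPts.fstP (Red.Ga _) 0 ≫ v') *
        ((snd _ _ ≫ fst _ _ ≫ s) * (snd _ _ ≫ snd _ _ ≫ PowPts.fstP (Red.Ga _) 0 ≫ v)) with hφ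
  have h2 : φ ≫ c = _root_.RedSub.cellMap D (fun _ : Fin 1 => D.P.reflectionPerm a a)
      (fun _ : Fin 1 => a) := by
    rw [cellMap_one, hφ, MonObj.mul_comp, MonObj.mul_comp]
    simp only [Category.assoc, hs, hv, hv']
  have h3 : Set.range (_root_.RedSub.cellMap D (fun _ : Fin 1 => D.P.reflectionPerm a a)
      (fun _ : Fin 1 => a)).left ⊆ Set.range c.left := by
    rw [← h2]
    rintro _ ⟨x, rfl⟩
    exact ⟨φ.left x, rfl⟩
  have h4 : Dense (Set.range (_root_.RedSub.cellMap D (fun _ : Fin 1 => D.P.reflectionPerm a a)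
      (fun _ : Fin 1 => a)).left) := by
    refine IsOpen.dense (IsOpenImmersion.isOpen_range _) ?_
    refine ⟨_, ⟨(lift (inj1 1) (lift 1 (inj1 1)) : 𝟙_ (Over (Spec (CommRingCat.of k))) ⟶ _).left
      (IsLocalRing.closedPoint k : Spec (CommRingCat.of k)), rfl⟩⟩
  have h5 : Function.Surjective c.left := by
    rw [← Set.range_eq_univ, Set.eq_univ_iff_forall]
    intro x
    exact (c.left.isClosedEmbedding.isClosed_range.closure_subset_iff.mpr h3) (h4 x)
  have h6 : Surjective c.left := ⟨h5⟩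
  have h7 : IsIso c.left := isIso_of_isClosedImmersion_of_surjective _
  have h8 : IsIso ((Over.forget _).map c) := h7
  exact isIso_of_reflects_iso c (Over.forget _)

theorem two_borels (a : D.idx) :
    ∃ (B₁ B₂ : Over (Spec (CommRingCat.of k))) (_ : GrpObj B₁) (_ : GrpObj B₂) (b₁ : B₁ ⟶ H) (b₂ : B₂ ⟶ H)
      (t₁ : D.T ⟶ B₁) (t₂ : D.T ⟶ B₂),
      Red.IsBorelOver k b₁ ∧ Red.IsBorelOver k b₂ ∧ t₁ ≫ b₁ = D.i ∧ t₂ ≫ b₂ = D.i ∧
      (¬ ∃ e : B₁ ⟶ B₂, e ≫ b₂ = b₁) ∧
      (∀ (B : Over (Spec (CommRingCat.of k))) [GrpObj B] (b : B ⟶ H) (t : D.T ⟶ B), Red.IsBorelOver k b → t ≫ b = D.i →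
        (∃ e : B ⟶ B₁, e ≫ b₁ = b) ∨ (∃ e : B ⟶ B₂, e ≫ b₂ = b)) ∧
      (∀ (C : Over (Spec (CommRingCat.of k))) [GrpObj C] (c : C ⟶ H) [IsMonHom c], IsClosedImmersion c.left →
        (∃ f₁ : B₁ ⟶ C, f₁ ≫ c = b₁) → (∃ f₂ : B₂ ⟶ C, f₂ ≫ c = b₂) → IsIso c) := by
  obtain ⟨B₁, hB₁, b₁, t₁, v₁, h1, h2, h3⟩ := exists_borel h a
  obtain ⟨B₂, hB₂, b₂, t₂, v₂, h4, h5, h6⟩ := exists_borel h (D.P.reflectionPerm a a)
  have h1' := AlgBc.isBorel_iff.mp h1
  have h4' := AlgBc.isBorel_iff.mp h4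
  have hu₁ : ∀ d, (∃ v : Red.Ga _ ⟶ B₁, v ≫ b₁ = D.u d) ↔ d = a := by
    obtain ⟨c, hc⟩ := exists_root_of_borel h a b₁ h1' t₁ h2
    have := (hc a).mp ⟨v₁, h3⟩
    rwa [this]
  have hu₂ : ∀ d, (∃ v : Red.Ga _ ⟶ B₂, v ≫ b₂ = D.u d) ↔ d = D.P.reflectionPerm a a := by
    obtain ⟨c, hc⟩ := exists_root_of_borel h a b₂ h4' t₂ h5
    have := (hc (D.P.reflectionPerm a a)).mp ⟨v₂, h6⟩
    rwa [this]
  have hne : a ≠ D.P.reflectionPerm a a := by
    intro h1
    have h2 := congrArg D.P.root h1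
    rw [D.P.root_reflectionPerm, D.P.reflection_apply_self] at h2
    exact D.P.ne_zero a (self_eq_neg.mp h2)
  refine ⟨B₁, B₂, hB₁, hB₂, b₁, b₂, t₁, t₂, h1', h4', h2, h5, ?_, ?_, ?_⟩
  · rintro ⟨e, he⟩
    exact hne ((hu₂ a).mp ⟨v₁ ≫ e, by rw [Category.assoc, he, h3]⟩)
  · intro B _ b t hb ht
    obtain ⟨c, hc⟩ := exists_root_of_borel h a b hb t ht
    rcases h.eq_or a c with rfl | rfl
    · obtain ⟨e, he⟩ := exists_iso_of_root h _ b hb t ht hc b₁ h1' t₁ h2 hu₁
      exact Or.inl ⟨e.hom, he⟩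
    · obtain ⟨e, he⟩ := exists_iso_of_root h _ b hb t ht hc b₂ h4' t₂ h5 hu₂
      exact Or.inr ⟨e.hom, he⟩
  · rintro C _ c _ hcl ⟨f₁, hf₁⟩ ⟨f₂, hf₂⟩
    exact isIso_of_factor h a c hcl (t₁ ≫ f₁) (by rw [Category.assoc, hf₁, h2])
      (v₁ ≫ f₁) (by rw [Category.assoc, hf₁, h3]) (v₂ ≫ f₂) (by rw [Category.assoc, hf₂, h6])

end field

end K929.TwoBorel
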