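import Groth.Agent.Sga3B.CellCI
import Groth.Agent.Sga3B.RootCoact
import Groth.Agent.LieWt.K929.LieDict

/-!
# Actions of a split torus on an affine scheme, and the weights of infinitesimal points

`TAct R A M`: an action of `D(M)` on `Spec A` in terms of points.  `TAct.coact` is the coaction
(the grading of `A`).  For infinitesimal points `g` of a group (`infP R A B`): `TAct.comp m g` is the
component of weight `m`.
-/

set_option autoImplicit false
universe u

open CategoryTheory

namespace K929.Act

open Groth.Agent.Sga3B Cell RootCoact K929.LieDict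

section rings

variable {M : Type} [AddCommGroup M]
variable {R B C : Type u} [CommRing R] [CommRing B] [Algebra R B] [CommRing C] [Algebra R C]

/-- `B[M]` -/
abbrev MA (M : Type) [AddCommGroup M] (B : Type u) [CommRing B] : Type u := MonoidAlgebra B (Multiplicative M)

/-- the universal torus point over `B[M]` -/
noncomputable def uT (M : Type) [AddCommGroup M] (B : Type u) [CommRing B] : TPt M (MA M B) :=
  MonoidHom.toHomUnits (MonoidAlgebra.of B (Multiplicative M))

lemma ch_uT (m : M) : TPt.ch m (uT M B) = MonoidAlgebra.single (Multiplicative.ofAdd m) 1 := rfl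

/-- constants `B → B[M]` -/
noncomputable def cM (R : Type u) (M : Type) [AddCommGroup M] [CommRing R] (B : Type u) [CommRing B]
    [Algebra R B] : B →ₐ[R] MA M B :=
  IsScalarTower.toAlgHom R B (MonoidAlgebra B (Multiplicative M))

lemma cM_apply (b : B) : cM R M B b = MonoidAlgebra.single 1 b := by
  change algebraMap B (MonoidAlgebra B (Multiplicative M)) b = _
  rw [MonoidAlgebra.coe_algebraMap]
  rfl

/-- functoriality `B[M] → C[M]` -/
noncomputable def mM (M : Type) [AddCommGroup M] (φ : B →ₐ[R] C) : MA M B →ₐ[R] MA M C :=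
  MonoidAlgebra.mapAlgHom (Multiplicative M) φ

lemma coeff_mM (φ : B →ₐ[R] C) (f : MA M B) (m : Multiplicative M) :
    (mM M φ f).coeff m = φ (f.coeff m) := MonoidAlgebra.coeff_mapAlgHom _ _ _

lemma mM_single (φ : B →ₐ[R] C) (m : Multiplicative M) (b : B) :
    mM M φ (MonoidAlgebra.single m b) = MonoidAlgebra.single m (φ b) :=
  MonoidAlgebra.mapAlgHom_single _ _ _

lemma mM_comp_cM (φ : B →ₐ[R] C) : (mM M φ).comp (cM R M B) = (cM R M C).comp φ := by
  refine AlgHom.ext fun b => ?_
  rw [AlgHom.comp_apply, AlgHom.comp_apply, cM_apply, cM_apply, mM_single]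

lemma map_mM_uT (φ : B →ₐ[R] C) : TPt.map (mM M φ) (uT M B) = uT M C := by
  apply TPt.ext_ch
  intro m
  rw [TPt.ch_map, ch_uT, ch_uT, mM_single, map_one]

/-- evaluation `B[M] → B` at a torus point -/
noncomputable def eM (R : Type u) [CommRing R] [Algebra R B] (t : TPt M B) : MA M B →ₐ[R] B :=
  ((MonoidAlgebra.lift B B (Multiplicative M) ((Units.coeHom B).comp t)).restrictScalars R)

lemma eM_single (t : TPt M B) (m : Multiplicative M) (b : B) :
    eM R t (MonoidAlgebra.single m b) = b * (t m : B) := by
  change MonoidAlgebra.lift B B (Multiplicative M) ((Units.coeHom B).comp t)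
    (MonoidAlgebra.single m b) = _
  rw [MonoidAlgebra.lift_single]
  rfl

lemma eM_apply (t : TPt M B) (f : MA M B) :
    eM R t f = f.coeff.sum fun m b => b * (t m : B) := by
  change MonoidAlgebra.lift B B (Multiplicative M) ((Units.coeHom B).comp t) f = _
  rw [MonoidAlgebra.lift_apply]
  rfl

lemma eM_comp_cM (t : TPt M B) : (eM R t).comp (cM R M B) = AlgHom.id R B := by
  refine AlgHom.ext fun b => ?_
  rw [AlgHom.comp_apply, cM_apply, eM_single, map_one, Units.val_one, mul_one]
  rfl

lemma map_eM_uT (t : TPt M B) : TPt.map (eM R t) (uT M B) = t := by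
  apply TPt.ext_ch
  intro m
  rw [TPt.ch_map, ch_uT, eM_single, one_mul]
  rfl

end rings

/-- An action of the split torus `D(M)` on `Spec A`, on points. -/
structure TAct (R A : Type u) [CommRing R] [CommRing A] [Algebra R A] (M : Type) [AddCommGroup M] where
  /-- the action -/
  act : ∀ {B : Type u} [CommRing B] [Algebra R B], TPt M B → Pt R A B → Pt R A B
  nat : ∀ {B C : Type u} [CommRing B] [Algebra R B] [CommRing C] [Algebra R C] (φ : B →ₐ[R] C)
    (t : TPt M B) (g : Pt R A B), Pt.map φ (act t g) = act (TPt.map φ t) (Pt.map φ g)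
  one : ∀ {B : Type u} [CommRing B] [Algebra R B] (g : Pt R A B), act 1 g = g
  mulP : ∀ {B : Type u} [CommRing B] [Algebra R B] (s t : TPt M B) (g : Pt R A B),
    act (TPt.mulP s t) g = act s (act t g)

namespace TAct

variable {R A : Type u} [CommRing R] [CommRing A] [Algebra R A] {M : Type} [AddCommGroup M]
  (E : TAct R A M)
variable {B C : Type u} [CommRing B] [Algebra R B] [CommRing C] [Algebra R C]

/-- The orbit of a point. -/
noncomputable def orb (g : Pt R A B) : Pt R A (MA M B) := E.act (uT M B) (Pt.map (cM R M B) g)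

lemma map_orb (φ : B →ₐ[R] C) (g : Pt R A B) : Pt.map (mM M φ) (E.orb g) = E.orb (Pt.map φ g) := by
  unfold orb
  rw [E.nat, map_mM_uT, Pt.map_map, mM_comp_cM, ← Pt.map_map]

lemma act_eq (t : TPt M B) (g : Pt R A B) : E.act t g = Pt.map (eM R t) (E.orb g) := by
  unfold orb
  rw [E.nat, map_eM_uT, Pt.map_map, eM_comp_cM]
  rfl

/-- The coaction `A → A[M]`. -/
noncomputable def rho : A →ₐ[R] MA M A := (E.orb (Pt.mk (AlgHom.id R A))).hom

lemma orb_eq (g : Pt R A B) : E.orb g = Pt.mk ((mM M g.hom).comp E.rho) := by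
  have h := E.map_orb g.hom (Pt.mk (AlgHom.id R A))
  have h2 : Pt.map g.hom (Pt.mk (AlgHom.id R A)) = g := rfl
  rw [h2] at h
  exact h.symm

lemma orb_hom_apply (g : Pt R A B) (f : A) : (E.orb g).hom f = mM M g.hom (E.rho f) := by
  rw [orb_eq]
  rfl

lemma coeff_orb (g : Pt R A B) (f : A) (m : Multiplicative M) :
    ((E.orb g).hom f).coeff m = g.hom ((E.rho f).coeff m) := by
  rw [orb_hom_apply, coeff_mM]

lemma act_apply (t : TPt M B) (g : Pt R A B) (f : A) :
    (E.act t g).hom f = (E.rho f).coeff.sum fun m b => g.hom b * (t m : B) := by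
  rw [act_eq, orb_eq]
  change eM R t (mM M g.hom (E.rho f)) = _
  rw [eM_apply]
  have h : ∀ z : MA M A, ((mM M g.hom z).coeff.sum fun m b => b * (t m : B)) =
      z.coeff.sum fun m b => g.hom b * (t m : B) := by
    intro z
    induction z using MonoidAlgebra.induction_linear with
    | zero => simp
    | add x y hx hy =>
      rw [map_add, MonoidAlgebra.coeff_add, Finsupp.sum_add_index', hx, hy,
        MonoidAlgebra.coeff_add, Finsupp.sum_add_index'] <;> intros <;> simp [add_mul]
    | single m a =>
      rw [mM_single, MonoidAlgebra.coeff_single, MonoidAlgebra.coeff_single,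
        Finsupp.sum_single_index (by simp), Finsupp.sum_single_index (by simp)]
  exact h _

lemma sum_rho (f : A) : ((E.rho f).coeff.sum fun _ b => b) = f := by
  have h := E.act_apply (1 : TPt M A) (Pt.mk (AlgHom.id R A)) f
  rw [E.one] at h
  simpa using h.symm

lemma rho_coeff (f : A) (m : Multiplicative M) :
    E.rho ((E.rho f).coeff m) = MonoidAlgebra.single m ((E.rho f).coeff m) := by
  classical
  -- the diagonal map `A[M] → A[M][M]`
  let δ : TPt M (MA M (MA M A)) := TPt.mulP (uT M (MA M A))
    (TPt.map (cM R M (MA M A)) (uT M A))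
  have hδ : ∀ m : Multiplicative M, ((δ m : _) : MA M (MA M A)) =
      MonoidAlgebra.single m (MonoidAlgebra.single m (1 : A)) := by
    intro m
    have h1 : ((δ m : _) : MA M (MA M A)) = TPt.ch m.toAdd (uT M (MA M A)) *
        TPt.ch m.toAdd (TPt.map (cM R M (MA M A)) (uT M A)) := rfl
    rw [h1, TPt.ch_map, ch_uT, ch_uT, cM_apply, MonoidAlgebra.single_mul_single]
    simp
  let c0 : A →ₐ[R] MA M (MA M A) := (cM R M (MA M A)).comp (cM R M A)
  have h1 : E.orb (E.orb (Pt.mk (AlgHom.id R A))) =
      E.act δ (Pt.map c0 (Pt.mk (AlgHom.id R A))) := by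
    rw [E.mulP]
    conv_lhs => rw [orb]
    rw [orb, E.nat, Pt.map_map]
  have h3 := congrArg (fun g : Pt R A (MA M (MA M A)) => (g.hom f).coeff m) h1
  simp only [coeff_orb] at h3
  change E.rho ((E.rho f).coeff m) = _ at h3
  rw [h3, act_apply]
  rw [Finsupp.sum, MonoidAlgebra.coeff_sum, Finset.sum_apply']
  have hr : ∀ x : Multiplicative M,
      (((Pt.map c0 (Pt.mk (AlgHom.id R A))).hom ((E.rho f).coeff x)) * (δ x : MA M (MA M A))).coeff m =
        if x = m then MonoidAlgebra.single x ((E.rho f).coeff x) else 0 := by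
    intro x
    have h4 : (Pt.map c0 (Pt.mk (AlgHom.id R A))).hom ((E.rho f).coeff x) =
      MonoidAlgebra.single 1 (MonoidAlgebra.single 1 ((E.rho f).coeff x)) := by
      change cM R M (MA M A) (cM R M A _) = _
      rw [cM_apply, cM_apply]
      rfl
    rw [h4, hδ, MonoidAlgebra.single_mul_single, MonoidAlgebra.single_mul_single, one_mul,
      mul_one, MonoidAlgebra.coeff_single, Finsupp.single_apply]
  simp only [hr]
  rw [Finset.sum_ite_eq']
  split_ifs with hm
  · rfl
  · rw [Finsupp.notMem_support_iff] at hm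
    rw [hm, MonoidAlgebra.single_zero]

/-- The coaction of an action. -/
noncomputable def coact : Coact R A M where
  rho := E.rho
  sum_rho := E.sum_rho
  rho_coeff := E.rho_coeff

lemma act_of_mem (t : TPt M B) (g : Pt R A B) {m : M} {f : A} (hf : f ∈ gr E.coact m) :
    (E.act t g).hom f = g.hom f * TPt.ch m t := by
  rw [act_apply]
  have : E.rho f = MonoidAlgebra.single (Multiplicative.ofAdd m) f := hf
  rw [this, MonoidAlgebra.coeff_single, Finsupp.sum_single_index (by simp)]
  rfl

/-- a point is determined by its values on homogeneous functions -/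
lemma pt_ext {g h : Pt R A B} (H : ∀ m, ∀ f ∈ gr E.coact m, g.hom f = h.hom f) : g = h := by
  apply Pt.ext
  intro a
  induction a using induction_gr E.coact with
  | h0 => rw [map_zero, map_zero]
  | hadd a b ha hb => rw [map_add, map_add, ha, hb]
  | h m a ha => exact H m a ha

/-- The criterion of homogeneity. -/
lemma mem_gr_of_act {m : M} {f : A}
    (h : (E.act (uT M A) (Pt.map (cM R M A) (Pt.mk (AlgHom.id R A)))).hom f =
      MonoidAlgebra.single (Multiplicative.ofAdd m) f) : f ∈ gr E.coact m := h

/-- fixed points kill the homogeneous functions of non-zero degree -/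
lemma hom_eq_zero_of_fixed {g : Pt R A B} (hg : ∀ {C : Type u} [CommRing C] [Algebra R C] (φ : B →ₐ[R] C)
    (t : TPt M C), E.act t (Pt.map φ g) = Pt.map φ g) {m : M} (hm : m ≠ 0) {f : A}
    (hf : f ∈ gr E.coact m) : g.hom f = 0 := by
  have h1 := congrArg (fun z : Pt R A (MA M B) => z.hom f) (hg (cM R M B) (uT M B))
  rw [E.act_of_mem _ _ hf, Pt.map_hom_apply, cM_apply, ch_uT, MonoidAlgebra.single_mul_single] at h1
  have h2 := congrArg (fun z : MA M B => z.coeff 1) h1
  simp only [MonoidAlgebra.coeff_single, one_mul, mul_one, Finsupp.single_eq_same] at h2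
  rw [Finsupp.single_eq_of_ne] at h2
  · exact h2.symm
  · intro h3
    exact hm (Multiplicative.ofAdd.injective h3.symm)

end TAct

end K929.Act
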