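import Groth.Agent.LieWt.K929.ActInf
import Mathlib.RingTheory.Filtration
import Mathlib.RingTheory.GradedAlgebra.Homogeneous.Ideal
import Mathlib.LinearAlgebra.Basis.VectorSpace

/-!
# One-dimensional groups with a non-trivial torus action

`A` a Noetherian domain over a field `K`, a group with an action of a split torus by automorphisms
whose infinitesimal `K`-points are one-dimensional of weight `m` (of infinite order): then
`A = K[x]` with `x` of degree `m`.
-/

set_option autoImplicit false
universe u

open CategoryTheory Polynomial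

namespace K929.ActGa

open Groth.Agent.Sga3B Cell RootCoact K929.LieDict K929.Act K929.Act.TAct

variable {K A : Type u} [Field K] [CommRing A] [Algebra K A] [PtGrp K A] {M : Type} [AddCommGroup M]

/-- the counit -/
def cou (K A : Type u) [Field K] [CommRing A] [Algebra K A] [PtGrp K A] : A →ₐ[K] K := (1 : Pt K A K).hom

/-- the augmentation ideal -/
def aug (K A : Type u) [Field K] [CommRing A] [Algebra K A] [PtGrp K A] : Ideal A := RingHom.ker (cou K A)

lemma mem_aug {a : A} : a ∈ aug K A ↔ cou K A a = 0 := Iff.rfl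

lemma sub_mem_aug (a : A) : a - algebraMap K A (cou K A a) ∈ aug K A := by
  rw [mem_aug, map_sub, AlgHom.commutes]
  exact sub_self _

lemma fst_inf {g : Pt K A (DualNumber K)} (hg : g ∈ infP K A K) (a : A) :
    (g.hom a).fst = cou K A a := fst_eq hg a

/-- the derivation of an infinitesimal point -/
noncomputable def der (g : Pt K A (DualNumber K)) : A →ₗ[K] K :=
  (TrivSqZeroExt.sndHom K K).comp g.hom.toLinearMap

lemma der_apply (g : Pt K A (DualNumber K)) (a : A) : der g a = (g.hom a).snd := rfl

lemma der_mul {g : Pt K A (DualNumber K)} (hg : g ∈ infP K A K) (a b : A) :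
    der g (a * b) = cou K A a * der g b + der g a * cou K A b := by
  rw [der_apply, map_mul, TrivSqZeroExt.snd_mul, fst_inf hg, fst_inf hg, der_apply, der_apply,
    smul_eq_mul, op_smul_eq_mul]

/-- the infinitesimal point of a derivation -/
lemma exists_inf (d : A →ₗ[K] K) (h1 : d 1 = 0)
    (hd : ∀ a b, d (a * b) = cou K A a * d b + d a * cou K A b) :
    ∃ g ∈ infP K A K, ∀ a, der g a = d a := by
  let L : A →ₗ[K] DualNumber K :=
    { toFun := fun a => TrivSqZeroExt.inl (cou K A a) + TrivSqZeroExt.inr (d a)
      map_add' := fun a b => by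
        apply dual_ext
        · simp
        · simp
      map_smul' := fun r a => by
        rw [map_smul, map_smul, RingHom.id_apply]
        apply dual_ext
        · simp
        · simp }
  have hL1 : ∀ a, (L a).fst = cou K A a := fun a => by simp [L]
  have hL2 : ∀ a, (L a).snd = d a := fun a => by simp [L]
  let g : Pt K A (DualNumber K) := Pt.mk (AlgHom.ofLinearMap L
    (by
      apply dual_ext
      · rw [hL1, map_one]; rfl
      · rw [hL2, h1]; rfl)
    (by
      intro a b
      apply dual_ext
      · rw [hL1, map_mul, TrivSqZeroExt.fst_mul, hL1, hL1]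
      · rw [hL2, TrivSqZeroExt.snd_mul, hL1, hL1, hL2, hL2, hd, smul_eq_mul, op_smul_eq_mul]))
  refine ⟨g, ?_, fun a => hL2 a⟩
  rw [mem_infP]
  apply Pt.ext
  intro a
  exact hL1 a

/-- functions killed by all derivations are in the square of the augmentation ideal -/
theorem mem_sq {f : A} (hf : f ∈ aug K A) (h : ∀ g ∈ infP K A K, der g f = 0) :
    f ∈ aug K A ^ 2 := by
  by_contra hne
  let W : Submodule K A := Submodule.span K {1} ⊔ (aug K A ^ 2).restrictScalars K
  have hW : f ∉ W := by
    intro hfW
    obtain ⟨y, hy, z, hz, hyz⟩ := Submodule.mem_sup.mp hfW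
    obtain ⟨c, rfl⟩ := Submodule.mem_span_singleton.mp hy
    have hz' : z ∈ aug K A ^ 2 := hz
    have h1 : cou K A z = 0 := Ideal.pow_le_self two_ne_zero hz'
    have h2 : cou K A f = 0 := hf
    rw [← hyz, map_add, h1, add_zero, map_smul, map_one, smul_eq_mul, mul_one] at h2
    rw [← hyz, h2, zero_smul, zero_add] at hne
    exact hne hz'
  obtain ⟨d, hd1, hd2⟩ := Submodule.exists_le_ker_of_notMem hW
  have h1 : d 1 = 0 := hd2 (Submodule.mem_sup_left (Submodule.mem_span_singleton_self _))
  have h2 : ∀ z ∈ aug K A ^ 2, d z = 0 := fun z hz => hd2 (Submodule.mem_sup_right hz)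
  obtain ⟨g, hg, hgd⟩ := exists_inf d h1 (by
    intro a b
    have h3 := h2 ((a - algebraMap K A (cou K A a)) * (b - algebraMap K A (cou K A b))) (by
      rw [pow_two]
      exact Ideal.mul_mem_mul (sub_mem_aug a) (sub_mem_aug b))
    have h4 : (a - algebraMap K A (cou K A a)) * (b - algebraMap K A (cou K A b)) =
        a * b - cou K A a • b - cou K A b • a + (cou K A a * cou K A b) • (1 : A) := by
      rw [Algebra.smul_def, Algebra.smul_def, Algebra.smul_def, map_mul]
      ring
    rw [h4, map_add, map_sub, map_sub, map_smul, map_smul, map_smul, h1, smul_zero, add_zero,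
      smul_eq_mul, smul_eq_mul] at h3
    have h5 : d (a * b) = cou K A a * d b + cou K A b * d a := by linear_combination h3
    rw [h5]
    ring)
  exact hd1 (by rw [← hgd]; exact h g hg)

section main

variable {E : TAct K A M} (hE : E.IsAut) {m : M} (hm : ∀ n : ℕ, n • m = 0 → n = 0)
  {g₀ : Pt K A (DualNumber K)} (hg₀ : g₀ ∈ infP K A K) (hne : g₀ ≠ 1) (hwt : E.IsWt m g₀)
  (hall : ∀ g ∈ infP K A K, ∃ b : K, g = Pt.map (dscale K b) g₀)

include hm in
lemma m_ne_zero : m ≠ 0 := by
  rintro rfl
  exact one_ne_zero (hm 1 (smul_zero _))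

include hm in
lemma nsmul_inj {i j : ℕ} (h : i • m = j • m) : i = j := by
  rcases le_total i j with hij | hij
  · obtain ⟨k, rfl⟩ := Nat.exists_eq_add_of_le hij
    rw [add_smul, left_eq_add] at h
    rw [hm k h]
    rfl
  · obtain ⟨k, rfl⟩ := Nat.exists_eq_add_of_le hij
    rw [add_smul, add_eq_left] at h
    rw [hm k h]
    rfl

include hE hg₀ hne hwt in
lemma exists_x : ∃ x ∈ gr E.coact m, der g₀ x = 1 := by
  have h1 : ∃ x ∈ gr E.coact m, der g₀ x ≠ 0 := by
    by_contra hcon
    push Not at hcon
    refine hne (infP_ext_gr (E := E) hg₀ (one_mem _) fun n f hf => ?_)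
    rw [snd_one_hom]
    by_cases hn : n = m
    · subst hn
      exact hcon f hf
    · exact (hE.isWt_iff hg₀ m).mp hwt n hn f hf
  obtain ⟨x, hx, hx'⟩ := h1
  refine ⟨(der g₀ x)⁻¹ • x, Submodule.smul_mem _ _ hx, ?_⟩
  rw [map_smul, smul_eq_mul, inv_mul_cancel₀ hx']

include hall in
lemma mem_sq_of {f : A} (hf : f ∈ aug K A) (h : der g₀ f = 0) : f ∈ aug K A ^ 2 := by
  refine mem_sq hf fun g hg => ?_
  obtain ⟨b, rfl⟩ := hall g hg
  rw [der_apply, snd_scale]
  rw [der_apply] at h
  rw [h, mul_zero]

variable {x : A} (hx : x ∈ gr E.coact m) (hx1 : der g₀ x = 1)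

include hE hm hx in
lemma x_mem_aug : x ∈ aug K A := hE.one_hom (m_ne_zero hm) hx

include hE hm hall hx hx1 in
lemma exists_step (n : ℕ) : ∀ f ∈ aug K A ^ n, ∃ c : K, f - c • x ^ n ∈ aug K A ^ (n + 1) := by
  have hxI := x_mem_aug hE hm hx
  have h1 : ∀ f ∈ aug K A, ∃ c : K, f - c • x ∈ aug K A ^ 2 := by
    intro f hf
    refine ⟨der g₀ f, mem_sq_of hall ?_ ?_⟩
    · exact sub_mem hf (Submodule.smul_of_tower_mem _ _ hxI)
    · rw [map_sub, map_smul, hx1, smul_eq_mul, mul_one, sub_self]
  induction n with
  | zero =>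
    intro f _
    refine ⟨cou K A f, ?_⟩
    rw [pow_zero, zero_add, pow_one, Algebra.smul_def, mul_one]
    exact sub_mem_aug f
  | succ n ih =>
    intro f hf
    rw [pow_succ] at hf
    refine Submodule.mul_induction_on hf ?_ ?_
    · intro a ha b hb
      obtain ⟨c, hc⟩ := ih a ha
      obtain ⟨d, hd⟩ := h1 b hb
      refine ⟨c * d, ?_⟩
      have e1 : a * b - (c * d) • x ^ (n + 1) =
          (a - c • x ^ n) * b + (c • x ^ n) * (b - d • x) := by
        simp only [Algebra.smul_def, map_mul]
        ring
      rw [e1]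
      refine add_mem ?_ ?_
      · have : (a - c • x ^ n) * b ∈ aug K A ^ (n + 1) * aug K A := Ideal.mul_mem_mul hc hb
        rwa [← pow_succ] at this
      · have : (c • x ^ n) * (b - d • x) ∈ aug K A ^ n * aug K A ^ 2 :=
          Ideal.mul_mem_mul (Submodule.smul_of_tower_mem _ _ (Ideal.pow_mem_pow hxI n)) hd
        rwa [← pow_add] at this
    · intro a b ⟨c, hc⟩ ⟨d, hd⟩
      refine ⟨c + d, ?_⟩
      have e1 : a + b - (c + d) • x ^ (n + 1) = (a - c • x ^ (n + 1)) + (b - d • x ^ (n + 1)) := by
        rw [add_smul]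
        ring
      rw [e1]
      exact add_mem hc hd

include hE hm hall hx hx1 in
lemma exists_approx (n : ℕ) (f : A) : ∃ p : K[X], f - aeval x p ∈ aug K A ^ n := by
  induction n with
  | zero => exact ⟨0, by rw [pow_zero, Ideal.one_eq_top]; trivial⟩
  | succ n ih =>
    obtain ⟨p, hp⟩ := ih
    obtain ⟨c, hc⟩ := exists_step hE hm hall hx hx1 n _ hp
    refine ⟨p + C c * X ^ n, ?_⟩
    have e1 : f - aeval x (p + C c * X ^ n) = (f - aeval x p) - c • x ^ n := by
      rw [map_add, map_mul, aeval_C, map_pow, aeval_X, Algebra.smul_def]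
      ring
    rw [e1]
    exact hc

include hE in
lemma homog (n : ℕ) {f : A} (hf : f ∈ aug K A ^ n) (k : M) : pr E.coact k f ∈ aug K A ^ n := by
  classical
  have h1 : (aug K A).IsHomogeneous (gr E.coact) := by
    intro k r hr
    rw [decompose_apply]
    by_cases hk : k = 0
    · subst hk
      have h2 : ∀ a : A, cou K A (pr E.coact 0 a) = cou K A a := by
        intro a
        induction a using induction_gr E.coact with
        | h0 => simp
        | hadd a b ha hb => rw [map_add, map_add, map_add, ha, hb]
        | h i a ha =>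
          by_cases hi : i = 0
          · subst hi
            rw [pr_of_mem_same _ ha]
          · have h3 : cou K A a = 0 := hE.one_hom hi ha
            rw [pr_of_mem_ne _ ha hi, map_zero, h3]
      rw [mem_aug, h2]
      exact hr
    · exact hE.one_hom hk (pr_mem_gr _ _ _)
  have h2 : (aug K A ^ n).IsHomogeneous (gr E.coact) := by
    clear hf
    induction n with
    | zero =>
      rw [pow_zero, Ideal.one_eq_top]
      exact Ideal.IsHomogeneous.top _
    | succ n ih =>
      rw [pow_succ]
      exact ih.mul h1
  have h3 := h2 k hf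
  rwa [decompose_apply] at h3

lemma x_pow_mem (hx : x ∈ gr E.coact m) (n : ℕ) : x ^ n ∈ gr E.coact (n • m) :=
  SetLike.pow_mem_graded n hx

include hm hx in
lemma pr_aeval (p : K[X]) (j : ℕ) : pr E.coact (j • m) (aeval x p) = p.coeff j • x ^ j := by
  induction p using Polynomial.induction_on' with
  | add p q hp hq => rw [map_add, map_add, hp, hq, coeff_add, add_smul]
  | monomial i c =>
    rw [aeval_monomial, ← Algebra.smul_def, map_smul, coeff_monomial]
    split_ifs with h
    · subst h
      rw [pr_of_mem_same _ (x_pow_mem hx i)]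
    · rw [pr_of_mem_ne _ (x_pow_mem hx i) (fun h1 => h (nsmul_inj hm h1)), smul_zero, zero_smul]

include hx in
lemma pr_aeval_ne (p : K[X]) {k : M} (hk : ∀ j : ℕ, j • m ≠ k) : pr E.coact k (aeval x p) = 0 := by
  induction p using Polynomial.induction_on' with
  | add p q hp hq => rw [map_add, map_add, hp, hq, add_zero]
  | monomial i c =>
    rw [aeval_monomial, ← Algebra.smul_def, map_smul, pr_of_mem_ne _ (x_pow_mem hx i) (hk i),
      smul_zero]

variable [IsNoetherianRing A] [IsDomain A]

include hE hm hall hx hx1 in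
theorem aeval_surjective : Function.Surjective (aeval x : K[X] →ₐ[K] A) := by
  have hInf : ∀ f : A, (∀ n, f ∈ aug K A ^ n) → f = 0 := by
    intro f hf
    have h1 : aug K A ≠ ⊤ := by
      intro h
      have h2 : (1 : A) ∈ aug K A := by rw [h]; trivial
      rw [mem_aug, map_one] at h2
      exact one_ne_zero h2
    have h2 := Ideal.iInf_pow_eq_bot_of_isDomain _ h1
    have h3 : f ∈ ⨅ n : ℕ, aug K A ^ n := by
      rw [Ideal.mem_iInf]
      exact hf
    rw [h2] at h3
    exact h3
  have hx0 : x ≠ 0 := by
    rintro rfl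
    rw [map_zero] at hx1
    exact zero_ne_one hx1
  intro f
  change f ∈ (aeval x : K[X] →ₐ[K] A).range
  induction f using induction_gr E.coact with
  | h0 => exact zero_mem _
  | hadd a b ha hb => exact add_mem ha hb
  | h k f hf =>
    by_cases hk : ∃ j : ℕ, j • m = k
    · obtain ⟨j, rfl⟩ := hk
      have h1 : ∀ n, ∃ c : K, f - c • x ^ j ∈ aug K A ^ n := by
        intro n
        obtain ⟨p, hp⟩ := exists_approx hE hm hall hx hx1 n f
        have h2 := homog hE n hp (j • m)
        rw [map_sub, pr_of_mem_same _ hf, pr_aeval hm hx] at h2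
        exact ⟨_, h2⟩
      obtain ⟨N, hN⟩ : ∃ N, x ^ j ∉ aug K A ^ N := by
        by_contra hcon
        push Not at hcon
        exact pow_ne_zero j hx0 (hInf _ hcon)
      obtain ⟨c, hc⟩ := h1 N
      have h2 : f - c • x ^ j = 0 := by
        apply hInf
        intro n
        rcases le_total n N with hn | hn
        · exact Ideal.pow_le_pow_right hn hc
        · obtain ⟨c', hc'⟩ := h1 n
          by_cases hcc : c' = c
          · rwa [hcc] at hc'
          · exfalso
            apply hN
            have h3 : (c' - c) • x ^ j ∈ aug K A ^ N := by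
              have : (c' - c) • x ^ j = (f - c • x ^ j) - (f - c' • x ^ j) := by
                rw [sub_smul]
                ring
              rw [this]
              exact sub_mem hc (Ideal.pow_le_pow_right hn hc')
            have h4 : x ^ j = (c' - c)⁻¹ • ((c' - c) • x ^ j) := by
              rw [smul_smul, inv_mul_cancel₀ (sub_ne_zero.mpr hcc), one_smul]
            rw [h4]
            exact Submodule.smul_of_tower_mem _ _ h3
      rw [sub_eq_zero] at h2
      rw [h2]
      exact Subalgebra.smul_mem _ ((aeval x : K[X] →ₐ[K] A).range.pow_mem ⟨X, aeval_X x⟩ j) c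
    · push Not at hk
      have h2 : f = 0 := by
        apply hInf
        intro n
        obtain ⟨p, hp⟩ := exists_approx hE hm hall hx hx1 n f
        have h2 := homog hE n hp k
        rwa [map_sub, pr_of_mem_same _ hf, pr_aeval_ne hx p hk, sub_zero] at h2
      rw [h2]
      exact zero_mem _

include hm hx hx1 in
omit [IsNoetherianRing A] in
theorem aeval_injective : Function.Injective (aeval x : K[X] →ₐ[K] A) := by
  have hx0 : x ≠ 0 := by
    rintro rfl
    rw [map_zero] at hx1
    exact zero_ne_one hx1
  rw [injective_iff_map_eq_zero]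
  intro p hp
  ext j
  have h1 := pr_aeval hm hx p j
  rw [hp, map_zero] at h1
  rw [coeff_zero]
  rcases smul_eq_zero.mp h1.symm with h2 | h2
  · exact h2
  · exact absurd h2 (pow_ne_zero j hx0)

include hE hm hg₀ hne hwt hall in
/-- **One-dimensional groups with a non-trivial torus action.** -/
theorem exists_coord : ∃ x ∈ gr E.coact m, Function.Bijective (aeval x : K[X] →ₐ[K] A) := by
  obtain ⟨x, hx, hx1⟩ := exists_x hE hg₀ hne hwt
  exact ⟨x, hx, aeval_injective hm hx hx1, aeval_surjective hE hm hall hx hx1⟩

end main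

end K929.ActGa
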