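import Groth.Agent.LieWt.K929.Act

/-!
# Weights of infinitesimal points for an action of a split torus by automorphisms
-/

set_option autoImplicit false
universe u

open CategoryTheory

namespace K929.Act.TAct

open Groth.Agent.Sga3B Cell RootCoact K929.LieDict

variable {R A : Type u} [CommRing R] [CommRing A] [Algebra R A] [PtGrp R A] {M : Type} [AddCommGroup M]
  (E : TAct R A M)
variable {B C : Type u} [CommRing B] [Algebra R B] [CommRing C] [Algebra R C]

/-- the action is by group automorphisms -/
def IsAut : Prop := ∀ {B : Type u} [CommRing B] [Algebra R B] (t : TPt M B) (g h : Pt R A B),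
  E.act t (g * h) = E.act t g * E.act t h

/-- the infinitesimal point `g` has weight `m` -/
def IsWt (m : M) (g : Pt R A (DualNumber B)) : Prop :=
  ∀ (C : Type u) [CommRing C] [Algebra R C] (φ : B →ₐ[R] C) (t : TPt M C),
    E.act (TPt.map (tinl R C) t) (Pt.map (dmap φ) g) =
      Pt.map (dscale R (TPt.ch m t)) (Pt.map (dmap φ) g)

variable {E}

lemma IsAut.act_one (hE : E.IsAut) (t : TPt M B) : E.act t (1 : Pt R A B) = 1 := by
  have h := hE t (1 : Pt R A B) 1
  rw [mul_one] at h
  exact mul_eq_left.mp h.symm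

lemma IsAut.one_hom (hE : E.IsAut) {m : M} (hm : m ≠ 0) {f : A} (hf : f ∈ gr E.coact m) :
    (1 : Pt R A B).hom f = 0 :=
  E.hom_eq_zero_of_fixed (fun φ t => by rw [Pt.map_one, hE.act_one]) hm hf

lemma fst_eq {g : Pt R A (DualNumber B)} (hg : g ∈ infP R A B) (a : A) :
    (g.hom a).fst = (1 : Pt R A B).hom a :=
  congrArg (fun z : Pt R A B => z.hom a) (mem_infP.mp hg)

lemma IsAut.fst_eq_zero (hE : E.IsAut) {g : Pt R A (DualNumber B)} (hg : g ∈ infP R A B) {m : M}
    (hm : m ≠ 0) {f : A} (hf : f ∈ gr E.coact m) : (g.hom f).fst = 0 := by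
  rw [fst_eq hg, hE.one_hom hm hf]

omit [CommRing B] in
lemma dual_ext {x y : DualNumber B} (h1 : x.fst = y.fst) (h2 : x.snd = y.snd) : x = y :=
  TrivSqZeroExt.ext h1 h2

/-- two infinitesimal points with the same derivation are equal -/
lemma infP_ext_gr {g g' : Pt R A (DualNumber B)} (hg : g ∈ infP R A B) (hg' : g' ∈ infP R A B)
    (h : ∀ m, ∀ f ∈ gr E.coact m, (g.hom f).snd = (g'.hom f).snd) : g = g' :=
  E.pt_ext fun m f hf => dual_ext ((fst_eq hg f).trans (fst_eq hg' f).symm) (h m f hf)

lemma IsAut.act_mem (hE : E.IsAut) {g : Pt R A (DualNumber B)} (hg : g ∈ infP R A B)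
    (t : TPt M (DualNumber B)) : E.act t g ∈ infP R A B := by
  rw [mem_infP, E.nat, mem_infP.mp hg, hE.act_one]

theorem IsAut.isWt_iff (hE : E.IsAut) {g : Pt R A (DualNumber B)} (hg : g ∈ infP R A B) (m : M) :
    E.IsWt m g ↔ ∀ n, n ≠ m → ∀ f ∈ gr E.coact n, (g.hom f).snd = 0 := by
  constructor
  · intro h n hn f hf
    have h1 := congrArg (fun z : Pt R A (DualNumber (MA M B)) => (z.hom f).snd)
      (h (MA M B) (cM R M B) (uT M B))
    simp only [E.act_of_mem _ _ hf, TPt.ch_map, Pt.map_hom_apply, dscale_snd, dmap_snd] at h1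
    rw [TrivSqZeroExt.snd_mul, dmap_snd, cM_apply] at h1
    have e1 : (tinl R (MA M B) (TPt.ch n (uT M B))).snd = 0 := rfl
    have e2 : (tinl R (MA M B) (TPt.ch n (uT M B))).fst = TPt.ch n (uT M B) := rfl
    rw [e1, e2, smul_zero, zero_add, op_smul_eq_mul, ch_uT, ch_uT,
      MonoidAlgebra.single_mul_single, MonoidAlgebra.single_mul_single, one_mul, mul_one, one_mul,
      mul_one] at h1
    have h2 := congrArg (fun z : MA M B => z.coeff (Multiplicative.ofAdd n)) h1
    simp only [MonoidAlgebra.coeff_single, Finsupp.single_eq_same] at h2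
    rw [h2, Finsupp.single_eq_of_ne]
    intro h3
    exact hn (Multiplicative.ofAdd.injective h3)
  · intro h C _ _ φ t
    have h1 := infP_dmap hg φ
    refine infP_ext_gr (E := E) (hE.act_mem h1 _) (infP_scale h1 _) fun n f hf => ?_
    rw [E.act_of_mem _ _ hf, TrivSqZeroExt.snd_mul, snd_dmap, snd_scale, snd_dmap]
    have e1 : (TPt.ch n (TPt.map (tinl R C) t) : DualNumber C).snd = 0 := rfl
    have e2 : (TPt.ch n (TPt.map (tinl R C) t) : DualNumber C).fst = TPt.ch n t := rfl
    rw [e1, e2, smul_zero, zero_add, op_smul_eq_mul]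
    by_cases hn : n = m
    · subst hn
      ring
    · rw [h n hn f hf, map_zero, mul_zero, zero_mul]

section comp

variable (E) in
/-- the linear map of the component of weight `m` -/
noncomputable def compLin (m : M) (g : Pt R A (DualNumber B)) : A →ₗ[R] DualNumber B where
  toFun a := TrivSqZeroExt.inl (g.hom a).fst + TrivSqZeroExt.inr (g.hom (pr E.coact m a)).snd
  map_add' a b := by
    apply dual_ext
    · simp
    · simp
  map_smul' r a := by
    rw [map_smul, map_smul, map_smul, RingHom.id_apply]
    apply dual_ext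
    · simp
    · simp

lemma fst_compLin (m : M) (g : Pt R A (DualNumber B)) (a : A) :
    (E.compLin m g a).fst = (g.hom a).fst := by
  simp [compLin]

lemma snd_compLin (m : M) (g : Pt R A (DualNumber B)) (a : A) :
    (E.compLin m g a).snd = (g.hom (pr E.coact m a)).snd := by
  simp [compLin]

lemma compLin_one (m : M) (g : Pt R A (DualNumber B)) : E.compLin m g 1 = 1 := by
  classical
  apply dual_ext
  · rw [fst_compLin, map_one]
  · rw [snd_compLin, pr_of_mem _ (one_mem_gr _)]
    split_ifs
    · rw [map_one]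
    · rw [map_zero]
      rfl

lemma IsAut.compLin_mul (hE : E.IsAut) (m : M) {g : Pt R A (DualNumber B)} (hg : g ∈ infP R A B)
    (a b : A) : E.compLin m g (a * b) = E.compLin m g a * E.compLin m g b := by
  classical
  induction a using induction_gr E.coact with
  | h0 => simp
  | hadd a a' ha ha' => rw [add_mul, map_add, ha, ha', map_add, add_mul]
  | h i a ha =>
    induction b using induction_gr E.coact with
    | h0 => simp
    | hadd b b' hb hb' => rw [mul_add, map_add, hb, hb', map_add, mul_add]
    | h j b hb =>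
      apply dual_ext
      · rw [fst_compLin, TrivSqZeroExt.fst_mul, fst_compLin, fst_compLin, map_mul,
          TrivSqZeroExt.fst_mul]
      · rw [snd_compLin, TrivSqZeroExt.snd_mul, snd_compLin, snd_compLin, fst_compLin, fst_compLin,
          pr_of_mem _ (mul_mem_gr _ ha hb), pr_of_mem _ ha, pr_of_mem _ hb]
        have e1 : ∀ x : A, (g.hom (if i + j = m then x else 0)).snd =
            if i + j = m then (g.hom x).snd else 0 := by
          intro x
          split_ifs
          · rfl
          · rw [map_zero]; rfl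
        have e2 : ∀ (k : M) (x : A), (g.hom (if k = m then x else 0)).snd =
            if k = m then (g.hom x).snd else 0 := by
          intro k x
          split_ifs
          · rfl
          · rw [map_zero]; rfl
        rw [e1, e2, e2, map_mul, TrivSqZeroExt.snd_mul]
        have key1 : i ≠ 0 → (g.hom a).fst = 0 := fun hi => hE.fst_eq_zero hg hi ha
        have key2 : j ≠ 0 → (g.hom b).fst = 0 := fun hj => hE.fst_eq_zero hg hj hb
        by_cases hi : i = 0
        · by_cases hj : j = 0
          · subst hi hj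
            rw [add_zero]
            split_ifs <;> simp
          · subst hi
            rw [zero_add, key2 hj, MulOpposite.op_zero, zero_smul, zero_smul, add_zero, add_zero]
            split_ifs <;> simp
        · rw [key1 hi, zero_smul, zero_smul, zero_add, zero_add]
          by_cases hj : j = 0
          · subst hj
            rw [add_zero]
            split_ifs <;> simp
          · rw [key2 hj, MulOpposite.op_zero, zero_smul, zero_smul]
            split_ifs <;> rfl

/-- the component of weight `m` of an infinitesimal point -/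
noncomputable def IsAut.comp (hE : E.IsAut) (m : M) {g : Pt R A (DualNumber B)} (hg : g ∈ infP R A B) :
    Pt R A (DualNumber B) :=
  Pt.mk (AlgHom.ofLinearMap (E.compLin m g) (compLin_one m g) (hE.compLin_mul m hg))

lemma IsAut.fst_comp (hE : E.IsAut) (m : M) {g : Pt R A (DualNumber B)} (hg : g ∈ infP R A B) (a : A) :
    ((hE.comp m hg).hom a).fst = (g.hom a).fst := fst_compLin m g a

lemma IsAut.snd_comp (hE : E.IsAut) (m : M) {g : Pt R A (DualNumber B)} (hg : g ∈ infP R A B) (a : A) :
    ((hE.comp m hg).hom a).snd = (g.hom (pr E.coact m a)).snd := snd_compLin m g a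

lemma IsAut.comp_mem (hE : E.IsAut) (m : M) {g : Pt R A (DualNumber B)} (hg : g ∈ infP R A B) :
    hE.comp m hg ∈ infP R A B := by
  rw [mem_infP, ← mem_infP.mp hg]
  apply Pt.ext
  intro a
  exact hE.fst_comp m hg a

lemma IsAut.isWt_comp (hE : E.IsAut) (m : M) {g : Pt R A (DualNumber B)} (hg : g ∈ infP R A B) :
    E.IsWt m (hE.comp m hg) := by
  rw [hE.isWt_iff (hE.comp_mem m hg)]
  intro n hn f hf
  rw [hE.snd_comp, pr_of_mem_ne _ hf hn, map_zero]
  rfl

lemma IsAut.comp_eq_self (hE : E.IsAut) {m : M} {g : Pt R A (DualNumber B)} (hg : g ∈ infP R A B)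
    (h : E.IsWt m g) : hE.comp m hg = g := by
  refine infP_ext_gr (E := E) (hE.comp_mem m hg) hg fun n f hf => ?_
  rw [hE.snd_comp]
  by_cases hn : n = m
  · subst hn
    rw [pr_of_mem_same _ hf]
  · rw [pr_of_mem_ne _ hf hn, (hE.isWt_iff hg m).mp h n hn f hf, map_zero]
    rfl

lemma IsAut.comp_eq_one_iff (hE : E.IsAut) {m : M} {g : Pt R A (DualNumber B)} (hg : g ∈ infP R A B) :
    hE.comp m hg = 1 ↔ ∀ f ∈ gr E.coact m, (g.hom f).snd = 0 := by
  have h1 : ∀ a, ((1 : Pt R A (DualNumber B)).hom a).snd = 0 := by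
    intro a
    have h2 : (1 : Pt R A (DualNumber B)) = Pt.map (tinl R B) 1 := (Pt.map_one _).symm
    rw [h2]
    rfl
  constructor
  · intro h f hf
    have h2 := hE.snd_comp m hg f
    rw [h, h1, pr_of_mem_same _ hf] at h2
    exact h2.symm
  · intro h
    refine infP_ext_gr (E := E) (hE.comp_mem m hg) (one_mem _) fun n f hf => ?_
    rw [h1, hE.snd_comp]
    exact h _ (pr_mem_gr _ _ _)

lemma snd_one_hom (a : A) : ((1 : Pt R A (DualNumber B)).hom a).snd = 0 := by
  have h2 : (1 : Pt R A (DualNumber B)) = Pt.map (tinl R B) 1 := (Pt.map_one _).symm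
  rw [h2]
  rfl

/-- An infinitesimal point with trivial components is trivial. -/
lemma IsAut.eq_one_of_comp (hE : E.IsAut) {g : Pt R A (DualNumber B)} (hg : g ∈ infP R A B)
    (h : ∀ m, hE.comp m hg = 1) : g = 1 := by
  refine infP_ext_gr (E := E) hg (one_mem _) fun n f hf => ?_
  rw [snd_one_hom]
  exact (hE.comp_eq_one_iff hg).mp (h n) f hf

end comp

end K929.Act.TAct
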