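import Groth.Agent.LieWt.K929.LieCell
import Groth.Agent.Sga3B.ChartGood848
import Groth.Agent.Sga3.H811.Pts

/-!
# The weight spaces of the Lie algebra of a split reductive group over an affine base
-/

set_option autoImplicit false
universe u

open CategoryTheory MonoidalCategory CartesianMonoidalCategory MonObj GrpObj AlgebraicGeometry Limits

namespace K929.LieSplit

open Groth.Agent.Sga3B Cell PinMod DSPts GaPts K929.LieDict K929.LieCell

variable {R : Type u} [CommRing R] {G : Over (Spec (CommRingCat.of R))} [GrpObj G]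
variable {B C : Type u} [CommRing B] [Algebra R B] [CommRing C] [Algebra R C]

/-- the structure map of an `R`-algebra -/
noncomputable abbrev str (R : Type u) [CommRing R] (B : Type u) [CommRing B] [Algebra R B] :
    Spec (CommRingCat.of B) ⟶ Spec (CommRingCat.of R) :=
  Spec.map (CommRingCat.ofHom (algebraMap R B))

lemma str_eq (R : Type u) [CommRing R] (B : Type u) [CommRing B] [Algebra R B] :
    str R B = Spec.map (CommRingCat.ofHom (algebraMap R B)) ≫ 𝟙 (Spec (CommRingCat.of R)) :=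
  (Category.comp_id _).symm

variable (c : Chart G (𝟙 (Spec (CommRingCat.of R))))

/-- the infinitesimal point of an element of the Lie algebra over an affine base -/
noncomputable def infR (B : Type u) [CommRing B] [Algebra R B] :
    LieS.LieR G B →* Pt R c.A (DualNumber B) := inf c (str_eq R B)

lemma infR_injective : Function.Injective (infR c B) := inf_injective c _

lemma infR_mem (x : LieS.LieR G B) : infR c B x ∈ infP R c.A B := inf_mem c _ x

lemma exists_infR {g : Pt R c.A (DualNumber B)} (hg : g ∈ infP R c.A B) :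
    ∃ x : LieS.LieR G B, infR c B x = g := exists_inf_eq c _ g hg

lemma infR_smul (b : B) (x : LieS.LieR G B) : infR c B (b • x) = Pt.map (dscale R b) (infR c B x) :=
  inf_smul c _ b x

lemma castP_ptIso (φ : B →ₐ[R] C) :
    (castP (comp_hf (str_eq R B) φ)).hom ≫ (VecGrp.ptIso φ).hom = (castP (str_eq R C)).hom := by
  ext
  change 𝟙 _ ≫ 𝟙 _ = 𝟙 _
  rw [Category.comp_id]

/-- The defining condition of weight spaces, in a chart. -/
lemma weight_cond {T : Over (Spec (CommRingCat.of R))} (i : T ⟶ G) (x : LieS.LieR G B) (φ : B →ₐ[R] C)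
    (t : VecGrp.pt R C ⟶ T) (b : C) (y₀ : Pt R c.A C)
    (hy₀ : c.pts C y₀ = (castP (str_eq R C)).hom ≫ t ≫ i) :
    LieS.Ad G C _ ((VecGrp.ptIso φ).hom ≫ t ≫ i) (LieS.pull G _ φ.toRingHom x) =
      b • LieS.pull G _ φ.toRingHom x ↔
    Pt.map (tinl R C) y₀ * Pt.map (dmap φ) (infR c B x) * (Pt.map (tinl R C) y₀)⁻¹ =
      Pt.map (dscale R b) (Pt.map (dmap φ) (infR c B x)) := by
  rw [← (inf_injective c (comp_hf (str_eq R B) φ)).eq_iff, inf_Ad c _ _ y₀, inf_smul,
    inf_pull c (str_eq R B)]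
  · rfl
  · rw [hy₀, ← castP_ptIso φ, Category.assoc]

section split

variable (D : Red.SplitRed G)

/-- the point of the torus with given coordinates -/
noncomputable def tPt (t : TPt D.M C) : VecGrp.pt R C ⟶ D.T :=
  (castP (str_eq R C)).inv ≫ dsEquiv (tB (𝟙 _) C) D.M (chΓ (𝟙 _) t) ≫ Chart.splitInv D

lemma castP_tPt (t : TPt D.M C) : (castP (str_eq R C)).hom ≫ tPt D t =
    dsEquiv (tB (𝟙 _) C) D.M (chΓ (𝟙 _) t) ≫ Chart.splitInv D := by
  rw [tPt, Iso.hom_inv_id_assoc]

lemma exists_tPt (t : VecGrp.pt R C ⟶ D.T) : ∃ t' : TPt D.M C, t = tPt D t' := by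
  obtain ⟨t', ht'⟩ := exists_chΓ (𝟙 _) ((castP (str_eq R C)).hom ≫ t ≫ Chart.splitHom D)
  refine ⟨t', ?_⟩
  rw [tPt, ← ht', Category.assoc, Category.assoc, Chart.splitHom_inv, Category.comp_id,
    Iso.inv_hom_id_assoc]

lemma pts_i_tPt (t : TPt D.M C) : c.pts C ((c.datum D).i C t) =
    (castP (str_eq R C)).hom ≫ tPt D t ≫ D.i := by
  rw [c.pts_i, ← Category.assoc (castP (str_eq R C)).hom, castP_tPt, Category.assoc]

/-- the value of a character -/
lemma chiVal_tPt (m : D.M) (t : TPt D.M C) :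
    VecGrp.chiVal (Chart.splitHom D ≫ Red.chi (Spec (CommRingCat.of R)) m) (tPt D t) = TPt.ch m t := by
  unfold VecGrp.chiVal
  have h1 : tPt D t ≫ Chart.splitHom D ≫ Red.chi (Spec (CommRingCat.of R)) m =
      (castP (str_eq R C)).inv ≫ dsEquiv (tB (𝟙 _) C) D.M (chΓ (𝟙 _) t) ≫ Red.chi _ m := by
    rw [tPt, Category.assoc, Category.assoc, Chart.splitInv_hom_assoc]
  rw [h1, Groth.Agent.Sga3.H811.Pts.gmFn_comp, gmFn_chi, dsChar_dsEquiv, chΓ_apply]
  have h2 : (castP (str_eq R C)).inv.left = 𝟙 _ := rfl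
  rw [h2, Scheme.Hom.id_appTop]
  change ((Scheme.ΓSpecIso (CommRingCat.of C)).inv ≫ (Scheme.ΓSpecIso (CommRingCat.of C)).hom) _ = _
  rw [Iso.inv_hom_id]
  rfl

/-- **Weight spaces in a chart.** -/
theorem mem_weightSpOf_iff (m : D.M) (x : LieS.LieR G B) :
    x ∈ LieWt.weightSpOf D.i (Chart.splitHom D ≫ Red.chi (Spec (CommRingCat.of R)) m) B ↔
      IsWt (c.datum D) m (infR c B x) := by
  unfold LieWt.weightSpOf
  rw [LieWt.mem_weightSp_iff]
  constructor
  · intro h C _ _ φ t
    have h1 := h C φ (tPt D t)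
    rw [chiVal_tPt] at h1
    exact (weight_cond c D.i x φ (tPt D t) _ _ (pts_i_tPt c D t)).mp h1
  · intro h C _ _ φ t
    obtain ⟨t', rfl⟩ := exists_tPt D t
    rw [chiVal_tPt]
    exact (weight_cond c D.i x φ (tPt D t') _ _ (pts_i_tPt c D t')).mpr (h C φ t')

end split

end K929.LieSplit
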