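import Groth.Agent.LieWt.K929.Act
import Groth.Agent.LieWt.K929.LieSplit

/-!
# Charts of affine groups over an affine base: the universal point; subgroups in charts
-/

set_option autoImplicit false
universe u

open CategoryTheory MonoidalCategory CartesianMonoidalCategory MonObj GrpObj AlgebraicGeometry Limits

namespace K929.ChartUni

open Groth.Agent.Sga3B Cell PinMod DSPts GaPts K929.LieDict K929.LieSplit

variable {R : Type u} [CommRing R] {G : Over (Spec (CommRingCat.of R))} [GrpObj G]
  (c : Chart G (𝟙 (Spec (CommRingCat.of R))))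

/-- the universal point -/
noncomputable def uni : tB (𝟙 (Spec (CommRingCat.of R))) c.A ⟶ G := c.pts c.A (Pt.mk (AlgHom.id R c.A))

instance isIso_uni_left : IsIso (uni c).left := by
  have h1 : (uni c).left = c.p := by
    unfold uni
    rw [c.pts_left]
    change Spec.map (𝟙 _) ≫ c.p = c.p
    rw [Spec.map_id, Category.id_comp]
  rw [h1]
  exact c.isPullback.isIso_fst_of_isIso

instance isIso_uni : IsIso (uni c) := by
  have h1 : IsIso ((Over.forget _).map (uni c)) := isIso_uni_left c
  exact isIso_of_reflects_iso (uni c) (Over.forget _)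

include c in
lemma isAffine_left : IsAffine G.left := by
  have : IsAffine (tB (𝟙 (Spec (CommRingCat.of R))) c.A).left :=
    inferInstanceAs (IsAffine (Spec (CommRingCat.of c.A)))
  exact .of_isIso (CategoryTheory.inv (uni c).left)

lemma tMap_uni {B : Type u} [CommRing B] [Algebra R B] (g : Pt R c.A B) :
    tMap _ g.hom ≫ uni c = c.pts B g := by
  unfold uni
  rw [c.pts_nat]
  rfl

/-- two morphisms agree if they agree at the universal point -/
lemma ext_uni {X : Over (Spec (CommRingCat.of R))} {f g : G ⟶ X} (h : uni c ≫ f = uni c ≫ g) : f = g :=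
  (cancel_epi (uni c)).mp h

section sub

variable {H : Over (Spec (CommRingCat.of R))} [GrpObj H] (cH : Chart H (𝟙 (Spec (CommRingCat.of R))))
  (i : H ⟶ G) [IsMonHom i]
variable {B C : Type u} [CommRing B] [Algebra R B] [CommRing C] [Algebra R C]

/-- a homomorphism on points in charts -/
noncomputable def emb (B : Type u) [CommRing B] [Algebra R B] : Pt R cH.A B →* Pt R c.A B where
  toFun g := (c.pts B).symm (cH.pts B g ≫ i)
  map_one' := by rw [_root_.map_one, MonObj.one_comp, _root_.map_one]
  map_mul' g h := by rw [_root_.map_mul, MonObj.mul_comp, _root_.map_mul]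

lemma pts_emb (g : Pt R cH.A B) : c.pts B (emb c cH i B g) = cH.pts B g ≫ i :=
  MulEquiv.apply_symm_apply _ _

lemma emb_nat (φ : B →ₐ[R] C) (g : Pt R cH.A B) :
    Pt.map φ (emb c cH i B g) = emb c cH i C (Pt.map φ g) := by
  apply (c.pts C).injective
  rw [← c.pts_nat, pts_emb, pts_emb, ← cH.pts_nat, Category.assoc]

lemma emb_injective [Mono i] : Function.Injective (emb c cH i B) := by
  intro g h hgh
  have h1 := congrArg (c.pts B) hgh
  rw [pts_emb, pts_emb, cancel_mono] at h1
  exact (cH.pts B).injective h1

lemma emb_infR (x : LieS.LieR H B) :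
    emb c cH i (DualNumber B) (infR cH B x) = infR c B (LieS.map B _ i x) := by
  apply (c.pts (DualNumber B)).injective
  rw [pts_emb]
  unfold infR
  rw [pts_inf, pts_inf, Category.assoc]
  rfl

end sub

end K929.ChartUni
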