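import Groth.Agent.LieWt.K929.ActInf
import Groth.Agent.LieWt.K929.ChartUni

/-!
# Subgroups normalized by a split torus
-/

set_option autoImplicit false
universe u

open CategoryTheory MonoidalCategory CartesianMonoidalCategory MonObj GrpObj AlgebraicGeometry Limits

namespace K929.ActSub

open Groth.Agent.Sga3B Cell PinMod DSPts GaPts K929.LieDict K929.LieSplit K929.Act K929.ChartUni

section pts

variable {R A A' : Type u} [CommRing R] [CommRing A] [Algebra R A] [PtGrp R A] [CommRing A'] [Algebra R A']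
  [PtGrp R A'] {M : Type} [AddCommGroup M]

/-- The data of a subgroup normalized by a torus, on points. -/
structure Nrm (R A A' : Type u) [CommRing R] [CommRing A] [Algebra R A] [PtGrp R A] [CommRing A'] [Algebra R A']
    [PtGrp R A'] (M : Type) [AddCommGroup M] where
  /-- the subgroup -/
  emb : ∀ (B : Type u) [CommRing B] [Algebra R B], Pt R A' B →* Pt R A B
  emb_inj : ∀ {B : Type u} [CommRing B] [Algebra R B], Function.Injective (emb B)
  emb_nat : ∀ {B C : Type u} [CommRing B] [Algebra R B] [CommRing C] [Algebra R C] (φ : B →ₐ[R] C)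
    (g : Pt R A' B), Pt.map φ (emb B g) = emb C (Pt.map φ g)
  /-- the torus -/
  ti : ∀ (B : Type u) [CommRing B] [Algebra R B], TPt M B →* Pt R A B
  ti_nat : ∀ {B C : Type u} [CommRing B] [Algebra R B] [CommRing C] [Algebra R C] (φ : B →ₐ[R] C)
    (t : TPt M B), Pt.map φ (ti B t) = ti C (TPt.map φ t)
  norm : ∀ {B : Type u} [CommRing B] [Algebra R B] (t : TPt M B) (g : Pt R A' B),
    ∃ g' : Pt R A' B, emb B g' = ti B t * emb B g * (ti B t)⁻¹

namespace Nrm

variable (N : Nrm R A A' M) {B C : Type u} [CommRing B] [Algebra R B] [CommRing C] [Algebra R C]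

/-- the action -/
noncomputable def act (t : TPt M B) (g : Pt R A' B) : Pt R A' B := (N.norm t g).choose

lemma emb_act (t : TPt M B) (g : Pt R A' B) :
    N.emb B (N.act t g) = N.ti B t * N.emb B g * (N.ti B t)⁻¹ := (N.norm t g).choose_spec

lemma ti_mulP (s t : TPt M B) : N.ti B (TPt.mulP s t) = N.ti B s * N.ti B t := _root_.map_mul (N.ti B) s t

/-- The action of the torus on the subgroup. -/
noncomputable def tact : TAct R A' M where
  act := N.act
  nat φ t g := by
    apply N.emb_inj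
    rw [← N.emb_nat, emb_act, emb_act, Pt.map_mul, Pt.map_mul, Pt.map_inv, N.ti_nat, N.emb_nat]
  one g := by
    apply N.emb_inj
    rw [emb_act, _root_.map_one]
    group
  mulP s t g := by
    apply N.emb_inj
    rw [emb_act, emb_act, emb_act, ti_mulP]
    group

lemma isAut : N.tact.IsAut := by
  intro B _ _ t g h
  apply N.emb_inj
  change N.emb B (N.act t (g * h)) = N.emb B (N.act t g * N.act t h)
  rw [_root_.map_mul, emb_act, emb_act, emb_act, _root_.map_mul]
  group

end Nrm

end pts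

section sch

variable {R : Type u} [CommRing R] {G H : Over (Spec (CommRingCat.of R))} [GrpObj G] [GrpObj H]
  (c : Chart G (𝟙 (Spec (CommRingCat.of R)))) (cH : Chart H (𝟙 (Spec (CommRingCat.of R))))
  (i : H ⟶ G) [IsMonHom i] [Mono i] {M : Type} [AddCommGroup M]
  (j : Red.DS (Spec (CommRingCat.of R)) M ⟶ G) [IsMonHom j]

/-- the torus points of `G` in a chart -/
noncomputable def tiPt (B : Type u) [CommRing B] [Algebra R B] : TPt M B →* Pt R c.A B where
  toFun t := (c.pts B).symm (dsEquiv (tB (𝟙 _) B) M (chΓ (𝟙 _) t) ≫ j)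
  map_one' := by
    have h1 : dsEquiv (tB (𝟙 (Spec (CommRingCat.of R))) B) M (chΓ (𝟙 _) (1 : TPt M B)) = 1 := by
      rw [← _root_.map_one (dsEquiv (tB (𝟙 (Spec (CommRingCat.of R))) B) M)]
      congr 1
      apply MonoidHom.ext
      intro m
      obtain ⟨m, rfl⟩ := Multiplicative.ofAdd.surjective m
      rw [chΓ_apply]
      exact _root_.map_one (Scheme.ΓSpecIso (CommRingCat.of B)).inv.hom
    rw [h1, MonObj.one_comp, _root_.map_one]
  map_mul' s t := by
    have h1 : dsEquiv (tB (𝟙 (Spec (CommRingCat.of R))) B) M (chΓ (𝟙 _) (s * t)) =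
        dsEquiv (tB (𝟙 _) B) M (chΓ (𝟙 _) s) * dsEquiv (tB (𝟙 _) B) M (chΓ (𝟙 _) t) := by
      rw [← _root_.map_mul (dsEquiv (tB (𝟙 (Spec (CommRingCat.of R))) B) M)]
      congr 1
      apply MonoidHom.ext
      intro m
      obtain ⟨m, rfl⟩ := Multiplicative.ofAdd.surjective m
      rw [MonoidHom.mul_apply, chΓ_apply, chΓ_apply, chΓ_apply, ← fnOf_mul]
      rfl
    rw [h1, MonObj.mul_comp, _root_.map_mul]

lemma pts_tiPt {B : Type u} [CommRing B] [Algebra R B] (t : TPt M B) : c.pts B (tiPt c j B t) =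
    dsEquiv (tB (𝟙 _) B) M (chΓ (𝟙 _) t) ≫ j := MulEquiv.apply_symm_apply _ _

lemma tiPt_nat {B C : Type u} [CommRing B] [Algebra R B] [CommRing C] [Algebra R C] (φ : B →ₐ[R] C)
    (t : TPt M B) : Pt.map φ (tiPt c j B t) = tiPt c j C (TPt.map φ t) := by
  apply (c.pts C).injective
  rw [← c.pts_nat, pts_tiPt, pts_tiPt, ← Category.assoc]
  congr 1
  exact tMap_dsEquiv _ φ t

/-- `H` is normalized by the torus -/
noncomputable def nrm (hn : ∀ (X : Over (Spec (CommRingCat.of R))) (t : X ⟶ Red.DS (Spec (CommRingCat.of R)) M)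
    (x : X ⟶ H), ∃ x' : X ⟶ H, (t ≫ j) * (x ≫ i) * (t ≫ j)⁻¹ = x' ≫ i) :
    Nrm R c.A cH.A M where
  emb B _ _ := emb c cH i B
  emb_inj {B} _ _ := emb_injective (B := B) c cH i
  emb_nat φ g := emb_nat c cH i φ g
  ti B _ _ := tiPt c j B
  ti_nat φ t := tiPt_nat c j φ t
  norm {B} _ _ t g := by
    obtain ⟨x', hx'⟩ := hn _ (dsEquiv (tB (𝟙 _) B) M (chΓ (𝟙 _) t)) (cH.pts B g)
    refine ⟨(cH.pts B).symm x', ?_⟩
    apply (c.pts B).injective
    rw [pts_emb, MulEquiv.apply_symm_apply, ← hx', _root_.map_mul, _root_.map_mul, _root_.map_inv,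
      pts_tiPt, pts_emb]

end sch

end K929.ActSub
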