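import Groth.Agent.LieWt.K929.CentSub
import Groth.Agent.LieWt.K929.LieRoot
import Groth.Agent.Agf.H600.CentRedK
import Groth.Agent.Sga3.H807.TorRed
import Groth.Agent.Sga3B.DimRed879

/-!
# The dimension of the centralizer of the kernel torus of a root
-/

set_option autoImplicit false
universe u v

open CategoryTheory MonoidalCategory CartesianMonoidalCategory MonObj GrpObj AlgebraicGeometry Limits
open scoped TensorProduct

namespace K929.HopfChart

open Groth.Agent.Books.AffBridge Groth.Agent.Sga3B Cell K929.LieDict K929.LieSplit K929.Act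
open Groth.Agent.Sga3B.RootCoact Groth.Agent.Sga3B.RootOrb Groth.Agent.Sga3B.RootGr
open Groth.Agent.Sga3B.RootGa Groth.Agent.Sga3B.RootRefl136 Groth.Agent.Sga3B.RootWt136
open Groth.Agent.Sga3B.RootCert Groth.Agent.Sga3B.RootBC136
open K929.CharLemmas

variable {R : Type u} [CommRing R] {M : Type} [AddCommGroup M]
variable {G T : Over (Spec (CommRingCat.of R))} [GrpObj G] [GrpObj T]

section map

variable {Z : Over (Spec (CommRingCat.of R))} [GrpObj Z] (z : Z ⟶ G) [IsMonHom z] [Mono z] {B : Type u} [CommRing B] [Algebra R B]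

omit [Mono z] in
lemma map_val (f : Spec (CommRingCat.of B) ⟶ Spec (CommRingCat.of R)) (y : LieS.Lie Z B f) :
    (LieS.map B f z y).1 = y.1 ≫ z := rfl

lemma map_injective (f : Spec (CommRingCat.of B) ⟶ Spec (CommRingCat.of R)) :
    Function.Injective (LieS.map B f z) := by
  intro x y h
  apply Subtype.ext
  rw [← cancel_mono z]
  exact congrArg Subtype.val h

/-- weight spaces of subgroups -/
lemma mem_weightSpOf_map {U : Over (Spec (CommRingCat.of R))} (iz : U ⟶ Z) (i : U ⟶ G) (hi : iz ≫ z = i)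
    (χ : U ⟶ Red.Gm (Spec (CommRingCat.of R))) (y : LieS.LieR Z B) :
    y ∈ LieWt.weightSpOf iz χ B ↔
      LieS.map B (Spec.map (CommRingCat.ofHom (algebraMap R B))) z y ∈ LieWt.weightSpOf i χ B := by
  unfold LieWt.weightSpOf
  rw [LieWt.mem_weightSp_iff, LieWt.mem_weightSp_iff]
  subst hi
  refine forall_congr' fun C => forall_congr' fun _ => forall_congr' fun _ => forall_congr' fun φ =>
    forall_congr' fun t => ?_
  have h1 : ∀ (f : Spec (CommRingCat.of C) ⟶ Spec (CommRingCat.of R)) (g : LieS.pt C f ⟶ Z) (w : LieS.Lie Z C f),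
      LieS.map C f z (LieS.Ad Z C f g w) = LieS.Ad G C f (g ≫ z) (LieS.map C f z w) := by
    intro f g w
    apply Subtype.ext
    rw [map_val, LieWt.Ad_val, LieWt.Ad_val, map_val, MonObj.mul_comp, MonObj.mul_comp, GrpObj.inv_comp,
      Category.assoc]
  have h2 : ∀ (f : Spec (CommRingCat.of C) ⟶ Spec (CommRingCat.of R)) (b : C) (w : LieS.Lie Z C f),
      LieS.map C f z (b • w) = b • LieS.map C f z w := by
    intro f b w
    apply Subtype.ext
    rw [map_val, LieS.smul_val, LieS.smul_val, map_val, Category.assoc]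
  have h3 : LieS.map C (Spec.map (CommRingCat.ofHom φ.toRingHom) ≫ Spec.map (CommRingCat.ofHom (algebraMap R B))) z
      (LieS.pull Z _ φ.toRingHom y) = LieS.pull G _ φ.toRingHom
        (LieS.map B (Spec.map (CommRingCat.ofHom (algebraMap R B))) z y) := by
    apply Subtype.ext
    rw [map_val, LieWt.pull_val, LieWt.pull_val, map_val, Category.assoc]
  have h4 : (VecGrp.ptIso φ).hom ≫ t ≫ iz ≫ z = ((VecGrp.ptIso φ).hom ≫ t ≫ iz) ≫ z := by
    simp only [Category.assoc]
  rw [← (map_injective z (Spec.map (CommRingCat.ofHom φ.toRingHom) ≫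
    Spec.map (CommRingCat.ofHom (algebraMap R B)))).eq_iff, h1, h2, h3, h4]

end map

section field

variable {i : T ⟶ G} {sp : Grp.mk T ≅ Grp.mk (Red.DS (Spec (CommRingCat.of R)) M)} (s : Setup i sp)
  {K : Type u} [Field K] [Algebra R K]

/-- weights and weight spaces over a field -/
theorem Setup.isWt_iff_weightSpOf {m : M} (hm : m ≠ 0) :
    IsWt (bcP K s.p) m ↔ LieWt.weightSpOf i (chr sp m) K ≠ ⊥ := by
  rw [RootWt136.isWt_iff s.p K hm]
  constructor
  · intro hn hbot
    obtain ⟨w, hw⟩ := exists_ne (0 : K ⊗[R] (W s.p m))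
    have h1 : ¬ ∀ φ : Module.Dual K (K ⊗[R] (W s.p m)), φ w = 0 := by
      rw [Module.forall_dual_apply_eq_zero_iff K w]
      exact hw
    push Not at h1
    obtain ⟨φ, hφ⟩ := h1
    let l : W s.p m →ₗ[R] K := (φ.restrictScalars R) ∘ₗ (TensorProduct.mk R K (W s.p m) 1)
    obtain ⟨x, hx, hxl⟩ := s.exists_mem_weightSpOf hm l
    rw [hbot, Subgroup.mem_bot] at hx
    have hl : l = 0 := by
      ext w'
      have h2 : toW s.p m (w' : s.A ⧸ I2 R s.A) = w' := DFunLike.congr_fun (toW_comp_subtype s.p m) w'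
      have h3 := DFunLike.congr_fun hxl (w' : s.A ⧸ I2 R s.A)
      rw [LinearMap.comp_apply, h2, hx] at h3
      obtain ⟨f, hf⟩ := (I2 R s.A).mkQ_surjective (w' : s.A ⧸ I2 R s.A)
      rw [← h3, ← hf, s.ln_mkQ, s.inf_one]
      exact TAct.snd_one_hom (A := (chart s.e).A) f
    apply hφ
    have h4 : φ = 0 := by
      ext w'
      exact DFunLike.congr_fun hl w'
    rw [h4, LinearMap.zero_apply]
  · intro hne
    by_contra hsub
    rw [not_nontrivial_iff_subsingleton] at hsub
    apply hne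
    rw [eq_bot_iff]
    intro x hx
    rw [Subgroup.mem_bot]
    apply s.ln_injective
    apply LinearMap.ext
    intro y
    have h1 : ∀ w : W s.p m, s.ln x (w : s.A ⧸ I2 R s.A) = 0 := by
      intro w
      have h2 := LinearMap.liftBaseChange_tmul K (s.ln x ∘ₗ (W s.p m).subtype) (1 : K) w
      rw [Subsingleton.elim ((1 : K) ⊗ₜ[R] w) 0, map_zero, one_smul] at h2
      exact h2.symm
    rw [s.ln_eq_of_mem hx y]
    rw [h1 ⟨PQ s.p m y, LinearMap.mem_range_self _ _⟩]
    obtain ⟨f, rfl⟩ := (I2 R s.A).mkQ_surjective y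
    rw [s.ln_mkQ, s.inf_one]
    exact (TAct.snd_one_hom (A := (chart s.e).A) f).symm

end field

section dim

variable {i : T ⟶ G} {sp : Grp.mk T ≅ Grp.mk (Red.DS (Spec (CommRingCat.of R)) M)}

/-- the dimension of the geometric fibres -/
theorem Setup.dim (s : Setup i sp) [Module.Finite ℤ M] [Module.Free ℤ M] (hG : Red.IsReductive G)
    (Φ : Finset M) (hΦ : ∀ (K : Type u) [Field K] [IsAlgClosed K] [Algebra R K] (m : M), m ≠ 0 →
      (m ∈ Φ ↔ LieWt.weightSpOf i (chr sp m) K ≠ ⊥)) (h0 : (0 : M) ∉ Φ) (x : Spec (CommRingCat.of R)) :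
    topologicalKrullDim ↥(Red.geomFibre x G).left =
      ((Module.finrank ℤ M + Φ.card : ℕ) : WithBot ℕ∞) := by
  refine DimRed879.topologicalKrullDim_geomFibre G hG s.e Φ ?_ x
  intro K _ _ _
  refine ⟨bcP K s.p, (s.cert K).surj, (s.cert K).cent, (s.cert K).one, fun m => ?_⟩
  constructor
  · intro hm
    have hm0 : m ≠ 0 := fun h => h0 (h ▸ hm)
    exact ⟨hm0, (s.isWt_iff_weightSpOf hm0).2 ((hΦ K m hm0).1 hm)⟩
  · rintro ⟨hm0, hm⟩
    exact (hΦ K m hm0).2 ((s.isWt_iff_weightSpOf hm0).1 hm)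

omit [GrpObj G] in
/-- a torus is a maximal torus of itself -/
lemma isMaximalTorus_id (hT : Red.IsTorus T) : Red.IsMaximalTorus (𝟙 T) := by
  refine ⟨inferInstance, inferInstance, hT, ?_⟩
  intro x T' _ j _ _ f _ hf
  rw [CategoryTheory.Functor.map_id] at hf
  have h2 : j ≫ f = 𝟙 _ := by
    rw [← cancel_mono j, Category.assoc, hf, Category.comp_id, Category.id_comp]
  exact ⟨j, hf, h2⟩

omit [GrpObj G] in
lemma isReductive_of_isTorus (hT : Red.IsTorus T) : Red.IsReductive T :=
  ⟨TorusAlgClosed.isAffineHom_of_isTorus hT, TorusAlgClosed.smooth_of_isTorus hT, fun x =>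
    Groth.Agent.Sga3.H807.TorRed.isReductiveOver_of_isTorus (TorusBc.isTorus_bc _ hT)⟩

/-- maximal tori of subgroups -/
lemma isMaximalTorus_of_sub {Z : Over (Spec (CommRingCat.of R))} [GrpObj Z] (z : Z ⟶ G) [IsMonHom z] [Mono z]
    (iz : T ⟶ Z) (hi : iz ≫ z = i) (hT : Red.IsMaximalTorus i) : Red.IsMaximalTorus iz := by
  have h1 : IsMonHom i := hT.1
  have h2 : Mono i := hT.2.1
  refine ⟨K929.LieRoot.isMonHom_of_mono iz z i hi, ?_, hT.2.2.1, ?_⟩
  · have : Mono (iz ≫ z) := by rw [hi]; exact h2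
    exact mono_of_mono iz z
  · intro x T' _ j _ _ f hT' hf
    refine hT.2.2.2 x T' (j ≫ (Over.pullback (Red.geomPt x)).map z) f hT' ?_
    rw [← Category.assoc, hf, ← Functor.map_comp, hi]

/-- a commutative subgroup factors through the centralizer of its subgroups -/
lemma exists_factor_cent {Ta Z : Over (Spec (CommRingCat.of R))} [GrpObj Ta] [GrpObj Z] (j : Ta ⟶ T)
    (z : Z ⟶ G) [IsMonHom i] (sp : Grp.mk T ≅ Grp.mk (Red.DS (Spec (CommRingCat.of R)) M))
    (hz : Red.IsCentralizerOf (j ≫ i) z) : ∃ iz : T ⟶ Z, iz ≫ z = i := by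
  have hc : ∀ (X : Over (Spec (CommRingCat.of R))) (t t' : X ⟶ T), t * t' = t' * t := by
    intro X t t'
    obtain ⟨σ, h1, h2⟩ : ∃ σ : T ⟶ Red.DS (Spec (CommRingCat.of R)) M, IsIso σ ∧ IsMonHom σ :=
      ⟨sp.hom.hom.hom, ⟨sp.inv.hom.hom, sp_hom_inv sp, sp_inv_hom sp⟩, sp.hom.hom.isMonHom_hom⟩
    have h3 := MonObj.mul_comp t t' σ
    have h4 := MonObj.mul_comp t' t σ
    rw [← cancel_mono σ, h3, h4]
    apply (DSPts.dsEquiv X M).symm.injective
    change DSPts.dsChar _ = DSPts.dsChar _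
    rw [DSPts.dsChar_mul, DSPts.dsChar_mul, mul_comm]
  refine (hz.2.2 T i).2 fun X' x' h => ?_
  rw [← Category.assoc h j i, ← MonObj.mul_comp, ← MonObj.mul_comp, hc]

/-- **The dimension of the centralizer of the kernel torus.** -/
theorem dim_cent [Module.Finite ℤ M] [Module.Free ℤ M] (hG : Red.IsReductive G)
    (hT : Red.IsMaximalTorus i) (s : Setup i sp)
    {Ta Z : Over (Spec (CommRingCat.of R))} [GrpObj Ta] [GrpObj Z] (hTa : Red.IsTorus Ta) (j : Ta ⟶ T)
    [IsMonHom j] [Mono j] (z : Z ⟶ G) [IsMonHom z]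
    (hz : Red.IsCentralizerOf (j ≫ i) z) {a : M} (ha : a ≠ 0)
    (hrk : ∀ x, s.rk a x ≠ 0) (hj : j ≫ chr sp a = 1)
    (f' : Red.DS (Spec (CommRingCat.of R)) (M ⧸ satQ a) ⟶ Ta) (hf' : f' ≫ j = kerT sp a)
    (x : Spec (CommRingCat.of R)) :
    topologicalKrullDim ↥(Red.geomFibre x Z).left = topologicalKrullDim ↥(Red.geomFibre x T).left + 2 := by
  classical
  have hi : IsMonHom i := hT.1
  have him : Mono i := hT.2.1
  have hzm : Mono z := hz.2.1
  have haa : a ≠ -a := by
    intro h
    have h1 : (2 : ℤ) • a = 0 := by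
      rw [two_smul]
      nth_rewrite 2 [h]
      exact add_neg_cancel a
    exact ha ((smul_eq_zero.1 h1).resolve_left two_ne_zero)
  have hji : Mono (j ≫ i) := mono_comp _ _
  have hZ : Red.IsReductive Z := Groth.Agent.Agf.H600.CentRedK.isReductive_of_isCentralizerOf hG (j ≫ i) hTa z hz
  obtain ⟨iz, hiz⟩ := exists_factor_cent j z sp hz
  have hTz : Red.IsMaximalTorus iz := isMaximalTorus_of_sub z iz hiz hT
  obtain ⟨sz⟩ := exists_setup hZ iz hTz sp
  obtain ⟨st⟩ := exists_setup (isReductive_of_isTorus hT.2.2.1) (𝟙 T) (isMaximalTorus_id hT.2.2.1) sp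
  have hdT := st.dim (isReductive_of_isTorus hT.2.2.1) ∅ (fun K _ _ _ m hm => by
    have h1 : LieWt.weightSpOf (𝟙 T) (chr sp m) K = ⊥ := by
      rw [eq_bot_iff]
      intro y hy
      rw [Subgroup.mem_bot]
      refine st.eq_one_of_noComp fun n => ?_
      by_cases hn : n = m
      · subst hn
        refine (st.mem_map_torus' y).1 ⟨y, trivial, ?_⟩ n hm
        apply Subtype.ext
        exact Category.comp_id y.1
      · exact (st.mem_weightSpOf' m y).1 hy n hn
    rw [h1]
    simp) (Finset.notMem_empty _) x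
  have hdZ := sz.dim hZ {a, -a} (fun K _ _ _ m hm => by
    constructor
    · intro hmem
      have hrm : s.rk m ((⊥ : PrimeSpectrum K).comap (algebraMap R K)) ≠ 0 := by
        rw [Finset.mem_insert, Finset.mem_singleton] at hmem
        rcases hmem with rfl | rfl
        · exact hrk _
        · exact s.rk_neg ha (hrk _)
      have h1 : LieWt.weightSpOf i (chr sp m) K ≠ ⊥ :=
        (s.isWt_iff_weightSpOf hm).1 ((s.isWt_iff_rk K hm).2 hrm)
      rw [Ne, Subgroup.eq_bot_iff_forall] at h1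
      push Not at h1
      obtain ⟨y, hy, hy1⟩ := h1
      obtain ⟨w, -, hw⟩ : y ∈ Subgroup.map (LieS.map K (Spec.map (CommRingCat.ofHom (algebraMap R K))) z) ⊤ := by
        rw [s.mem_map_cent j z hz ha hrk hj f' hf']
        intro n _ hn2 hn3
        rw [s.mem_weightSpOf'] at hy
        refine hy n ?_
        rintro rfl
        rw [Finset.mem_insert, Finset.mem_singleton] at hmem
        rcases hmem with h | h
        · exact hn2 h
        · exact hn3 h
      intro hbot
      have h2 : w ∈ LieWt.weightSpOf iz (chr sp m) K := by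
        rw [mem_weightSpOf_map z iz i hiz, hw]
        exact hy
      rw [hbot, Subgroup.mem_bot] at h2
      apply hy1
      rw [← hw, h2, _root_.map_one]
    · intro h1
      rw [Ne, Subgroup.eq_bot_iff_forall] at h1
      push Not at h1
      obtain ⟨w, hw, hw1⟩ := h1
      rw [mem_weightSpOf_map z iz i hiz, s.mem_weightSpOf'] at hw
      have h2 := (s.mem_map_cent j z hz ha hrk hj f' hf'
        (LieS.map K (Spec.map (CommRingCat.ofHom (algebraMap R K))) z w)).1 ⟨w, trivial, rfl⟩
      by_contra hmem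
      rw [Finset.mem_insert, Finset.mem_singleton, not_or] at hmem
      apply hw1
      apply map_injective z (Spec.map (CommRingCat.ofHom (algebraMap R K)))
      rw [_root_.map_one]
      refine s.eq_one_of_noComp fun n => ?_
      by_cases hn : n = m
      · subst hn
        exact h2 n hm hmem.1 hmem.2
      · exact hw n hn)
    (by simp [Ne.symm ha, ha]) x
  rw [hdZ, hdT, Finset.card_pair haa, Finset.card_empty, Nat.add_zero]
  push_cast
  rfl

end dim

end K929.HopfChart
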