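import Groth.Agent.LieWt.K929.SetupLie
import Groth.Agent.Sga3B.Trans894
import Groth.Agent.Sga3B.BorSpan613

/-!
# The centralizer of the kernel torus of a root: its Lie algebra
-/

set_option autoImplicit false
universe u v

open CategoryTheory MonoidalCategory CartesianMonoidalCategory MonObj GrpObj AlgebraicGeometry Limits

namespace K929.HopfChart

open Groth.Agent.Books.AffBridge Groth.Agent.Sga3B Cell K929.LieDict K929.LieSplit K929.Act
open Groth.Agent.Sga3B.RootCoact Groth.Agent.Sga3B.RootOrb Groth.Agent.Sga3B.RootGr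
open Groth.Agent.Sga3B.RootGa Groth.Agent.Sga3B.RootRefl136 Groth.Agent.Sga3B.RootWt136
open K929.CharLemmas

section sat

variable {M : Type} [AddCommGroup M] (a : M)

/-- the saturation of `ℤ a` as a subgroup -/
def satQ : AddSubgroup M :=
  { lamQ a with
    neg_mem' := by
      rintro m ⟨k, l, hk, h⟩
      exact ⟨k, -l, hk, by rw [smul_neg, h, neg_smul]⟩ }

lemma mem_satQ {m : M} : m ∈ satQ a ↔ m ∈ lamQ a := Iff.rfl

lemma self_mem_satQ : a ∈ satQ a := ⟨1, 1, one_ne_zero, rfl⟩

instance torsionFree_satQ : Module.IsTorsionFree ℤ (M ⧸ satQ a) where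
  isSMulRegular := by
    intro k hk x y h
    have hk0 : k ≠ 0 := by
      rintro rfl
      exact one_ne_zero (hk.1 (show (0 : ℤ) * 1 = 0 * 0 by ring))
    obtain ⟨x, rfl⟩ := QuotientAddGroup.mk'_surjective _ x
    obtain ⟨y, rfl⟩ := QuotientAddGroup.mk'_surjective _ y
    simp only at h
    rw [← map_zsmul, ← map_zsmul, ← sub_eq_zero, ← map_sub, ← smul_sub] at h
    rw [← sub_eq_zero, ← map_sub]
    refine (QuotientAddGroup.eq_zero_iff _).2 ?_
    obtain ⟨k', l, hk', h'⟩ := (QuotientAddGroup.eq_zero_iff _).1 h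
    exact ⟨k' * k, l, mul_ne_zero hk' hk0, by rw [mul_smul, h']⟩

instance free_satQ [Module.Finite ℤ M] : Module.Free ℤ (M ⧸ satQ a) :=
  have : Module.Finite ℤ (M ⧸ satQ a) :=
    Module.Finite.of_surjective (QuotientAddGroup.mk' (satQ a)).toIntLinearMap
      (QuotientAddGroup.mk'_surjective _)
  Module.free_of_finite_type_torsion_free'

instance finite_satQ [Module.Finite ℤ M] : Module.Finite ℤ (M ⧸ satQ a) :=
    Module.Finite.of_surjective (QuotientAddGroup.mk' (satQ a)).toIntLinearMap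
      (QuotientAddGroup.mk'_surjective _)

end sat

variable {R : Type u} [CommRing R] {M : Type} [AddCommGroup M]
variable {G T : Over (Spec (CommRingCat.of R))} [GrpObj G] [GrpObj T]

section ker

variable (sp : Grp.mk T ≅ Grp.mk (Red.DS (Spec (CommRingCat.of R)) M)) (a : M)

/-- the kernel torus of a character -/
noncomputable def kerT : Red.DS (Spec (CommRingCat.of R)) (M ⧸ satQ a) ⟶ T :=
  Red.DSmap (Spec (CommRingCat.of R)) (QuotientAddGroup.mk' (satQ a)) ≫ sp.inv.hom.hom

instance : IsMonHom (kerT sp a) := by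
  have : IsMonHom sp.inv.hom.hom := sp.inv.hom.isMonHom_hom
  have := AdCentre.isMonHom_DSmap (S := Spec (CommRingCat.of R)) (QuotientAddGroup.mk' (satQ a))
  rw [kerT]
  infer_instance

instance : Mono (kerT sp a) := by
  have h1 : Mono (Red.DSmap (Spec (CommRingCat.of R)) (QuotientAddGroup.mk' (satQ a))) :=
    BorSpan613.mono_DSmap _ _ (QuotientAddGroup.mk'_surjective _)
  have h2 : IsIso sp.inv.hom.hom := ⟨sp.hom.hom.hom, sp_inv_hom sp, sp_hom_inv sp⟩
  rw [kerT]
  exact mono_comp _ _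

omit [GrpObj T] in
lemma DSmap_chi {N : Type} [AddCommGroup N] (S : Scheme.{u}) (q : M →+ N) (n : M) :
    Red.DSmap S q ≫ Red.chi S n = Red.chi S (q n) := by
  rw [Red.chi, Red.chi, BorSpan613.DSmap_comp_DSmap]
  congr 1
  ext
  simp

lemma inv_chr (n : M) : sp.inv.hom.hom ≫ chr sp n = Red.chi (Spec (CommRingCat.of R)) n := by
  rw [chr, ← Category.assoc]
  exact (congrArg (fun z => z ≫ _) (sp_inv_hom sp)).trans (Category.id_comp _)

lemma kerT_chr {n : M} (hn : n ∈ satQ a) : kerT sp a ≫ chr sp n = 1 := by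
  rw [kerT, Category.assoc, inv_chr, DSmap_chi,
    show (QuotientAddGroup.mk' (satQ a)) n = 0 from (QuotientAddGroup.eq_zero_iff _).2 hn, chi_zero]

/-- the kernel torus factors through the largest subtorus killed by the character -/
lemma exists_factor [Module.Finite ℤ M] {Ta : Over (Spec (CommRingCat.of R))} [GrpObj Ta] (j : Ta ⟶ T)
    (hmax : ∀ (T' : Over (Spec (CommRingCat.of R))) [GrpObj T'] (j' : T' ⟶ T) [IsMonHom j'] [Mono j'],
      Red.IsTorus T' → j' ≫ chr sp a = 1 → ∃ f : T' ⟶ Ta, f ≫ j = j') :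
    ∃ f : Red.DS (Spec (CommRingCat.of R)) (M ⧸ satQ a) ⟶ Ta, f ≫ j = kerT sp a :=
  hmax _ (kerT sp a) (Trans894.isTorus_DS _ _) (kerT_chr sp a (self_mem_satQ a))

end ker

namespace Setup

variable {i : T ⟶ G} {sp : Grp.mk T ≅ Grp.mk (Red.DS (Spec (CommRingCat.of R)) M)} (s : Setup i sp)
  {B : Type u} [CommRing B] [Algebra R B]
  {Ta Z : Over (Spec (CommRingCat.of R))} [GrpObj Ta] (j : Ta ⟶ T) [GrpObj Z] (z : Z ⟶ G)
  [IsMonHom z]

/-- functions of degree proportional to the root, but not `0` or `± a` -/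
lemma noComp_of_mem_satQ [Module.Free ℤ M] {a : M} (ha : a ≠ 0) (hrk : ∀ x, s.rk a x ≠ 0) {n : M}
    (hn : n ∈ satQ a) (hn0 : n ≠ 0) (hna : n ≠ a) (hna' : n ≠ -a) (x : LieS.LieR G B) :
    x ∈ s.noComp n := by
  intro f hf
  exact der_sq (s.inf_mem x) (s.mem_sq_of_rk (fun y => s.rk_eq_zero_of_mem ha hn0 hna hna' hn (hrk y)) hf)

/-- **The Lie algebra of the centralizer of the kernel torus of a root.** -/
theorem mem_map_cent [Module.Free ℤ M] (hz : Red.IsCentralizerOf (j ≫ i) z) {a : M} (ha : a ≠ 0)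
    (hrk : ∀ x, s.rk a x ≠ 0) (hj : j ≫ chr sp a = 1)
    (f' : Red.DS (Spec (CommRingCat.of R)) (M ⧸ satQ a) ⟶ Ta) (hf' : f' ≫ j = kerT sp a)
    (x : LieS.LieR G B) :
    x ∈ Subgroup.map (LieS.map B (Spec.map (CommRingCat.ofHom (algebraMap R B))) z) ⊤ ↔
      ∀ n, n ≠ 0 → n ≠ a → n ≠ -a → x ∈ s.noComp n := by
  constructor
  · intro hx n hn0 hna hna'
    by_cases hn : n ∈ satQ a
    · exact s.noComp_of_mem_satQ ha hrk hn hn0 hna hna' x
    · exact s.noComp_of_mem_map j z hz f' hf' hx hn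
  · intro h
    refine s.mem_map_centralizer_of j z hz x fun n hn => h n ?_ ?_ ?_
    · rintro rfl
      exact hn (by rw [chr_zero, MonObj.comp_one])
    · rintro rfl
      exact hn hj
    · rintro rfl
      apply hn
      rw [← chr_neg, GrpObj.comp_inv, hj, inv_one]

/-- **The decomposition of the Lie algebra of the centralizer.** -/
theorem map_cent_eq [Mono i] [IsMonHom i] [Module.Free ℤ M] (hz : Red.IsCentralizerOf (j ≫ i) z) {a : M} (ha : a ≠ 0)
    (hrk : ∀ x, s.rk a x ≠ 0) (hj : j ≫ chr sp a = 1)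
    (f' : Red.DS (Spec (CommRingCat.of R)) (M ⧸ satQ a) ⟶ Ta) (hf' : f' ≫ j = kerT sp a) :
    Subgroup.map (LieS.map B (Spec.map (CommRingCat.ofHom (algebraMap R B))) z) ⊤ =
        Subgroup.map (LieS.map B (Spec.map (CommRingCat.ofHom (algebraMap R B))) i) ⊤ ⊔
          LieWt.weightSpOf i (chr sp a) B ⊔ LieWt.weightSpOf i (chr sp (-a)) B ∧
      iSupIndep ![Subgroup.map (LieS.map B (Spec.map (CommRingCat.ofHom (algebraMap R B))) i) ⊤,
        LieWt.weightSpOf i (chr sp a) B, LieWt.weightSpOf i (chr sp (-a)) B] := by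
  have haa : a ≠ -a := by
    intro h
    have h1 : (2 : ℤ) • a = 0 := by
      rw [two_smul]
      nth_rewrite 2 [h]
      exact add_neg_cancel a
    exact ha ((smul_eq_zero.1 h1).resolve_left two_ne_zero)
  have hm := fun x => s.mem_map_cent (B := B) j z hz ha hrk hj f' hf' x
  constructor
  · apply le_antisymm
    · intro x hx
      rw [hm] at hx
      obtain ⟨xa, hxa, hla⟩ := s.exists_mem_weightSpOf ha (s.ln x ∘ₗ (W s.p a).subtype)
      obtain ⟨xb, hxb, hlb⟩ := s.exists_mem_weightSpOf (neg_ne_zero.mpr ha) (s.ln x ∘ₗ (W s.p (-a)).subtype)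
      have ha1 := (s.mem_weightSpOf' _ _).1 hxa
      have hb1 := (s.mem_weightSpOf' _ _).1 hxb
      have key : ∀ (m : M) (y : LieS.LieR G B), s.ln y = (s.ln x ∘ₗ (W s.p m).subtype) ∘ₗ toW s.p m →
          x * y⁻¹ ∈ s.noComp m := by
        intro m y hy f hf
        have h1 : s.ln (x * y⁻¹) + s.ln y = s.ln x := by
          rw [← s.ln_mul, inv_mul_cancel_right]
        have h2 : s.ln y ((I2 R s.A).mkQ f) = s.ln x ((I2 R s.A).mkQ f) := by
          rw [hy]
          change s.ln x (PQ s.p m ((I2 R s.A).mkQ f)) = _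
          rw [PQ_mk, pr_of_mem_same _ hf]
        have h3 := DFunLike.congr_fun h1 ((I2 R s.A).mkQ f)
        rw [LinearMap.add_apply, h2] at h3
        simpa using h3
      have hab : xa * xb = xb * xa := by
        apply s.ln_injective
        rw [s.ln_mul, s.ln_mul, add_comm]
      have h0 : x * (xa * xb)⁻¹ ∈ Subgroup.map (LieS.map B (Spec.map (CommRingCat.ofHom (algebraMap R B))) i) ⊤ := by
        rw [s.mem_map_torus']
        intro n hn
        by_cases hna : n = a
        · subst hna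
          have h1 : x * (xa * xb)⁻¹ = (x * xa⁻¹) * xb⁻¹ := by
            rw [hab, _root_.mul_inv_rev, _root_.mul_assoc]
          rw [h1]
          exact mul_mem (key _ _ hla) (inv_mem (hb1 _ haa))
        · by_cases hnb : n = -a
          · subst hnb
            have h1 : x * (xa * xb)⁻¹ = (x * xb⁻¹) * xa⁻¹ := by
              rw [_root_.mul_inv_rev, _root_.mul_assoc]
            rw [h1]
            exact mul_mem (key _ _ hlb) (inv_mem (ha1 _ (Ne.symm haa)))
          · exact mul_mem (hx n hn hna hnb) (inv_mem (mul_mem (ha1 _ hna) (hb1 _ hnb)))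
      have h1 : x = x * (xa * xb)⁻¹ * xa * xb := by
        rw [_root_.mul_assoc, inv_mul_cancel_right]
      rw [h1]
      exact Subgroup.mul_mem_sup (Subgroup.mul_mem_sup h0 hxa) hxb
    · refine sup_le (sup_le ?_ ?_) ?_
      · intro x hx
        rw [s.mem_map_torus'] at hx
        exact (hm x).2 fun n hn _ _ => hx n hn
      · intro x hx
        rw [s.mem_weightSpOf'] at hx
        exact (hm x).2 fun n _ hn _ => hx n hn
      · intro x hx
        rw [s.mem_weightSpOf'] at hx
        exact (hm x).2 fun n _ _ hn => hx n hn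
  · refine s.iSupIndep_of _ ![0, a, -a] ?_ ?_
    · intro k l hkl
      fin_cases k <;> fin_cases l <;> first | rfl | (exfalso; revert hkl; simp [ha, haa, Ne.symm ha, Ne.symm haa])
    · intro k x hx n hn
      fin_cases k
      · exact (s.mem_map_torus' x).1 hx n hn
      · exact (s.mem_weightSpOf' a x).1 hx n hn
      · exact (s.mem_weightSpOf' (-a) x).1 hx n hn

end Setup

end K929.HopfChart
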