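import Groth.Agent.LieWt.K929.ActGa
import Groth.Agent.Sga3B.RootGr

/-!
# The fixed points of a diagonalizable subgroup of a torus acting on an affine scheme
-/

set_option autoImplicit false
universe u

open CategoryTheory

namespace K929.FixPts

open Groth.Agent.Sga3B Cell RootCoact RootGr K929.LieDict K929.Act

section smooth

variable {R : Type u} [CommRing R] {A : Type u} [CommRing A] [Algebra R A]
variable {M : Type} [AddCommGroup M] (c : Coact R A M) (Ψ : AddSubmonoid M)
variable {C : Type u} [CommRing C] [Algebra R C]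

/-- the ideal generated by the functions of degree not in `Ψ` -/
def JF : Ideal A := Ideal.span {a | ∃ m : M, m ∉ Ψ ∧ a ∈ gr c m}

variable {Ψ} in
lemma vanish_JF_iff (g : A →ₐ[R] C) :
    (∀ a ∈ JF c Ψ, g a = 0) ↔ ∀ m, m ∉ Ψ → ∀ a ∈ gr c m, g a = 0 := by
  constructor
  · intro h m hm a ha
    exact h a (Ideal.subset_span ⟨m, hm, ha⟩)
  · intro h a ha
    have : JF c Ψ ≤ RingHom.ker g := by
      rw [JF, Ideal.span_le]
      rintro x ⟨m, hm, hx⟩
      exact h m hm x hx
    exact this ha

/-- the orbit of a point -/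
noncomputable def orb (g : A →ₐ[R] C) : A →ₐ[R] MonoidAlgebra C (Multiplicative M) :=
  (MonoidAlgebra.mapAlgHom (Multiplicative M) g).comp c.rho

lemma orb_of_mem (g : A →ₐ[R] C) {m : M} {a : A} (ha : a ∈ gr c m) :
    orb c g a = MonoidAlgebra.single (Multiplicative.ofAdd m) (g a) := by
  change MonoidAlgebra.mapAlgHom (Multiplicative M) g (c.rho a) = _
  rw [(mem_gr c).1 ha, MonoidAlgebra.mapAlgHom_single]

variable {Ψ} in
lemma orb_mem (g : A →ₐ[R] C) (hg : ∀ m, m ∉ Ψ → ∀ a ∈ gr c m, g a = 0) (a : A) :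
    orb c g a ∈ SPsi R Ψ C := by
  induction a using induction_gr c with
  | h0 => rw [map_zero]; exact zero_mem _
  | hadd a b ha hb => rw [map_add]; exact add_mem ha hb
  | h m a ha =>
    rw [orb_of_mem c g ha]
    by_cases hm : m ∈ Ψ
    · exact single_mem_SPsi hm _
    · rw [hg m hm a ha, MonoidAlgebra.single_zero]
      exact zero_mem _

/-- lifting of fixed points -/
theorem exists_lift [Algebra.FormallySmooth R A] (N : Ideal C) (hN : N ^ 2 = ⊥)
    (g₀ : A →ₐ[R] C ⧸ N) (hg₀ : ∀ m, m ∉ Ψ → ∀ a ∈ gr c m, g₀ a = 0) :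
    ∃ g : A →ₐ[R] C, (∀ m, m ∉ Ψ → ∀ a ∈ gr c m, g a = 0) ∧ (Ideal.Quotient.mkₐ R N).comp g = g₀ := by
  let φ := mapS R Ψ (Ideal.Quotient.mkₐ R N)
  have hφs : Function.Surjective φ := mapS_surjective _ (Ideal.Quotient.mkₐ_surjective _ _)
  have hφk : IsNilpotent (RingHom.ker (φ : SPsi R Ψ C →+* SPsi R Ψ (C ⧸ N))) := mapS_ker_sq N hN
  let l : A →ₐ[R] SPsi R Ψ (C ⧸ N) := (orb c g₀).codRestrict _ (orb_mem c g₀ hg₀)
  let h : A →ₐ[R] SPsi R Ψ C := Algebra.FormallySmooth.liftOfSurjective l φ hφs hφk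
  have hh : ∀ a, φ (h a) = l a := fun a =>
    Algebra.FormallySmooth.liftOfSurjective_apply l φ hφs hφk a
  have hh' : ∀ a m, Ideal.Quotient.mk N ((h a).1.coeff m) = (orb c g₀ a).coeff m := by
    intro a m
    have h1 := congrArg (fun z => (z : SPsi R Ψ (C ⧸ N)).1.coeff m) (hh a)
    change (MonoidAlgebra.mapAlgHom (Multiplicative M) (Ideal.Quotient.mkₐ R N) (h a).1).coeff m =
      _ at h1
    rw [MonoidAlgebra.coeff_mapAlgHom] at h1
    exact h1
  have hH : ∀ i : M, ∀ a ∈ gr c i, ∀ k : M, k ≠ i →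
      (((SPsi R Ψ C).val.comp h) a).coeff (Multiplicative.ofAdd k) ∈ N := by
    intro i a ha k hk
    rw [← Ideal.Quotient.eq_zero_iff_mem]
    change Ideal.Quotient.mk N ((h a).1.coeff (Multiplicative.ofAdd k)) = 0
    rw [hh', orb_of_mem c g₀ ha, MonoidAlgebra.coeff_single, Finsupp.single_eq_of_ne]
    exact fun h => hk (Multiplicative.ofAdd.injective h)
  obtain ⟨g, hg⟩ := exists_diag c N hN ((SPsi R Ψ C).val.comp h) hH
  refine ⟨g, ?_, ?_⟩
  · intro m hm a ha
    rw [hg m a ha]
    exact (h a).2 m hm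
  · apply AlgHom.ext
    intro a
    induction a using induction_gr c with
    | h0 => simp
    | hadd a b ha hb => rw [map_add, map_add, ha, hb]
    | h m a ha =>
      change Ideal.Quotient.mk N (g a) = _
      rw [hg m a ha]
      change Ideal.Quotient.mk N ((h a).1.coeff (Multiplicative.ofAdd m)) = _
      rw [hh', orb_of_mem c g₀ ha, MonoidAlgebra.coeff_single, Finsupp.single_eq_same]

/-- **The fixed points of a smooth scheme are smooth.** -/
theorem formallySmooth_JF [Algebra.FormallySmooth R A] : Algebra.FormallySmooth R (A ⧸ JF c Ψ) := by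
  apply Algebra.FormallySmooth.of_comp_surjective
  intro C _ _ N hN f
  obtain ⟨g, hg, hgf⟩ := exists_lift c Ψ N hN (f.comp (Ideal.Quotient.mkₐ R (JF c Ψ)))
    ((vanish_JF_iff c _).1 (by
      intro a ha
      change f (Ideal.Quotient.mk (JF c Ψ) a) = 0
      rw [Ideal.Quotient.eq_zero_iff_mem.2 ha, map_zero]))
  refine ⟨Ideal.Quotient.liftₐ (JF c Ψ) g ((vanish_JF_iff c g).2 hg), ?_⟩
  apply AlgHom.ext
  intro b
  obtain ⟨a, rfl⟩ := Ideal.Quotient.mk_surjective b
  exact DFunLike.congr_fun hgf a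

end smooth

section grade

variable {R : Type u} [CommRing R] {A : Type u} [CommRing A] [Algebra R A]
variable {M : Type} [AddCommGroup M] (c : Coact R A M)

lemma pr_mul_of_mem {n : M} {h : A} (hh : h ∈ gr c n) (m : M) (b : A) :
    pr c m (b * h) = pr c (m - n) b * h := by
  classical
  induction b using induction_gr c with
  | h0 => rw [zero_mul, map_zero, map_zero, zero_mul]
  | hadd a b ha hb => rw [add_mul, map_add, ha, hb, map_add, add_mul]
  | h k b hb =>
    rw [pr_of_mem c (mul_mem_gr c hb hh), pr_of_mem c hb]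
    by_cases hk : k = m - n
    · have h1 : k + n = m := by rw [hk, sub_add_cancel]
      rw [if_pos h1, if_pos hk]
    · have h1 : k + n ≠ m := fun h => hk (by rw [← h, add_sub_cancel_right])
      rw [if_neg h1, if_neg hk, zero_mul]

end grade

section aug

variable {K A : Type u} [Field K] [CommRing A] [Algebra K A] [PtGrp K A] {M : Type} [AddCommGroup M]
  {E : TAct K A M} (hE : E.IsAut)

open K929.ActGa K929.Act.TAct

include hE

lemma gr_le_aug {n : M} (hn : n ≠ 0) {f : A} (hf : f ∈ gr E.coact n) : f ∈ aug K A :=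
  hE.one_hom hn hf

lemma pr_mem_aug (m : M) {f : A} (hf : f ∈ aug K A) : pr E.coact m f ∈ aug K A := by
  by_cases hm : m = 0
  · subst hm
    have h1 : cou K A f = cou K A (pr E.coact 0 f) := by
      clear hf
      induction f using induction_gr E.coact with
      | h0 => rw [map_zero, map_zero, map_zero]
      | hadd a b ha hb => rw [map_add, map_add, map_add, ha, hb]
      | h n a ha =>
        by_cases hn : n = 0
        · subst hn
          rw [pr_of_mem_same _ ha]
        · rw [pr_of_mem_ne _ ha hn, map_zero]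
          exact gr_le_aug hE hn ha
    rw [mem_aug, ← h1]
    exact hf
  · exact gr_le_aug hE hm (pr_mem_gr _ _ _)

lemma pr_mem_sq (m : M) {y : A} (hy : y ∈ aug K A ^ 2) : pr E.coact m y ∈ aug K A ^ 2 := by
  rw [sq] at hy ⊢
  induction hy using Submodule.mul_induction_on' with
  | mem_mul_mem u hu v hv =>
    rw [← sum_pr E.coact v, Finset.mul_sum, map_sum]
    refine sum_mem fun n _ => ?_
    rw [pr_mul_of_mem _ (pr_mem_gr _ _ _)]
    exact Ideal.mul_mem_mul (pr_mem_aug hE _ hu) (pr_mem_aug hE _ hv)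
  | add x _ y _ hx hy => rw [map_add]; exact add_mem hx hy

/-- homogeneous functions of degree in `N` which are in `I ^ 2` on the fixed points -/
theorem mem_sq_of_mem_sup {N : AddSubgroup M} {m : M} (hm : m ∈ N) {f : A} (hf : f ∈ gr E.coact m)
    (h : f ∈ aug K A ^ 2 ⊔ JF E.coact N.toAddSubmonoid) : f ∈ aug K A ^ 2 := by
  have key : ∀ y ∈ JF E.coact N.toAddSubmonoid, pr E.coact m y ∈ aug K A ^ 2 := by
    intro y hy
    rw [JF, Ideal.span] at hy
    induction hy using Submodule.closure_induction with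
    | zero => rw [map_zero]; exact zero_mem _
    | add x y _ _ hx hy => rw [map_add]; exact add_mem hx hy
    | smul_mem b x hx =>
      obtain ⟨n, hn, hx⟩ := hx
      change pr E.coact m (b * x) ∈ _
      rw [pr_mul_of_mem _ hx, sq]
      have hn0 : n ≠ 0 := by
        rintro rfl
        exact hn (zero_mem N)
      have hmn : m - n ≠ 0 := by
        intro h0
        apply hn
        rw [← sub_eq_zero.1 h0]
        exact hm
      exact Ideal.mul_mem_mul (gr_le_aug hE hmn (pr_mem_gr _ _ _)) (gr_le_aug hE hn0 hx)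
  obtain ⟨y, hy, z, hz, hyz⟩ := Submodule.mem_sup.1 h
  rw [← pr_of_mem_same _ hf, ← hyz, map_add]
  exact add_mem (pr_mem_sq hE m hy) (key z hz)

end aug

end K929.FixPts
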