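import Groth.Agent.LieWt.K929.FixSub

/-!
# Fixed points of a torus on a normal subgroup, when the centralizer is reductive
-/

set_option autoImplicit false
universe u

open CategoryTheory MonoidalCategory CartesianMonoidalCategory MonObj GrpObj AlgebraicGeometry Limits

namespace K929.FixSub

open Groth.Agent.Sga3B Cell PinMod DSPts GaPts K929.LieDict K929.LieCell K929.LieSplit K929.LieRoot
open K929.Act K929.ActSub K929.ChartUni RootCoact RootGr K929.FixPts K929.ActGa

section inter

variable {S : Scheme.{u}} {G U Z : Over S} [GrpObj G] [GrpObj U] [GrpObj Z] (u : U ⟶ G) (z : Z ⟶ G)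
  [IsMonHom u] [IsMonHom z] [Mono u] [Mono z] [IsClosedImmersion u.left] [IsClosedImmersion z.left]

/-- the intersection of two closed subgroups -/
theorem exists_inter : ∃ (V : Over S) (_ : GrpObj V) (v : V ⟶ U) (w : V ⟶ Z), IsMonHom v ∧ IsMonHom w ∧
    Mono v ∧ Mono w ∧ IsClosedImmersion v.left ∧ IsClosedImmersion w.left ∧ v ≫ u = w ≫ z ∧
      ∀ (X : Over S) (x : X ⟶ U) (y : X ⟶ Z), x ≫ u = y ≫ z → ∃ t : X ⟶ V, t ≫ v = x ∧ t ≫ w = y := by
  let V : Over S := Over.mk (pullback.fst u.left z.left ≫ U.hom)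
  let v : V ⟶ U := Over.homMk (pullback.fst u.left z.left)
  let w : V ⟶ Z := Over.homMk (pullback.snd u.left z.left) (by
    change pullback.snd u.left z.left ≫ Z.hom = pullback.fst u.left z.left ≫ U.hom
    rw [← Over.w u, ← Over.w z, pullback.condition_assoc])
  have hvc : IsClosedImmersion v.left := inferInstanceAs (IsClosedImmersion (pullback.fst u.left z.left))
  have hwc : IsClosedImmersion w.left := inferInstanceAs (IsClosedImmersion (pullback.snd u.left z.left))
  have hv : Mono v := (Over.forget _).mono_of_mono_map (inferInstanceAs (Mono v.left))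
  have hw : Mono w := (Over.forget _).mono_of_mono_map (inferInstanceAs (Mono w.left))
  have hvw : v ≫ u = w ≫ z := by
    ext
    exact pullback.condition
  have hlift : ∀ (X : Over S) (x : X ⟶ U) (y : X ⟶ Z), x ≫ u = y ≫ z →
      ∃ t : X ⟶ V, t ≫ v = x ∧ t ≫ w = y := by
    intro X x y h
    refine ⟨Over.homMk (pullback.lift x.left y.left (by
      rw [← Over.comp_left, ← Over.comp_left, h])) (by
        change pullback.lift _ _ _ ≫ pullback.fst u.left z.left ≫ U.hom = X.hom
        rw [pullback.lift_fst_assoc, Over.w]), ?_, ?_⟩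
    · ext
      exact pullback.lift_fst _ _ _
    · ext
      exact pullback.lift_snd _ _ _
  obtain ⟨inst, hmv⟩ := CentNorm900.exists_grpObj v (fun X x => ∃ y : X ⟶ Z, x ≫ u = y ≫ z)
    (fun X g => by
      constructor
      · rintro ⟨t, rfl⟩
        exact ⟨t ≫ w, by rw [Category.assoc, hvw, Category.assoc]⟩
      · rintro ⟨y, hy⟩
        obtain ⟨t, ht, -⟩ := hlift X g y hy
        exact ⟨t, ht⟩)
    (fun X g h ⟨y, hy⟩ ⟨y', hy'⟩ => ⟨y * y', by rw [MonObj.mul_comp, MonObj.mul_comp, hy, hy']⟩)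
    (fun X => ⟨1, by rw [MonObj.one_comp, MonObj.one_comp]⟩)
    (fun X g ⟨y, hy⟩ => ⟨y⁻¹, by rw [GrpObj.inv_comp, GrpObj.inv_comp, hy]⟩)
  refine ⟨V, inst, v, w, hmv, ?_, hv, hw, hvc, hwc, hvw, hlift⟩
  exact isMonHom_of_mono w z (v ≫ u) hvw.symm

end inter

section aug

variable {k : Type u} [Field k]

/-- in a reduced finitely generated algebra with discrete spectrum ideals of points are idempotent -/
lemma mem_sq_of_discrete {A : Type u} [CommRing A] [Algebra k A] [PtGrp k A] [_root_.IsReduced A]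
    [DiscreteTopology (PrimeSpectrum A)] {f : A} (hf : f ∈ aug k A) : f ∈ aug k A ^ 2 := by
  have hprime : (aug k A).IsPrime := RingHom.ker_isPrime _
  let x : PrimeSpectrum A := ⟨aug k A, hprime⟩
  obtain ⟨-, ⟨h, rfl⟩, hx, hsub⟩ := PrimeSpectrum.isTopologicalBasis_basic_opens.exists_subset_of_mem_open
    (Set.mem_singleton x) (isOpen_discrete {x})
  have hx' : h ∉ aug k A := hx
  have h1 : f * h = 0 := by
    rw [← isNilpotent_iff_eq_zero, nilpotent_iff_mem_prime]
    intro P hP
    by_cases hh : h ∈ P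
    · exact P.mul_mem_left _ hh
    · have h2 : (⟨P, hP⟩ : PrimeSpectrum A) ∈ ({x} : Set (PrimeSpectrum A)) := hsub hh
      have h3 : P = aug k A := congrArg PrimeSpectrum.asIdeal (Set.mem_singleton_iff.1 h2)
      rw [h3]
      exact Ideal.mul_mem_right _ _ hf
  have h2 : cou k A h ≠ 0 := hx'
  have h3 : f = (cou k A h)⁻¹ • (f * (algebraMap k A (cou k A h) - h)) := by
    rw [mul_sub, h1, sub_zero, _root_.mul_comm, ← Algebra.smul_def, smul_smul, inv_mul_cancel₀ h2, one_smul]
  rw [h3, sq]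
  refine Submodule.smul_of_tower_mem _ _ (Ideal.mul_mem_mul hf ?_)
  rw [← neg_mem_iff, neg_sub]
  exact sub_mem_aug h

end aug

section main

variable {k : Type u} [Field k] [IsAlgClosed k]
  {G U Z : Over (Spec (CommRingCat.of k))} [GrpObj G] [GrpObj U] [GrpObj Z]
  (c : Chart G (𝟙 (Spec (CommRingCat.of k)))) (cU : Chart U (𝟙 (Spec (CommRingCat.of k))))
  (u : U ⟶ G) [IsMonHom u] [Mono u] {M : Type} [AddCommGroup M]
  (j : Red.DS (Spec (CommRingCat.of k)) M ⟶ G) [IsMonHom j]
  (hn : ∀ (X : Over (Spec (CommRingCat.of k))) (t : X ⟶ Red.DS (Spec (CommRingCat.of k)) M)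
    (x : X ⟶ U), ∃ x' : X ⟶ U, (t ≫ j) * (x ≫ u) * (t ≫ j)⁻¹ = x' ≫ u)
  (N : AddSubgroup M) (z : Z ⟶ G) 
  (hz : Red.IsCentralizerOf (Red.DSmap (Spec (CommRingCat.of k)) (QuotientAddGroup.mk' N) ≫ j) z)

omit [IsAlgClosed k] in
lemma formallySmooth_A [Smooth U.hom] : Algebra.Smooth k cU.A := by
  have h2 : Smooth (Spec.map (CommRingCat.ofHom (algebraMap k cU.A))) := by
    have h3 : Spec.map (CommRingCat.ofHom (algebraMap k cU.A)) = (uni cU).left ≫ U.hom := by
      rw [Over.w]
      exact (Category.comp_id _).symm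
    rw [h3]
    infer_instance
  have h : RingHom.Smooth (algebraMap k cU.A) := (HasRingHomProperty.Spec_iff (P := @Smooth)).1 h2
  rwa [RingHom.smooth_algebraMap] at h

include hz in
/-- **Fixed points of a subtorus on a normal unipotent subgroup when the centralizer is reductive.** -/
theorem mem_sq_of_isReductiveOver [IsClosedImmersion u.left] [Smooth U.hom] (hnu : AlgGrp.IsNormalHom u)
    (hU : Red.HasNoSubtorus k U) [IsClosedImmersion z.left] (hZ : Red.IsReductiveOver k Z)
    {m : M} (hm : m ∈ N) {f : cU.A} (hf : f ∈ gr (nrm c cU u j hn).tact.coact m)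
    (hfa : f ∈ aug k cU.A) : f ∈ aug k cU.A ^ 2 := by
  have hzh : IsMonHom z := hz.1
  have hzm : Mono z := hz.2.1
  obtain ⟨hZaff, hZsm, hZc, hZr⟩ := hZ
  obtain ⟨V, _, v, w, hv, hw, hvm, hwm, hvc, hwc, hvw, hlift⟩ := exists_inter u z
  have hUaff : IsAffine U.left := isAffine_left cU
  have hVaff : IsAffine V.left := isAffine_of_isAffineHom v.left
  have hVaf : IsAffineHom V.hom := by
    rw [← Over.w v]
    have h1 : IsAffineHom U.hom := isAffineHom_of_isAffine U.hom
    infer_instance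
  obtain ⟨cV⟩ := exists_chart V (𝟙 (Spec (CommRingCat.of k)))
  have hpt : ∀ (B : Type u) [CommRing B] [Algebra k B] (g : Pt k cU.A B),
      (∃ g' : Pt k cV.A B, emb cU cV v B g' = g) ↔
        ∀ a ∈ JF (nrm c cU u j hn).tact.coact N.toAddSubmonoid, g.hom a = 0 := by
    intro B _ _ g
    rw [← fix_iff c cU u j hn N z hz]
    constructor
    · rintro ⟨g', rfl⟩
      refine ⟨cV.pts B g' ≫ w, ?_⟩
      rw [pts_emb, Category.assoc, Category.assoc, hvw]
    · rintro ⟨z', hz'⟩
      obtain ⟨t, ht, -⟩ := hlift _ (cU.pts B g) z' hz'.symm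
      refine ⟨(cV.pts B).symm t, ?_⟩
      apply (cU.pts B).injective
      rw [pts_emb, MulEquiv.apply_symm_apply, ht]
  have hker := ker_com cU cV v hpt
  have hsurj := com_surjective cU cV v
  -- `V` is smooth
  have hAs : Algebra.Smooth k cU.A := formallySmooth_A cU
  have hred : _root_.IsReduced cV.A := by
    have h1 : Algebra.FormallySmooth k (cU.A ⧸ JF (nrm c cU u j hn).tact.coact N.toAddSubmonoid) :=
      formallySmooth_JF _ _
    have h2 : Algebra.FinitePresentation k cU.A := Algebra.Smooth.finitePresentation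
    have h3 : Algebra.FiniteType k (cU.A ⧸ JF (nrm c cU u j hn).tact.coact N.toAddSubmonoid) :=
      inferInstance
    have h4 : Algebra.FinitePresentation k (cU.A ⧸ JF (nrm c cU u j hn).tact.coact N.toAddSubmonoid) :=
      Algebra.FinitePresentation.of_finiteType.1 h3
    have h5 : Algebra.Smooth k (cU.A ⧸ JF (nrm c cU u j hn).tact.coact N.toAddSubmonoid) := ⟨h1, h4⟩
    have h6 := Groth.Agent.Flat2B.SmoothGeom.isReduced_of_smooth_field k
      (cU.A ⧸ JF (nrm c cU u j hn).tact.coact N.toAddSubmonoid)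
    let q : (cU.A ⧸ RingHom.ker (com cU cV v)) ≃ₐ[k] cV.A := Ideal.quotientKerAlgEquivOfSurjective hsurj
    rw [hker] at q
    exact isReduced_of_injective q.symm q.symm.injective
  -- the reduced identity component is trivial
  have hZlft : LocallyOfFiniteType Z.hom := inferInstance
  have hVlft : LocallyOfFiniteType V.hom := by
    rw [← Over.w w]
    infer_instance
  obtain ⟨V₀, _, v₀, hv₀, hvc₀, hVs₀, hVcn₀, hr₀⟩ := RedIdComp.exists_redIdComp V
  have hwn : AlgGrp.IsNormalHom w := by
    intro X g n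
    obtain ⟨n₁, hn₁⟩ := hnu X (g ≫ z) (n ≫ v)
    have h1 : n₁ ≫ u = (g * (n ≫ w) * g⁻¹) ≫ z := by
      rw [← hn₁, MonObj.mul_comp, MonObj.mul_comp, GrpObj.inv_comp, Category.assoc, hvw, Category.assoc]
    obtain ⟨n', -, hn'⟩ := hlift X n₁ _ h1
    exact ⟨n', hn'.symm⟩
  have hwn₀ := RedIdComp.isNormalHom_of_redIdComp w hwn v₀ hr₀
  have hcl₀ : IsClosedImmersion (v₀ ≫ w).left := by
    rw [Over.comp_left]
    infer_instance
  have hvm₀ : Mono v₀ := (Over.forget _).mono_of_mono_map (inferInstanceAs (Mono v₀.left))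
  have htriv : Red.IsTrivialGrp V₀ := hZr V₀ (v₀ ≫ w) hcl₀ hVs₀ hVcn₀ hwn₀ (by
    intro T' _ j' _ _ hT'
    have : Mono (j' ≫ v₀ ≫ v) := inferInstance
    exact hU T' (j' ≫ v₀ ≫ v) hT')
  have hdisc : DiscreteTopology V.left := SsKer.discreteTopology_of_redIdComp v₀ hr₀ htriv
  have hdisc' : DiscreteTopology (PrimeSpectrum cV.A) := by
    have h1 : IsIso (uni cV).left := isIso_uni_left cV
    exact (uni cV).left.homeomorph.isEmbedding.discreteTopology
  -- conclusion
  have hcou : ∀ a, cou k cV.A (com cU cV v a) = cou k cU.A a := by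
    intro a
    have h1 := emb_eq cU cV v (1 : Pt k cV.A k)
    rw [_root_.map_one] at h1
    exact (congrArg (fun w : Pt k cU.A k => w.hom a) h1).symm
  have h1 : com cU cV v f ∈ aug k cV.A ^ 2 := mem_sq_of_discrete (by
    rw [mem_aug, hcou]
    exact hfa)
  have h2 : aug k cV.A = Ideal.map (com cU cV v) (aug k cU.A) := by
    apply le_antisymm
    · intro b hb
      obtain ⟨a, rfl⟩ := hsurj b
      refine Ideal.mem_map_of_mem _ ?_
      rw [mem_aug, ← hcou]
      exact hb
    · rw [Ideal.map_le_iff_le_comap]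
      intro a ha
      change cou k cV.A (com cU cV v a) = 0
      rw [hcou]
      exact ha
  rw [h2, ← Ideal.map_pow, Ideal.mem_map_iff_of_surjective _ hsurj] at h1
  obtain ⟨y, hy, hyf⟩ := h1
  refine mem_sq_of_mem_sup (N := N) (nrm c cU u j hn).isAut hm hf ?_
  have h3 : f - y ∈ JF (nrm c cU u j hn).tact.coact N.toAddSubmonoid := by
    rw [← hker]
    change com cU cV v (f - y) = 0
    rw [_root_.map_sub, hyf, sub_self]
  have h4 : f = y + (f - y) := by ring
  rw [h4]
  exact Submodule.add_mem_sup hy h3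

end main

end K929.FixSub
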