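import Groth.Agent.LieWt.K929.ActGa
import Groth.Agent.LieWt.K929.ActSub
import Groth.Agent.LieWt.K929.LieRoot
import Groth.Agent.Sga3B.RootSplit876
import Groth.Agent.S0348
import Groth.Agent.Flat2B.SmoothGeom

/-!
# Uniqueness of root groups over a field
-/

set_option autoImplicit false
universe u

open CategoryTheory MonoidalCategory CartesianMonoidalCategory MonObj GrpObj AlgebraicGeometry Limits

namespace K929.RootGrpUniq

open Groth.Agent.Sga3B Cell PinMod DSPts GaPts K929.LieDict K929.LieCell K929.LieSplit K929.LieRoot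
open K929.Act K929.ActSub K929.ChartUni RootCoact

section ring

variable {k : Type u} [Field k] {U : Over (Spec (CommRingCat.of k))} [GrpObj U]
  (c : Chart U (𝟙 (Spec (CommRingCat.of k))))

lemma isIntegral_left [Smooth U.hom] [ConnectedSpace ↥U.left] : IsIntegral U.left := by
  have h1 : IrreducibleSpace U.left := Groth.Agent.S0348.result k U
  have h2 : IsReduced U.left := Groth.Agent.Flat2B.SmoothGeom.isReduced_of_smooth U.hom
  exact isIntegral_of_irreducibleSpace_of_isReduced _

lemma isDomain_A [Smooth U.hom] [ConnectedSpace ↥U.left] : IsDomain c.A := by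
  have h1 := isIntegral_left (U := U)
  have h2 : IsIntegral (Spec (CommRingCat.of c.A)) := by
    have : IsIso (uni c).left := isIso_uni_left c
    have hne : Nonempty (Spec (CommRingCat.of c.A)) := by
      obtain ⟨x⟩ : Nonempty U.left := inferInstance
      exact ⟨(CategoryTheory.inv (uni c).left : U.left ⟶ Spec (CommRingCat.of c.A)) x⟩
    exact isIntegral_of_isOpenImmersion (X := Spec (CommRingCat.of c.A)) (uni c).left
  exact (affine_isIntegral_iff (CommRingCat.of c.A)).mp h2

lemma isNoetherianRing_A [LocallyOfFiniteType U.hom] : IsNoetherianRing c.A := by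
  have h0 : IsLocallyNoetherian (Spec (CommRingCat.of k)) := by
    rw [isLocallyNoetherian_Spec]
    infer_instance
  have h1 : IsLocallyNoetherian U.left := LocallyOfFiniteType.isLocallyNoetherian U.hom
  have h2 : IsLocallyNoetherian (Spec (CommRingCat.of c.A)) := by
    have : IsIso (uni c).left := isIso_uni_left c
    exact isLocallyNoetherian_of_isOpenImmersion (X := Spec (CommRingCat.of c.A)) (uni c).left
  rw [isLocallyNoetherian_Spec] at h2
  exact h2

end ring

section main

variable {k : Type u} [Field k] {G : Over (Spec (CommRingCat.of k))} [GrpObj G] (D : Red.SplitRed G)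

lemma smul_root_inj (hred : D.P.IsReduced) (a a' : D.idx) (p q : ℕ) (hp : p ≠ 0) (hq : q ≠ 0)
    (h : (p : ℤ) • D.P.root a = (q : ℤ) • D.P.root a') : a = a' := by
  have hli : ¬ LinearIndependent ℤ ![D.P.root a, D.P.root a'] := by
    rw [LinearIndependent.pair_iff]
    intro H
    have := (H p (-q) (by rw [h, neg_smul, add_neg_cancel])).1
    omega
  rcases hred.eq_or_eq_neg a a' hli with h1 | h1
  · exact D.P.root.injective h1
  · exfalso
    rw [h1, smul_neg, neg_eq_iff_add_eq_zero, ← add_smul] at h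
    rcases smul_eq_zero.mp h with h2 | h2
    · omega
    · exact D.P.ne_zero a' h2

lemma root_torsion (a : D.idx) (n : ℕ) (h : n • D.P.root a = 0) : n = 0 := by
  rw [← natCast_zsmul] at h
  rcases smul_eq_zero.mp h with h2 | h2
  · exact_mod_cast h2
  · exact absurd h2 (D.P.ne_zero a)

variable (hred : D.P.IsReduced) (a : D.idx)
  {U : Over (Spec (CommRingCat.of k))} [GrpObj U] (u : U ⟶ G) [IsMonHom u]

include hred

/-- **A smooth connected subgroup normalized by the torus, whose Lie algebra is the root space, is the root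
group.** -/
theorem exists_iso_Ga (hc : IsClosedImmersion u.left) [Smooth U.hom] [ConnectedSpace ↥U.left]
    (hn : ∀ (X : Over (Spec (CommRingCat.of k))) (t : X ⟶ D.T) (x : X ⟶ U), ∃ x' : X ⟶ U,
      (t ≫ D.i) * (x ≫ u) * (t ≫ D.i)⁻¹ = x' ≫ u)
    (hl : Subgroup.map (LieS.map k _ u) ⊤ = LieWt.weightSpOf D.i (ch D (D.P.root a)) k) :
    ∃ e : U ≅ Red.Ga (Spec (CommRingCat.of k)), e.hom ≫ D.u a = u := by
  have hmono : Mono u := (Over.forget _).mono_of_mono_map (inferInstanceAs (Mono u.left))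
  have hG : IsAffineHom G.hom := D.reductive.1
  have hU : IsAffineHom U.hom := by
    rw [← Over.w u]
    infer_instance
  obtain ⟨c⟩ := exists_chart G (𝟙 (Spec (CommRingCat.of k)))
  obtain ⟨cU⟩ := exists_chart U (𝟙 (Spec (CommRingCat.of k)))
  have hdom := isDomain_A cU
  have hnoe := isNoetherianRing_A cU
  let N := nrm c cU u (Chart.j D) (fun X t x => by
    obtain ⟨x', hx'⟩ := hn X (t ≫ Chart.splitInv D) x
    rw [Category.assoc] at hx'
    exact ⟨x', hx'⟩)
  let E := N.tact
  have hE : E.IsAut := N.isAut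
  have hti : ∀ (B : Type u) [CommRing B] [Algebra k B] (t : TPt D.M B),
      N.ti B t = (c.datum D).i B t := by
    intro B _ _ t
    apply (c.pts B).injective
    rw [c.pts_i]
    exact pts_tiPt c (Chart.j D) t
  have hemb : ∀ (x : LieS.LieR U k), N.emb _ (infR cU k x) = infR c k (LieS.map k _ u x) :=
    fun x => emb_infR c cU u x
  -- the infinitesimal points
  obtain ⟨y₀, hy₀⟩ := exists_infR c (uu_mem (c.datum D) a (1 : k))
  have hy₀' : y₀ ∈ LieWt.weightSpOf D.i (ch D (D.P.root a)) k :=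
    (mem_weightSpOf_root D c a y₀).mpr ⟨1, hy₀⟩
  rw [← hl] at hy₀'
  obtain ⟨z₀, -, hz₀⟩ := hy₀'
  set g₀ := infR cU k z₀ with hg₀d
  have hg₀ : g₀ ∈ infP k cU.A k := infR_mem cU z₀
  have hg₀e : N.emb _ g₀ = (c.datum D).uu a (DualNumber k) (TrivSqZeroExt.inr 1) := by
    rw [hemb, hz₀, hy₀]
  have hne : g₀ ≠ 1 := by
    intro h
    rw [h, _root_.map_one] at hg₀e
    exact one_ne_zero ((uu_inr_eq_one_iff (E := c.datum D) a (1 : k)).mp hg₀e.symm)
  have hwt : E.IsWt (D.P.root a) g₀ := by
    intro C _ _ φ t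
    apply N.emb_inj
    have h1 := isWt_uu (E := c.datum D) a (1 : k) C φ t
    rw [← hg₀e] at h1
    have h2 := N.emb_act (TPt.map (tinl k C) t) (Pt.map (dmap φ) g₀)
    have h3 : N.emb _ (Pt.map (dscale k (TPt.ch (D.P.root a) t)) (Pt.map (dmap φ) g₀)) =
        Pt.map (dscale k (TPt.ch (D.P.root a) t)) (Pt.map (dmap φ) (N.emb _ g₀)) := by
      rw [← N.emb_nat, ← N.emb_nat]
    have h4 : N.ti (DualNumber C) (TPt.map (tinl k C) t) = Pt.map (tinl k C) ((c.datum D).i C t) := by
      rw [← hti, N.ti_nat]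
    refine h2.trans (Eq.trans ?_ h3.symm)
    refine Eq.trans ?_ h1
    rw [h4, ← N.emb_nat]
  have hall : ∀ g ∈ infP k cU.A k, ∃ b : k, g = Pt.map (dscale k b) g₀ := by
    intro g hg
    obtain ⟨x, rfl⟩ := exists_infR cU hg
    have h1 : LieS.map k _ u x ∈ LieWt.weightSpOf D.i (ch D (D.P.root a)) k := by
      rw [← hl]
      exact ⟨x, trivial, rfl⟩
    rw [mem_weightSpOf_root D c] at h1
    obtain ⟨b, hb⟩ := h1
    refine ⟨b, N.emb_inj ?_⟩
    rw [hemb, hb, ← N.emb_nat, hg₀e, (c.datum D).uu_nat, dscale_inr, _root_.mul_one]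
  obtain ⟨x₀, hx₀, hbij⟩ := ActGa.exists_coord hE (root_torsion D a) hg₀ hne hwt hall
  let q := AlgEquiv.ofBijective (Polynomial.aeval x₀ : Polynomial k →ₐ[k] cU.A) hbij
  have hq : ∀ p, q p = Polynomial.aeval x₀ p := fun p => rfl
  have hqx : q.symm x₀ = Polynomial.X := by
    rw [AlgEquiv.symm_apply_eq, hq, Polynomial.aeval_X]
  -- the family of points
  let V : ∀ (B : Type u) [CommRing B] [Algebra k B], B → Pt k cU.A B := fun B _ _ b =>
    Pt.mk ((Polynomial.aeval b : Polynomial k →ₐ[k] B).comp (q.symm : cU.A →ₐ[k] Polynomial k))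
  have hV : ∀ (B : Type u) [CommRing B] [Algebra k B] (b : B), (V B b).hom x₀ = b := by
    intro B _ _ b
    change Polynomial.aeval b (q.symm x₀) = b
    rw [hqx, Polynomial.aeval_X]
  have hVext : ∀ {B : Type u} [CommRing B] [Algebra k B] (g g' : Pt k cU.A B),
      g.hom x₀ = g'.hom x₀ → g = g' := by
    intro B _ _ g g' h
    apply Pt.ext
    intro f
    obtain ⟨p, rfl⟩ := hbij.2 f
    rw [← Polynomial.aeval_algHom_apply, ← Polynomial.aeval_algHom_apply, h]
  have hVs : ∀ {B : Type u} [CommRing B] [Algebra k B] (g : Pt k cU.A B), g = V B (g.hom x₀) :=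
    fun g => hVext _ _ (hV _ _).symm
  have h0 : D.P.root a ≠ 0 := D.P.ne_zero a
  obtain ⟨δ, hδ, hδ0⟩ := PinModelOf.good D c
    ((Finset.univ : Finset (c.datum D).idx).toList) (Finset.nodup_toList _) (by simp)
  obtain ⟨a', r, ha', hr⟩ := RootInj876.exists_eq_uu_of_injective (D := c.datum D) hδ hδ0
    (Finset.nodup_toList _) (by simp) (smul_root_inj D hred) (m := D.P.root a) h0
    (fun B _ _ x => N.emb B (V B x))
    (fun φ x => by
      rw [N.emb_nat]
      congr 1
      apply hVext
      rw [hV, Pt.map_hom_apply, hV])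
    (fun B _ _ => by
      have : V B 0 = 1 := by
        apply hVext
        rw [hV]
        exact (hE.one_hom h0 hx₀).symm
      change N.emb B (V B 0) = 1
      rw [this, _root_.map_one])
    (fun {B} _ _ t x => by
      rw [← hti, ← N.emb_act]
      congr 1
      apply hVext
      rw [hV]
      refine (E.act_of_mem t (V B x) hx₀).trans ?_
      rw [hV, _root_.mul_comm]
      rfl)
    (fun B _ _ x y h => by
      have h1 := N.emb_inj h
      rw [← hV B x, ← hV B y, h1])
  have haa' : a' = a := D.P.root.injective ha'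
  subst haa'
  -- the universal points
  have hmu : Mono (D.u a') := (Over.forget _).mono_of_mono_map
    (inferInstanceAs (Mono (D.u a').left))
  have key1 : ∃ f : U ⟶ Red.Ga _, f ≫ D.u a' = u := by
    refine ⟨CategoryTheory.inv (uni cU) ≫ gaPt (tB (𝟙 _) cU.A) (fnOf (𝟙 _) (algebraMap k cU.A r * x₀)), ?_⟩
    rw [Category.assoc, IsIso.inv_comp_eq]
    have h1 := hr cU.A x₀
    have h2 : V cU.A x₀ = Pt.mk (AlgHom.id k cU.A) := by
      apply hVext
      rw [hV]
      rfl
    rw [h2] at h1
    have h3 := congrArg (c.pts cU.A) h1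
    rw [c.pts_uu] at h3
    rw [← h3]
    exact pts_emb c cU u (Pt.mk (AlgHom.id k cU.A))
  have key2 : ∃ f : Red.Ga _ ⟶ U, f ≫ u = D.u a' := by
    have hGa : IsAffineHom (Red.Ga (Spec (CommRingCat.of k))).hom := by
      rw [← Over.w (D.u a')]
      infer_instance
    obtain ⟨cg⟩ := exists_chart (Red.Ga (Spec (CommRingCat.of k))) (𝟙 (Spec (CommRingCat.of k)))
    obtain ⟨z, hz⟩ := exists_fnOf (𝟙 _) (Red.gaFn (uni cg))
    refine ⟨CategoryTheory.inv (uni cg) ≫ cU.pts cg.A (V cg.A (algebraMap k cg.A ((r⁻¹ : kˣ) : k) * z)), ?_⟩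
    rw [Category.assoc, IsIso.inv_comp_eq]
    have h1 := hr cg.A (algebraMap k cg.A ((r⁻¹ : kˣ) : k) * z)
    rw [← _root_.mul_assoc, ← _root_.map_mul, Units.mul_inv, _root_.map_one, _root_.one_mul] at h1
    have h3 := congrArg (c.pts cg.A) h1
    rw [c.pts_uu, ← hz, gaPt_gaFn] at h3
    rw [← h3]
    exact (pts_emb c cU u _).symm
  obtain ⟨f, hf⟩ := key1
  obtain ⟨f', hf'⟩ := key2
  refine ⟨⟨f, f', ?_, ?_⟩, hf⟩
  · rw [← cancel_mono u, Category.assoc, hf', hf, Category.id_comp]
  · rw [← cancel_mono (D.u a'), Category.assoc, hf, hf', Category.id_comp]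

end main

end K929.RootGrpUniq
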