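import Groth.Agent.LieWt.K929.FixPts
import Groth.Agent.LieWt.K929.RootGrpUniq
import Groth.Agent.LieWt.K929.CentDim
import Groth.Agent.Sga3B.SplitCent889
import Groth.Agent.Sga3B.CentNorm900
import Groth.Agent.Sga3B.SsKer

/-!
# The subgroup of fixed points of a diagonalizable group acting on a subgroup
-/

set_option autoImplicit false
universe u

open CategoryTheory MonoidalCategory CartesianMonoidalCategory MonObj GrpObj AlgebraicGeometry Limits

namespace K929.FixSub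

open Groth.Agent.Sga3B Cell PinMod DSPts GaPts K929.LieDict K929.LieCell K929.LieSplit K929.LieRoot
open K929.Act K929.ActSub K929.ChartUni RootCoact RootGr K929.FixPts

section aff

variable {R : Type u} [CommRing R]

lemma exists_tMap {B C : Type u} [CommRing B] [Algebra R B] [CommRing C] [Algebra R C]
    (v : tB (𝟙 (Spec (CommRingCat.of R))) C ⟶ tB (𝟙 _) B) : ∃ φ : B →ₐ[R] C, v = tMap _ φ := by
  obtain ⟨ψ, hψ⟩ : ∃ ψ : CommRingCat.of B ⟶ CommRingCat.of C, Spec.map ψ = v.left :=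
    Spec.map_surjective v.left
  have h1 : v.left ≫ (Spec.map (CommRingCat.ofHom (algebraMap R B)) ≫ 𝟙 _) =
      Spec.map (CommRingCat.ofHom (algebraMap R C)) ≫ 𝟙 _ := Over.w v
  rw [Category.comp_id, Category.comp_id, ← hψ, ← Spec.map_comp] at h1
  have h2 := Spec.map_injective h1
  refine ⟨⟨ψ.hom, fun r => ?_⟩, ?_⟩
  · exact congrArg (fun z => z.hom r) h2
  · ext
    exact hψ.symm

/-- two morphisms are equal if they agree on the points in `R`-algebras -/
lemma hom_ext_k {X Y : Over (Spec (CommRingCat.of R))} {f g : X ⟶ Y}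
    (h : ∀ (B : Type u) [CommRing B] [Algebra R B] (v : tB (𝟙 (Spec (CommRingCat.of R))) B ⟶ X),
      v ≫ f = v ≫ g) : f = g := by
  apply hom_ext_affines
  intro B _ v
  obtain ⟨ψ, hψ⟩ : ∃ ψ : CommRingCat.of R ⟶ CommRingCat.of B, Spec.map ψ = v ≫ X.hom :=
    Spec.map_surjective _
  let _ : Algebra R B := ψ.hom.toAlgebra
  let w : tB (𝟙 (Spec (CommRingCat.of R))) B ⟶ X := Over.homMk v (by
    change v ≫ X.hom = Spec.map (CommRingCat.ofHom (algebraMap R B)) ≫ 𝟙 _
    rw [Category.comp_id, ← hψ]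
    rfl)
  have h1 := congrArg (fun z => z.left) (h B w)
  ext
  rw [Over.comp_left, Over.comp_left, xPt_left]
  exact h1

end aff

section fix

variable {R : Type u} [CommRing R] {G H Z : Over (Spec (CommRingCat.of R))} [GrpObj G] [GrpObj H]
  (c : Chart G (𝟙 (Spec (CommRingCat.of R)))) (cH : Chart H (𝟙 (Spec (CommRingCat.of R))))
  (u : H ⟶ G) [IsMonHom u] [Mono u] {M : Type} [AddCommGroup M]
  (j : Red.DS (Spec (CommRingCat.of R)) M ⟶ G) [IsMonHom j]
  (hn : ∀ (X : Over (Spec (CommRingCat.of R))) (t : X ⟶ Red.DS (Spec (CommRingCat.of R)) M)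
    (x : X ⟶ H), ∃ x' : X ⟶ H, (t ≫ j) * (x ≫ u) * (t ≫ j)⁻¹ = x' ≫ u)
  (N : AddSubgroup M) [GrpObj Z] (z : Z ⟶ G)
  (hz : Red.IsCentralizerOf (Red.DSmap (Spec (CommRingCat.of R)) (QuotientAddGroup.mk' N) ≫ j) z)

omit [GrpObj G] in
lemma dsEquiv_DSmap {C : Type u} [CommRing C] [Algebra R C] (u : TPt (M ⧸ N) C)
    (j : Red.DS (Spec (CommRingCat.of R)) M ⟶ G) :
    dsEquiv (tB (𝟙 (Spec (CommRingCat.of R))) C) (M ⧸ N) (chΓ (𝟙 _) u) ≫
      Red.DSmap (Spec (CommRingCat.of R)) (QuotientAddGroup.mk' N) ≫ j =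
      dsEquiv (tB (𝟙 _) C) M (chΓ (𝟙 _)
        (MonoidHom.comp u (AddMonoidHom.toMultiplicative (QuotientAddGroup.mk' N)))) ≫ j := by
  have h2 : dsEquiv (tB (𝟙 (Spec (CommRingCat.of R))) C) (M ⧸ N) (chΓ (𝟙 _) u) ≫
      Red.DSmap (Spec (CommRingCat.of R)) (QuotientAddGroup.mk' N) =
      dsEquiv (tB (𝟙 _) C) M (chΓ (𝟙 _)
        (MonoidHom.comp u (AddMonoidHom.toMultiplicative (QuotientAddGroup.mk' N)))) := by
    apply (dsEquiv _ M).symm.injective
    change dsChar _ = dsChar _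
    rw [dsChar_DSmap, dsChar_dsEquiv, dsChar_dsEquiv]
    rfl
  rw [← h2, Category.assoc]

include hz in
/-- **The points centralized by a diagonalizable subgroup.** -/
theorem fix_iff {B : Type u} [CommRing B] [Algebra R B] (g : Pt R cH.A B) :
    (∃ z' : tB (𝟙 (Spec (CommRingCat.of R))) B ⟶ Z, z' ≫ z = cH.pts B g ≫ u) ↔
      ∀ a ∈ JF (nrm c cH u j hn).tact.coact N.toAddSubmonoid, g.hom a = 0 := by
  rw [hz.2.2, vanish_JF_iff]
  let NN := nrm c cH u j hn
  have hti : ∀ (C : Type u) [CommRing C] [Algebra R C] (t : TPt M C),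
      c.pts C (NN.ti C t) = dsEquiv (tB (𝟙 _) C) M (chΓ (𝟙 _) t) ≫ j := fun C _ _ t => pts_tiPt c j t
  have hemb : ∀ (C : Type u) [CommRing C] [Algebra R C] (x : Pt R cH.A C),
      c.pts C (NN.emb C x) = cH.pts C x ≫ u := fun C _ _ x => pts_emb c cH u x
  have hfix : ∀ {C : Type u} [CommRing C] [Algebra R C] (t : TPt M C) (x : Pt R cH.A C),
      (cH.pts C x ≫ u) * (dsEquiv (tB (𝟙 _) C) M (chΓ (𝟙 _) t) ≫ j) =
        (dsEquiv (tB (𝟙 _) C) M (chΓ (𝟙 _) t) ≫ j) * (cH.pts C x ≫ u) ↔ NN.act t x = x := by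
    intro C _ _ t x
    rw [← hti, ← hemb, ← _root_.map_mul, ← _root_.map_mul, (c.pts C).injective.eq_iff,
      ← (NN.emb_inj (B := C)).eq_iff, NN.emb_act, mul_inv_eq_iff_eq_mul]
    exact eq_comm
  constructor
  · intro h m hm f hf
    let C := MA (M ⧸ N) B
    let v : TPt (M ⧸ N) C := uT (M ⧸ N) B
    let v' : TPt M C := MonoidHom.comp v (AddMonoidHom.toMultiplicative (QuotientAddGroup.mk' N))
    let cc : B →ₐ[R] C := cM R (M ⧸ N) B
    have h1 := h (tB (𝟙 (Spec (CommRingCat.of R))) C) (tMap (𝟙 _) cc)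
      (dsEquiv (tB (𝟙 _) C) (M ⧸ N) (chΓ (𝟙 _) v))
    rw [← Category.assoc, cH.pts_nat, dsEquiv_DSmap] at h1
    have h2 := (hfix v' (Pt.map cc g)).1 h1
    have h3 := NN.tact.act_of_mem v' (Pt.map cc g) hf
    have h4 : (NN.tact.act v' (Pt.map cc g)).hom f = (Pt.map cc g).hom f :=
      congrArg (fun w : Pt R cH.A C => w.hom f) h2
    rw [h4, Pt.map_hom_apply] at h3
    have h6 : (TPt.ch m v' : C) = MonoidAlgebra.single (Multiplicative.ofAdd (QuotientAddGroup.mk' N m)) 1 := rfl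
    have h7 : ∀ b : B, cc b = MonoidAlgebra.single 1 b := fun b => cM_apply b
    rw [h6, h7, MonoidAlgebra.single_mul_single, _root_.one_mul, _root_.mul_one] at h3
    have h8 := congrArg (fun w : C => w.coeff (Multiplicative.ofAdd (QuotientAddGroup.mk' N m))) h3
    simp only [MonoidAlgebra.coeff_single, Finsupp.single_eq_same] at h8
    rw [Finsupp.single_eq_of_ne] at h8
    · exact h8.symm
    · intro h9
      apply hm
      change m ∈ N
      rw [← QuotientAddGroup.eq_zero_iff]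
      exact (Multiplicative.ofAdd.injective h9.symm).symm ▸ rfl
  · intro h X' x' t
    apply hom_ext_k
    intro C _ _ v
    obtain ⟨φ, hφ⟩ := exists_tMap (v ≫ x')
    obtain ⟨t', ht'⟩ := exists_chΓ (𝟙 _) (v ≫ t)
    have e1 : v ≫ x' ≫ cH.pts B g ≫ u = cH.pts C (Pt.map φ g) ≫ u := by
      rw [← Category.assoc v x', hφ, ← Category.assoc, cH.pts_nat]
    have e2 : v ≫ t ≫ Red.DSmap (Spec (CommRingCat.of R)) (QuotientAddGroup.mk' N) ≫ j =
        dsEquiv (tB (𝟙 _) C) M (chΓ (𝟙 _)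
        (MonoidHom.comp t' (AddMonoidHom.toMultiplicative (QuotientAddGroup.mk' N)))) ≫ j := by
      rw [← Category.assoc v t, ht', dsEquiv_DSmap]
    rw [MonObj.comp_mul, MonObj.comp_mul, e1, e2]
    refine (hfix _ _).2 ?_
    refine NN.tact.pt_ext fun m f hf => ?_
    have h3 := NN.tact.act_of_mem
      (MonoidHom.comp t' (AddMonoidHom.toMultiplicative (QuotientAddGroup.mk' N))) (Pt.map φ g) hf
    refine h3.trans ?_
    by_cases hm : m ∈ N
    · have h6 : (TPt.ch m (MonoidHom.comp t' (AddMonoidHom.toMultiplicative (QuotientAddGroup.mk' N)) :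
          TPt M C) : C) = 1 := by
        change ((t' (Multiplicative.ofAdd (QuotientAddGroup.mk' N m)) : Cˣ) : C) = 1
        have h7 : QuotientAddGroup.mk' N m = 0 := (QuotientAddGroup.eq_zero_iff _).2 hm
        rw [h7, ofAdd_zero, _root_.map_one, Units.val_one]
      rw [h6, _root_.mul_one]
    · have h8 : (Pt.map φ g).hom f = 0 := by
        rw [Pt.map_hom_apply, h m hm f hf, _root_.map_zero]
      rw [h8, zero_mul]

end fix

section ker

variable {R : Type u} [CommRing R] {U V : Over (Spec (CommRingCat.of R))} [GrpObj U] [GrpObj V]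
  (cU : Chart U (𝟙 (Spec (CommRingCat.of R)))) (cV : Chart V (𝟙 (Spec (CommRingCat.of R))))
  (v : V ⟶ U) [IsMonHom v]

/-- the comorphism of a closed subgroup -/
noncomputable def com : cU.A →ₐ[R] cV.A := (emb cU cV v cV.A (Pt.mk (AlgHom.id R cV.A))).hom

lemma emb_eq {B : Type u} [CommRing B] [Algebra R B] (g : Pt R cV.A B) :
    emb cU cV v B g = Pt.mk (g.hom.comp (com cU cV v)) := by
  have h1 := emb_nat cU cV v g.hom (Pt.mk (AlgHom.id R cV.A))
  have h2 : Pt.map g.hom (Pt.mk (AlgHom.id R cV.A)) = g := Pt.ext fun a => rfl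
  rw [h2] at h1
  rw [← h1]
  rfl

lemma spec_com : Spec.map (CommRingCat.ofHom (com cU cV v : cU.A →+* cV.A)) ≫ (uni cU).left =
    (uni cV).left ≫ v.left := by
  have h1 : cU.pts cV.A (emb cU cV v cV.A (Pt.mk (AlgHom.id R cV.A))) = uni cV ≫ v := pts_emb cU cV v _
  rw [← tMap_uni] at h1
  exact congrArg (fun z => z.left) h1

lemma com_surjective [IsClosedImmersion v.left] : Function.Surjective (com cU cV v) := by
  have h1 : IsClosedImmersion (Spec.map (CommRingCat.ofHom (com cU cV v : cU.A →+* cV.A))) := by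
    have h2 : Spec.map (CommRingCat.ofHom (com cU cV v : cU.A →+* cV.A)) =
        (uni cV).left ≫ v.left ≫ CategoryTheory.inv (uni cU).left := by
      rw [← Category.assoc, ← spec_com, Category.assoc, IsIso.hom_inv_id, Category.comp_id]
    rw [h2]
    infer_instance
  obtain ⟨-, h3⟩ := IsClosedImmersion.isAffine_surjective_of_isAffine
    (Spec.map (CommRingCat.ofHom (com cU cV v : cU.A →+* cV.A)))
  intro b
  obtain ⟨y, hy⟩ := h3 ((Scheme.ΓSpecIso (CommRingCat.of cV.A)).inv b)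
  refine ⟨(Scheme.ΓSpecIso (CommRingCat.of cU.A)).hom y, ?_⟩
  have h4 := congrArg (fun z => z y)
    (Scheme.ΓSpecIso_naturality (CommRingCat.ofHom (com cU cV v : cU.A →+* cV.A)))
  have h5 : (Scheme.ΓSpecIso (CommRingCat.of cV.A)).hom ((Scheme.ΓSpecIso (CommRingCat.of cV.A)).inv b) = b := by
    rw [← CommRingCat.comp_apply, Iso.inv_hom_id]
    rfl
  refine Eq.trans (Eq.symm ?_) h5
  rw [← hy]
  exact h4

/-- the kernel of the comorphism in terms of points -/
lemma ker_com {J : Ideal cU.A}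
    (hJ : ∀ (B : Type u) [CommRing B] [Algebra R B] (g : Pt R cU.A B),
      (∃ g' : Pt R cV.A B, emb cU cV v B g' = g) ↔ ∀ a ∈ J, g.hom a = 0) :
    RingHom.ker (com cU cV v) = J := by
  apply le_antisymm
  · intro a ha
    obtain ⟨g', hg'⟩ := (hJ (cU.A ⧸ J) (Pt.mk (Ideal.Quotient.mkₐ R J))).2 (fun a ha =>
      Ideal.Quotient.eq_zero_iff_mem.2 ha)
    rw [emb_eq] at hg'
    have h1 := congrArg (fun w : Pt R cU.A (cU.A ⧸ J) => w.hom a) hg'
    have h2 : com cU cV v a = 0 := ha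
    change g'.hom (com cU cV v a) = Ideal.Quotient.mk J a at h1
    rw [h2, _root_.map_zero] at h1
    exact Ideal.Quotient.eq_zero_iff_mem.1 h1.symm
  · intro a ha
    exact (hJ cV.A (emb cU cV v cV.A (Pt.mk (AlgHom.id R cV.A)))).1 ⟨_, rfl⟩ a ha

end ker

end K929.FixSub
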