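import Groth.Agent.LieWt.K929.ActSub
import Groth.Agent.RedSub.H368.HopfPts
import Groth.Agent.Sga3B.RootFinal136

/-!
# The chart of an affine group given by a Hopf algebra, and the weights of infinitesimal points
-/

set_option autoImplicit false
universe u

open CategoryTheory MonoidalCategory CartesianMonoidalCategory MonObj GrpObj AlgebraicGeometry Limits

namespace K929.HopfChart

open Groth.Agent.Sga3B Cell PinMod DSPts GaPts K929.LieDict K929.LieSplit K929.Act
open Groth.Agent.Books.AffBridge Groth.Agent.RedSub.H368.HopfPts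
open Groth.Agent.Books.DynBasic (mapPt mapPt_apply mapPt_injective)
open WithConv

section chart

variable {R : Type u} [CommRing R] {G : Over (Spec (CommRingCat.of R))} [GrpObj G]
  {A : Type u} [CommRing A] [HopfAlgebra R A] (e : G ≅ SpecOver R A) [IsMonHom e.hom]

/-- `Spec B` as an `R`-scheme, in two ways -/
noncomputable def castS (R : Type u) [CommRing R] (B : Type u) [CommRing B] [Algebra R B] :
    tB (𝟙 (Spec (CommRingCat.of R))) B ≅ SpecOver R B :=
  Over.isoMk (Iso.refl (Spec (CommRingCat.of B))) (by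
    change 𝟙 _ ≫ Spec.map _ = Spec.map _ ≫ 𝟙 _
    rw [Category.comp_id, Category.id_comp])

lemma castS_nat {B C : Type u} [CommRing B] [Algebra R B] [CommRing C] [Algebra R C] (φ : B →ₐ[R] C) :
    tMap (𝟙 (Spec (CommRingCat.of R))) φ ≫ (castS R B).hom = (castS R C).hom ≫ specMap R φ := by
  ext
  change Spec.map _ ≫ 𝟙 _ = 𝟙 _ ≫ Spec.map _
  rw [Category.comp_id, Category.id_comp]
  rfl

lemma isMonHom_inv : IsMonHom e.inv where
  one_hom := by
    have h : MonObj.one = MonObj.one ≫ e.hom := (IsMonHom.one_hom (f := e.hom)).symm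
    rw [h, Category.assoc, Iso.hom_inv_id, Category.comp_id]
  mul_hom := by
    rw [← cancel_mono e.hom, Category.assoc, Iso.inv_hom_id, Category.comp_id, Category.assoc,
      IsMonHom.mul_hom, ← Category.assoc, MonoidalCategory.tensorHom_comp_tensorHom, Iso.inv_hom_id]
    simp

/-- the points of `G` in terms of the Hopf algebra -/
noncomputable def ptsH (B : Type u) [CommRing B] [Algebra R B] :
    letI := ptGrpOfHopf R A
    Pt R A B ≃* (tB (𝟙 (Spec (CommRingCat.of R))) B ⟶ G) :=
  letI := ptGrpOfHopf R A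
  { toFun := fun g => (castS R B).hom ≫ specMap R g.hom ≫ e.inv
    invFun := fun x => Pt.mk (specPreimage R ((castS R B).inv ≫ x ≫ e.hom))
    left_inv := fun g => by
      change specPreimage R _ = _
      simp only [Category.assoc, Iso.inv_hom_id, Category.comp_id, Iso.inv_hom_id_assoc]
      exact specPreimage_specMap R g.hom
    right_inv := fun x => by
      change (castS R B).hom ≫ specMap R (specPreimage R _) ≫ e.inv = x
      rw [specMap_specPreimage]
      simp
    map_mul' := fun f g => by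
      have := isMonHom_inv e
      have h1 : specMap R (f * g).hom = specMap R f.hom * specMap R g.hom :=
        specMap_mul R (toConv f.hom) (toConv g.hom)
      rw [h1, MonObj.mul_comp, MonObj.comp_mul] }

/-- The chart of an affine group given by a Hopf algebra. -/
noncomputable def chart : Chart G (𝟙 (Spec (CommRingCat.of R))) :=
  letI := ptGrpOfHopf R A
  { A := A
    ring := inferInstance
    alg := inferInstance
    grp := ptGrpOfHopf R A
    pts := fun B _ _ => ptsH e B
    pts_nat := fun {B C} _ _ _ _ φ g => by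
      change tMap _ φ ≫ (castS R B).hom ≫ specMap R g.hom ≫ e.inv =
        (castS R C).hom ≫ specMap R (φ.comp g.hom) ≫ e.inv
      rw [← Category.assoc, castS_nat, specMap_comp, Category.assoc, Category.assoc]
    p := e.inv.left
    pts_left := fun B _ _ g => by
      change 𝟙 _ ≫ Spec.map _ ≫ e.inv.left = _
      rw [Category.id_comp]
      rfl
    isPullback := by
      have h1 : e.inv.left ≫ G.hom = Spec.map (CommRingCat.ofHom (algebraMap R A)) := Over.w e.inv
      have h2 : @IsIso Scheme _ (Spec (CommRingCat.of A)) G.left e.inv.left :=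
        ⟨e.hom.left, congrArg (fun z => z.left) e.inv_hom_id, congrArg (fun z => z.left) e.hom_inv_id⟩
      exact @IsPullback.of_horiz_isIso _ _ _ _ _ _ _ _ _ _ h2 inferInstance
        ⟨h1.trans (Category.comp_id _).symm⟩ }

lemma chart_pts {B : Type u} [CommRing B] [Algebra R B] (g : Pt R (chart e).A B) :
    (chart e).pts B g = (castS R B).hom ≫ specMap R (A := A) g.hom ≫ e.inv := rfl

/-- the points of the chart as elements of the convolution group -/
noncomputable def cv (B : Type u) [CommRing B] [Algebra R B] :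
    Pt R (chart e).A B ≃* WithConv (A →ₐ[R] B) :=
  letI := ptGrpOfHopf R A
  ptConv (compat_ptGrpOfHopf R A) B

lemma cv_ofConv {B : Type u} [CommRing B] [Algebra R B] (g : Pt R (chart e).A B) :
    (cv e B g).ofConv = g.hom := rfl

lemma cv_map {B C : Type u} [CommRing B] [Algebra R B] [CommRing C] [Algebra R C] (φ : B →ₐ[R] C)
    (g : Pt R (chart e).A B) : cv e C (Pt.map φ g) = mapPt φ (cv e B g) := rfl

end chart

section act

open Groth.Agent.Sga3B.RootCoact Groth.Agent.Sga3B.RootOrb Groth.Agent.Sga3B.RootGr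
open Groth.Agent.Sga3B.RootGa

variable {R : Type u} [CommRing R] {G : Over (Spec (CommRingCat.of R))} [GrpObj G]
  {A : Type u} [CommRing A] [HopfAlgebra R A] (e : G ≅ SpecOver R A) [IsMonHom e.hom]
  {M : Type} [AddCommGroup M] (p : A →ₐc[R] MonoidAlgebra R (Multiplicative M))

/-- the conjugation action of the torus -/
noncomputable def tact : TAct R (chart e).A M where
  act {B} _ _ t g := (cv e B).symm (orb p p t (cv e B g))
  nat {B C} _ _ _ _ φ t g := by
    apply (cv e C).injective
    rw [cv_map, MulEquiv.apply_symm_apply, MulEquiv.apply_symm_apply, mapPt_orb, cv_map]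
    rfl
  one {B} _ _ g := by
    apply (cv e B).injective
    rw [MulEquiv.apply_symm_apply, orb_one]
  mulP {B} _ _ s t g := by
    apply (cv e B).injective
    rw [MulEquiv.apply_symm_apply, MulEquiv.apply_symm_apply]
    exact orb_mul p p s t _

lemma cv_act {B : Type u} [CommRing B] [Algebra R B] (t : TPt M B) (g : Pt R (chart e).A B) :
    cv e B ((tact e p).act t g) = orb p p t (cv e B g) := MulEquiv.apply_symm_apply _ _

lemma isAut : (tact e p).IsAut := by
  intro B _ _ t g h
  apply (cv e B).injective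
  rw [_root_.map_mul, cv_act, cv_act, cv_act, _root_.map_mul, orb_conj_mul]

lemma rho_tact : (tact e p).rho = RootOrb.rho p p := rfl

lemma mem_gr_tact (m : M) (f : A) :
    (show (chart e).A from f) ∈ gr (tact e p).coact m ↔ f ∈ gr (conjCoact p) m := Iff.rfl

end act

section dict

open Groth.Agent.Sga3B.RootCoact Groth.Agent.Sga3B.RootOrb Groth.Agent.Sga3B.RootGr
open Groth.Agent.Sga3B.RootGa Groth.Agent.Sga3B.AffPts Groth.Agent.Sga3B.DSAff

variable {R : Type u} [CommRing R] {G : Over (Spec (CommRingCat.of R))} [GrpObj G]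
  {A : Type u} [CommRing A] [HopfAlgebra R A] (e : G ≅ SpecOver R A) [IsMonHom e.hom]
  {M : Type} [AddCommGroup M] (p : A →ₐc[R] MonoidAlgebra R (Multiplicative M))
  {T : Over (Spec (CommRingCat.of R))} [GrpObj T] (i : T ⟶ G)
  (sp : Grp.mk T ≅ Grp.mk (Red.DS (Spec (CommRingCat.of R)) M))
  {B C : Type u} [CommRing B] [Algebra R B] [CommRing C] [Algebra R C]

/-- functions on `Spec B` -/
noncomputable def fnB (R : Type u) [CommRing R] (B : Type u) [CommRing B] [Algebra R B] :
    B →ₐ[R] Fn (tB (𝟙 (Spec (CommRingCat.of R))) B) :=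
  (fnMap (castS R B).hom).comp (fnSpec (R := R) B).symm.toAlgHom

lemma castS_specMap (h : A →ₐ[R] B) :
    (castS R B).hom ≫ specMap R h = affPt (tB (𝟙 _) B) ((fnB R B).comp h) := by
  have h1 : specMap R h = affPt (SpecOver R B) ((fnSpec (R := R) B).symm.toAlgHom.comp h) := by
    rw [affPt_spec]
    congr 1
    apply AlgHom.ext
    intro a
    simp
  rw [h1, comp_affPt]
  rfl

lemma fnB_apply (b : B) : fnB R B b = fnOf (𝟙 (Spec (CommRingCat.of R))) b := by
  change Scheme.Hom.appTop (𝟙 (Spec (CommRingCat.of B))) ((Scheme.ΓSpecIso (CommRingCat.of B)).inv b) = _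
  rw [Scheme.Hom.id_appTop]
  rfl

/-- torus points of the group in the chart -/
lemma pts_torPt
    (hp : ∀ (X : Over (Spec (CommRingCat.of R))) (t : X ⟶ T),
        t ≫ i ≫ e.hom = affPt X ((chAlg (fnChar (t ≫ sp.hom.hom.hom))).comp (p : A →ₐ[R] _)))
    (t : TPt M C) : (chart e).pts C ((cv e C).symm (torPt p t)) =
      dsEquiv (tB (𝟙 _) C) M (chΓ (𝟙 _) t) ≫ sp.inv.hom.hom ≫ i := by
  have h2 : sp.inv.hom.hom ≫ sp.hom.hom.hom = 𝟙 _ := congrArg (fun f => f.hom.hom) sp.inv_hom_id
  rw [← cancel_mono e.hom]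
  have h3 := hp (tB (𝟙 _) C) (dsEquiv (tB (𝟙 _) C) M (chΓ (𝟙 _) t) ≫ sp.inv.hom.hom)
  have h4 : (dsEquiv (tB (𝟙 _) C) M (chΓ (𝟙 _) t) ≫ sp.inv.hom.hom) ≫ sp.hom.hom.hom =
      dsEquiv (tB (𝟙 _) C) M (chΓ (𝟙 _) t) :=
    (Category.assoc _ _ _).trans ((congrArg (fun z => _ ≫ z) h2).trans (Category.comp_id _))
  rw [h4] at h3
  simp only [Category.assoc] at h3 ⊢
  rw [h3]
  have h5 : (chart e).pts C ((cv e C).symm (torPt p t)) =
      (castS R C).hom ≫ specMap R (torPt p t).ofConv ≫ e.inv := rfl
  rw [h5]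
  simp only [Category.assoc, Iso.inv_hom_id, Category.comp_id]
  rw [castS_specMap]
  congr 1
  apply AlgHom.ext
  intro a
  rw [AlgHom.comp_apply, torPt_apply, AlgHom.comp_apply]
  change fnB R C (evT R t (p a)) = chAlg _ (p a)
  generalize p a = f
  induction f using MonoidAlgebra.induction_linear with
  | zero => simp
  | add x y hx hy => rw [map_add, map_add, map_add, hx, hy]
  | single m b =>
    rw [evT_single, MonoidAlgebra.lift_single, map_smul, fnB_apply]
    congr 1
    exact (DFunLike.congr_fun (dsChar_dsEquiv (chΓ (𝟙 (Spec (CommRingCat.of R))) t)) m).symm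

lemma sp_hom_inv : sp.hom.hom.hom ≫ sp.inv.hom.hom = 𝟙 _ := congrArg (fun f => f.hom.hom) sp.hom_inv_id
lemma sp_inv_hom : sp.inv.hom.hom ≫ sp.hom.hom.hom = 𝟙 _ := congrArg (fun f => f.hom.hom) sp.inv_hom_id

/-- the point of the torus with given coordinates -/
noncomputable def tP (t : TPt M C) : VecGrp.pt R C ⟶ T :=
  (castP (str_eq R C)).inv ≫ dsEquiv (tB (𝟙 _) C) M (chΓ (𝟙 _) t) ≫ sp.inv.hom.hom

lemma exists_tP (t : VecGrp.pt R C ⟶ T) : ∃ t' : TPt M C, t = tP sp t' := by
  obtain ⟨t', ht'⟩ := exists_chΓ (𝟙 _) ((castP (str_eq R C)).hom ≫ t ≫ sp.hom.hom.hom)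
  refine ⟨t', ?_⟩
  have h1 : ((castP (str_eq R C)).hom ≫ t ≫ sp.hom.hom.hom) ≫ sp.inv.hom.hom =
      (castP (str_eq R C)).hom ≫ t := by
    have h := sp_hom_inv sp
    exact (Category.assoc _ _ _).trans (congrArg (fun z => (castP (str_eq R C)).hom ≫ z)
      ((Category.assoc _ _ _).trans ((congrArg (fun z => t ≫ z) h).trans (Category.comp_id _))))
  rw [tP, ← ht']
  exact ((congrArg (fun z => (castP (str_eq R C)).inv ≫ z) h1).trans
    (Iso.inv_hom_id_assoc _ _)).symm

/-- the value of a character -/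
lemma chiVal_tP (m : M) (t : TPt M C) :
    VecGrp.chiVal (sp.hom.hom.hom ≫ Red.chi (Spec (CommRingCat.of R)) m) (tP sp t) = TPt.ch m t := by
  unfold VecGrp.chiVal
  have h1 : tP sp t ≫ sp.hom.hom.hom ≫ Red.chi (Spec (CommRingCat.of R)) m =
      (castP (str_eq R C)).inv ≫ dsEquiv (tB (𝟙 _) C) M (chΓ (𝟙 _) t) ≫ Red.chi _ m := by
    have h : sp.inv.hom.hom ≫ sp.hom.hom.hom ≫ Red.chi (Spec (CommRingCat.of R)) m =
        Red.chi (Spec (CommRingCat.of R)) m :=
      (Category.assoc _ _ _).symm.trans ((congrArg (fun z => z ≫ _) (sp_inv_hom sp)).trans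
        (Category.id_comp _))
    rw [tP]
    exact (Category.assoc _ _ _).trans (congrArg (fun z => (castP (str_eq R C)).inv ≫ z)
      ((Category.assoc _ _ _).trans (congrArg (fun z => _ ≫ z) h)))
  rw [h1, Groth.Agent.Sga3.H811.Pts.gmFn_comp, gmFn_chi, dsChar_dsEquiv, chΓ_apply]
  have h2 : (castP (str_eq R C)).inv.left = 𝟙 _ := rfl
  rw [h2, Scheme.Hom.id_appTop]
  change ((Scheme.ΓSpecIso (CommRingCat.of C)).inv ≫ (Scheme.ΓSpecIso (CommRingCat.of C)).hom) _ = _
  rw [Iso.inv_hom_id]
  rfl

/-- **Weight spaces in a chart.** -/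
theorem mem_weightSpOf_iff
    (hp : ∀ (X : Over (Spec (CommRingCat.of R))) (t : X ⟶ T),
        t ≫ i ≫ e.hom = affPt X ((chAlg (fnChar (t ≫ sp.hom.hom.hom))).comp (p : A →ₐ[R] _)))
    (m : M) (x : LieS.LieR G B) :
    x ∈ LieWt.weightSpOf i (sp.hom.hom.hom ≫ Red.chi (Spec (CommRingCat.of R)) m) B ↔
      (tact e p).IsWt m (infR (chart e) B x) := by
  have key : ∀ (C : Type u) [CommRing C] [Algebra R C] (φ : B →ₐ[R] C) (t : TPt M C),
      (LieS.Ad G C _ ((VecGrp.ptIso φ).hom ≫ tP sp t ≫ i) (LieS.pull G _ φ.toRingHom x) =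
        TPt.ch m t • LieS.pull G _ φ.toRingHom x ↔
      (tact e p).act (TPt.map (tinl R C) t) (Pt.map (dmap φ) (infR (chart e) B x)) =
        Pt.map (dscale R (TPt.ch m t)) (Pt.map (dmap φ) (infR (chart e) B x))) := by
    intro C _ _ φ t
    rw [weight_cond (chart e) i x φ (tP sp t) (TPt.ch m t) ((cv e C).symm (torPt p t))]
    · have h1 : (tact e p).act (TPt.map (tinl R C) t) (Pt.map (dmap φ) (infR (chart e) B x)) =
          Pt.map (tinl R C) ((cv e C).symm (torPt p t)) * Pt.map (dmap φ) (infR (chart e) B x) *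
            (Pt.map (tinl R C) ((cv e C).symm (torPt p t)))⁻¹ := by
        have h0 : cv e (DualNumber C) (Pt.map (tinl R C) ((cv e C).symm (torPt p t))) =
            torPt p (TPt.map (tinl R C) t) := by
          have h0' := congrArg (mapPt (tinl R C)) ((cv e C).apply_symm_apply (torPt p t))
          rw [mapPt_torPt] at h0'
          exact h0'
        have h2 : ∀ a b : Pt R (chart e).A (DualNumber C), cv e (DualNumber C) (a * b * a⁻¹) =
            cv e (DualNumber C) a * cv e (DualNumber C) b * (cv e (DualNumber C) a)⁻¹ := by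
          intro a b
          rw [_root_.map_mul, _root_.map_mul, _root_.map_inv]
        apply (cv e (DualNumber C)).injective
        exact ((cv_act e p _ _).trans rfl).trans ((h2 _ _).trans (by rw [h0]; rfl)).symm
      rw [h1]
    · rw [pts_torPt e p i sp hp, tP]
      simp only [Category.assoc, Iso.hom_inv_id_assoc]
  unfold LieWt.weightSpOf
  rw [LieWt.mem_weightSp_iff]
  constructor
  · intro h C _ _ φ t
    have h1 := h C φ (tP sp t)
    rw [chiVal_tP] at h1
    exact (key C φ t).mp h1
  · intro h C _ _ φ t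
    obtain ⟨t', rfl⟩ := exists_tP sp t
    rw [chiVal_tP]
    exact (key C φ t').mpr (h C φ t')

end dict

end K929.HopfChart
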