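import Groth.Agent.LieWt.K929.LieDict
import Groth.Agent.Sga3B.CellN

/-!
# Infinitesimal points of a group with a good datum, and the weights of the torus on them
-/

set_option autoImplicit false
universe u

namespace K929.LieCell

open Groth.Agent.Sga3B Cell K929.LieDict

section tdiv

variable {M : Type} [AddCommGroup M] {C C' : Type u} [CommRing C] [CommRing C']

/-- quotient of torus points -/
noncomputable def tdiv (t t' : TPt M C) : TPt M C := t * t'⁻¹

lemma tdiv_eq_one {t t' : TPt M C} (h : tdiv t t' = 1) : t = t' := mul_inv_eq_one.mp h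

lemma tdiv_self (t : TPt M C) : tdiv t t = 1 := mul_inv_cancel t

variable {R A : Type u} [CommRing R] [CommRing A] [Algebra R A] [PtGrp R A] (E : Datum R A)

lemma map_tdiv [Algebra R C] [Algebra R C'] (φ : C →ₐ[R] C') (t t' : TPt M C) :
    TPt.map φ (tdiv t t') = tdiv (TPt.map φ t) (TPt.map φ t') :=
  (_root_.map_mul (TPt.map φ) t t'⁻¹).trans
    (congrArg (fun z => TPt.map φ t * z) (_root_.map_inv (TPt.map φ) t'))

lemma i_tdiv_mul [Algebra R C] (t t' : TPt E.M C) : E.i C (tdiv t t') * E.i C t' = E.i C t := by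
  rw [← _root_.map_mul]
  exact congrArg (E.i C) (inv_mul_cancel_right t t')

lemma i_comm [Algebra R C] (t t' : TPt E.M C) : E.i C t * E.i C t' = E.i C t' * E.i C t := by
  rw [← _root_.map_mul, ← _root_.map_mul]
  exact congrArg (E.i C) (mul_comm t t')

end tdiv

section gen

variable {R A : Type u} [CommRing R] [CommRing A] [Algebra R A] [PtGrp R A] (E : Datum R A)
variable {B C : Type u} [CommRing B] [Algebra R B] [CommRing C] [Algebra R C]

lemma isNilpotent_ker_tfst : IsNilpotent (RingHom.ker (tfst R B : DualNumber B →+* B)) := by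
  refine ⟨2, ?_⟩
  have h1 : RingHom.ker (tfst R B : DualNumber B →+* B) ≤ Ideal.span {DualNumber.eps} := by
    intro x hx
    have hx1 : x.fst = 0 := hx
    rw [Ideal.mem_span_singleton]
    refine ⟨TrivSqZeroExt.inl x.snd, ?_⟩
    apply TrivSqZeroExt.ext
    · simp [hx1]
    · simp
  rw [Ideal.zero_eq_bot, eq_bot_iff]
  refine (Ideal.pow_right_mono h1 2).trans ?_
  rw [Ideal.span_singleton_pow, Ideal.span_le, Set.singleton_subset_iff]
  have : (DualNumber.eps : DualNumber B) ^ 2 = 0 := by rw [sq, DualNumber.eps_mul_eps]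
  rw [this]
  exact Ideal.zero_mem _

lemma tfst_surjective : Function.Surjective (tfst R B) := fun b => ⟨TrivSqZeroExt.inl b, rfl⟩

omit [Algebra R B] in
lemma eq_inr_of_fst {x : DualNumber B} (h : x.fst = 0) : x = TrivSqZeroExt.inr x.snd :=
  TrivSqZeroExt.ext h rfl

lemma sum_map_sub {J : Type*} {B : Type*} [CommRing B] (L : List J) (F F' : J → B) :
    (L.map (fun a => F a - F' a)).sum = (L.map F).sum - (L.map F').sum := by
  induction L with
  | nil => simp
  | cons a L ih =>
    simp only [List.map_cons, List.sum_cons, ih]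
    ring

lemma prod_single {G J : Type*} [Group G] {L : List J} (hL : L.Nodup) {a : J} (ha : a ∈ L) (F : J → G)
    (h : ∀ b ∈ L, b ≠ a → F b = 1) : (L.map F).prod = F a := by
  induction L with
  | nil => simp at ha
  | cons b L ih =>
    rw [List.nodup_cons] at hL
    rw [List.map_cons, List.prod_cons]
    by_cases hab : b = a
    · subst hab
      have h1 : (L.map F).prod = 1 := by
        apply List.prod_eq_one
        intro y hy
        obtain ⟨d, hd, rfl⟩ := List.mem_map.mp hy
        exact h d (List.mem_cons_of_mem _ hd) (fun e => hL.1 (e ▸ hd))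
      rw [h1, mul_one]
    · have ha' : a ∈ L := by
        rcases List.mem_cons.mp ha with h' | h'
        · exact absurd h'.symm hab
        · exact h'
      rw [h b (by simp) hab, one_mul, ih hL.2 ha' fun d hd => h d (List.mem_cons_of_mem _ hd)]

/-- the infinitesimal points of the torus -/
def TInf (M : Type) [AddCommGroup M] (R : Type u) [CommRing R] {B : Type u} [CommRing B] [Algebra R B]
    (t : TPt M (DualNumber B)) : Prop := TPt.map (tfst R B) t = 1

lemma ch_fst {M : Type} [AddCommGroup M] {t : TPt M (DualNumber B)} (ht : TInf M R t) (m : M) :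
    (TPt.ch m t).fst = 1 := by
  have := congrArg (TPt.ch m) (show TPt.map (tfst R B) t = 1 from ht)
  rw [TPt.ch_map, TPt.ch_one] at this
  exact this

lemma cell_mem {L : List E.idx} {x : E.idx → DualNumber B} {t : TPt E.M (DualNumber B)}
    (hx : ∀ a, (x a).fst = 0) (ht : TInf E.M R t) : E.cell L x t ∈ infP R A B := by
  rw [mem_infP, E.cell_nat]
  have h1 : (fun a => tfst R B (x a)) = fun _ => (0 : B) := by
    funext a
    exact hx a
  rw [h1, show TPt.map (tfst R B) t = 1 from ht, Datum.cell_zero, _root_.map_one]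

lemma uu_mem (a : E.idx) (ξ : B) : E.uu a (DualNumber B) (TrivSqZeroExt.inr ξ) ∈ infP R A B := by
  rw [mem_infP, E.uu_nat]
  have : tfst R B (TrivSqZeroExt.inr ξ) = 0 := rfl
  rw [this, Datum.uu_zero]

lemma i_mem {t : TPt E.M (DualNumber B)} (ht : TInf E.M R t) : E.i (DualNumber B) t ∈ infP R A B := by
  rw [mem_infP, E.i_nat, show TPt.map (tfst R B) t = 1 from ht, _root_.map_one]

/-- Every infinitesimal point is in the cell, with infinitesimal coordinates. -/
theorem exists_cell (hG : E.Good) {L : List E.idx} (hL : L.Nodup) (hL' : ∀ a, a ∈ L)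
    {g : Pt R A (DualNumber B)} (hg : g ∈ infP R A B) :
    ∃ (ξ : E.idx → B) (t : TPt E.M (DualNumber B)), TInf E.M R t ∧
      g = E.cell L (fun a => TrivSqZeroExt.inr (ξ a)) t := by
  obtain ⟨δ, hδ, hδ0⟩ := hG L hL hL'
  have h0 : E.cell L (fun _ => (0 : B)) 1 = Pt.map (tfst R B) g := by
    rw [Datum.cell_zero, _root_.map_one]
    exact hg.symm
  have hu : IsUnit (E.ev (fun _ => (0 : B)) 1 δ) := by
    have h1 := E.comp_ev (Algebra.ofId R B) (fun _ => (0 : R)) 1
    simp only [_root_.map_zero, _root_.map_one] at h1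
    rw [← h1]
    change IsUnit (Algebra.ofId R B (E.ev0 δ))
    rw [hδ0, _root_.map_one]
    exact isUnit_one
  obtain ⟨x, t, hx, ht, hg'⟩ := hδ.exists_lift E (tfst_surjective (R := R) (B := B)) isNilpotent_ker_tfst hu h0
  refine ⟨fun a => (x a).snd, t, ht, ?_⟩
  rw [← hg']
  congr 1
  funext a
  exact eq_inr_of_fst (hx a)

/-- The infinitesimal coordinates are unique. -/
theorem cell_unique {L : List E.idx} (hL : L.Nodup) (hL' : ∀ a, a ∈ L)
    {ξ ξ' : E.idx → B} {t t' : TPt E.M (DualNumber B)} (ht : TInf E.M R t) (ht' : TInf E.M R t')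
    (h : E.cell L (fun a => TrivSqZeroExt.inr (ξ a)) t = E.cell L (fun a => TrivSqZeroExt.inr (ξ' a)) t') :
    ξ = ξ' ∧ t = t' := by
  have hm : ∀ (ζ : E.idx → B) (L : List E.idx), ∀ g ∈ L.map (fun a => E.uu a (DualNumber B)
      (TrivSqZeroExt.inr (ζ a))), Pt.map (tfst R B) g = 1 := by
    intro ζ L g hg
    obtain ⟨a, -, rfl⟩ := List.mem_map.mp hg
    exact uu_mem E a _
  have key : E.cell L (fun a => TrivSqZeroExt.inr ((ξ - ξ') a)) (tdiv t t') = 1 := by
    have htt : TInf E.M R (tdiv t t') := by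
      change TPt.map (tfst R B) (tdiv t t') = 1
      rw [map_tdiv, show TPt.map (tfst R B) t = 1 from ht,
        show TPt.map (tfst R B) t' = 1 from ht', tdiv_self]
    have hc : ∀ (ζ : E.idx → B) {s : TPt E.M (DualNumber B)}, TInf E.M R s →
        E.cell L (fun a => TrivSqZeroExt.inr (ζ a)) s ∈ infP R A B := fun ζ s hs =>
      cell_mem E (fun a => TrivSqZeroExt.fst_inr _ _) hs
    apply infP_ext (hc _ htt) (one_mem _)
    intro f
    have h1 : ∀ (ζ : E.idx → B) {s : TPt E.M (DualNumber B)}, TInf E.M R s →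
        ((E.cell L (fun a => TrivSqZeroExt.inr (ζ a)) s).hom f).snd =
          (L.map (fun a => ((E.uu a (DualNumber B) (TrivSqZeroExt.inr (ζ a))).hom f).snd)).sum +
            ((E.i _ s).hom f).snd := by
      intro ζ s hs
      unfold Datum.cell
      rw [snd_mul (map_tfst_list_prod (hm ζ L)) (i_mem E hs), snd_list_prod (hm ζ L), List.map_map]
      rfl
    have h2 := congrArg (fun g : Pt R A (DualNumber B) => (g.hom f).snd) h
    rw [h1 ξ ht, h1 ξ' ht'] at h2
    rw [h1 _ htt, snd_one]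
    have h3 : ∀ a, ((E.uu a (DualNumber B) (TrivSqZeroExt.inr ((ξ - ξ') a))).hom f).snd =
        ((E.uu a (DualNumber B) (TrivSqZeroExt.inr (ξ a))).hom f).snd -
        ((E.uu a (DualNumber B) (TrivSqZeroExt.inr (ξ' a))).hom f).snd := by
      intro a
      rw [eq_sub_iff_add_eq, ← snd_mul (uu_mem E a _) (uu_mem E a _), ← E.uu_add,
        ← TrivSqZeroExt.inr_add, Pi.sub_apply, sub_add_cancel]
    have h4 : ((E.i (DualNumber B) (tdiv t t')).hom f).snd =
        ((E.i (DualNumber B) t).hom f).snd - ((E.i (DualNumber B) t').hom f).snd := by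
      rw [eq_sub_iff_add_eq, ← snd_mul (i_mem E htt) (i_mem E ht'), i_tdiv_mul]
    have h5 : (L.map (fun a => ((E.uu a (DualNumber B) (TrivSqZeroExt.inr ((ξ - ξ') a))).hom f).snd)).sum =
        (L.map (fun a => ((E.uu a (DualNumber B) (TrivSqZeroExt.inr (ξ a))).hom f).snd)).sum -
        (L.map (fun a => ((E.uu a (DualNumber B) (TrivSqZeroExt.inr (ξ' a))).hom f).snd)).sum := by
      rw [List.map_congr_left (fun a _ => h3 a)]
      exact sum_map_sub L _ _
    rw [h5, h4]
    linear_combination h2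
  have htt : TPt.map (tfst R B) (tdiv t t') = 1 := by
    rw [map_tdiv, show TPt.map (tfst R B) t = 1 from ht,
        show TPt.map (tfst R B) t' = 1 from ht', tdiv_self]
  obtain ⟨h1, h2⟩ := E.cell_tangent_inj hL hL' _ _ htt key
  exact ⟨sub_eq_zero.mp h1, tdiv_eq_one h2⟩

lemma dmap_inr (φ : B →ₐ[R] C) (x : B) :
    dmap φ (TrivSqZeroExt.inr x) = TrivSqZeroExt.inr (φ x) :=
  TrivSqZeroExt.ext (_root_.map_zero φ) rfl

lemma dscale_inr (b x : B) :
    dscale R b (TrivSqZeroExt.inr x) = TrivSqZeroExt.inr (b * x) :=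
  TrivSqZeroExt.ext rfl rfl

lemma TInf.dmap {M : Type} [AddCommGroup M] {t : TPt M (DualNumber B)} (ht : TInf M R t)
    (φ : B →ₐ[R] C) : TInf M R (TPt.map (dmap φ) t) := by
  apply TPt.ext_ch
  intro m
  rw [TPt.ch_map, TPt.ch_map, TPt.ch_one]
  change φ (TPt.ch m t).fst = 1
  rw [ch_fst ht, _root_.map_one]

lemma TInf.dscale {M : Type} [AddCommGroup M] {t : TPt M (DualNumber B)} (ht : TInf M R t)
    (b : B) : TInf M R (TPt.map (dscale R b) t) := by
  apply TPt.ext_ch
  intro m
  exact ch_fst ht m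

lemma map_dmap_cell (L : List E.idx) (φ : B →ₐ[R] C) (ξ : E.idx → B) (t : TPt E.M (DualNumber B)) :
    Pt.map (dmap φ) (E.cell L (fun a => TrivSqZeroExt.inr (ξ a)) t) =
      E.cell L (fun a => TrivSqZeroExt.inr (φ (ξ a))) (TPt.map (dmap φ) t) := by
  rw [E.cell_nat]
  congr 1
  funext a
  exact dmap_inr φ _

lemma map_dscale_cell (L : List E.idx) (b : B) (ξ : E.idx → B) (t : TPt E.M (DualNumber B)) :
    Pt.map (dscale R b) (E.cell L (fun a => TrivSqZeroExt.inr (ξ a)) t) =
      E.cell L (fun a => TrivSqZeroExt.inr (b * ξ a)) (TPt.map (dscale R b) t) := by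
  rw [E.cell_nat]
  congr 1

lemma conj_cell_inr (L : List E.idx) (s : TPt E.M B) (ξ : E.idx → B) (t : TPt E.M (DualNumber B)) :
    Pt.map (tinl R B) (E.i B s) * E.cell L (fun a => TrivSqZeroExt.inr (ξ a)) t *
      (Pt.map (tinl R B) (E.i B s))⁻¹ =
      E.cell L (fun a => TrivSqZeroExt.inr (TPt.ch (E.root a) s * ξ a)) t := by
  rw [E.i_nat, E.conj_cell]
  congr 1
  funext a
  rw [TPt.ch_map]
  apply TrivSqZeroExt.ext
  · simp
  · simp [mul_comm]

/-- `g` has weight `m` for the torus. -/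
def IsWt (m : E.M) (g : Pt R A (DualNumber B)) : Prop :=
  ∀ (C : Type u) [CommRing C] [Algebra R C] (φ : B →ₐ[R] C) (s : TPt E.M C),
    Pt.map (tinl R C) (E.i C s) * Pt.map (dmap φ) g * (Pt.map (tinl R C) (E.i C s))⁻¹ =
      Pt.map (dscale R (TPt.ch m s)) (Pt.map (dmap φ) g)

variable {E}

lemma isWt_uu (a : E.idx) (ξ : B) : IsWt E (E.root a) (E.uu a (DualNumber B) (TrivSqZeroExt.inr ξ)) := by
  intro C _ _ φ s
  rw [E.uu_nat, E.uu_nat, E.i_nat, E.rel]
  congr 1
  rw [TPt.ch_map, dmap_inr, dscale_inr]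
  apply TrivSqZeroExt.ext
  · simp
  · simp [mul_comm]

lemma isWt_i {t : TPt E.M (DualNumber B)} : IsWt E 0 (E.i (DualNumber B) t) := by
  intro C _ _ φ s
  rw [E.i_nat, E.i_nat, i_comm, mul_inv_cancel_right]
  have : dscale R (TPt.ch (0 : E.M) s) = AlgHom.id R (DualNumber C) := by
    apply AlgHom.ext
    intro x
    apply TrivSqZeroExt.ext
    · rfl
    · rw [TPt.ch_zero, dscale_snd, one_mul]; rfl
  rw [this, Pt.map_id]

/-- coordinates of a weight vector -/
theorem coord_of_isWt {L : List E.idx} (hL : L.Nodup) (hL' : ∀ a, a ∈ L) {m : E.M} {ξ : E.idx → B}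
    {t : TPt E.M (DualNumber B)} (ht : TInf E.M R t)
    (h : IsWt E m (E.cell L (fun a => TrivSqZeroExt.inr (ξ a)) t)) :
    (∀ a, E.root a ≠ m → ξ a = 0) ∧ (m ≠ 0 → t = 1) := by
  classical
  have h1 := h (MonoidAlgebra B (Multiplicative E.M)) (IsScalarTower.toAlgHom R B _) E.sU
  rw [map_dmap_cell, conj_cell_inr, map_dscale_cell] at h1
  obtain ⟨h2, h3⟩ := cell_unique E hL hL' (ht.dmap _) ((ht.dmap _).dscale _) h1
  have hcoe : ∀ b : B, (IsScalarTower.toAlgHom R B (MonoidAlgebra B (Multiplicative E.M))) b =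
      MonoidAlgebra.single 1 b := fun b => rfl
  have hc : ∀ (p q : E.M) (b : B), p ≠ q →
      (MonoidAlgebra.single (Multiplicative.ofAdd p) (1 : B)) * MonoidAlgebra.single 1 b =
      (MonoidAlgebra.single (Multiplicative.ofAdd q) (1 : B)) * MonoidAlgebra.single 1 b → b = 0 := by
    intro p q b hpq e
    rw [MonoidAlgebra.single_mul_single, MonoidAlgebra.single_mul_single, mul_one, mul_one, one_mul] at e
    have e1 := congrArg (fun z : MonoidAlgebra B (Multiplicative E.M) => z.coeff (Multiplicative.ofAdd p)) e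
    simp only [MonoidAlgebra.coeff_single] at e1
    rwa [Finsupp.single_eq_same, Finsupp.single_eq_of_ne] at e1
    exact fun e2 => hpq (Multiplicative.ofAdd.injective e2)
  constructor
  · intro a ha
    have e := congrFun h2 a
    rw [E.ch_sU, E.ch_sU, hcoe] at e
    exact hc _ _ _ ha e
  · intro hm
    apply TPt.ext_ch
    intro n
    rw [TPt.ch_one]
    apply TrivSqZeroExt.ext
    · rw [ch_fst ht]; rfl
    · have e := congrArg (fun z => (TPt.ch n z).snd) h3
      simp only [TPt.ch_map, dscale_snd, dmap_snd] at e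
      rw [E.ch_sU, hcoe] at e
      have e1 : (MonoidAlgebra.single (Multiplicative.ofAdd (0 : E.M)) (1 : B)) *
          MonoidAlgebra.single 1 (TPt.ch n t).snd =
          MonoidAlgebra.single 1 (TPt.ch n t).snd := by
        rw [MonoidAlgebra.single_mul_single, one_mul, ofAdd_zero, one_mul]
      rw [hc 0 m _ (Ne.symm hm) (e1.trans e)]
      rfl

lemma cell_eq_uu {L : List E.idx} (hL : L.Nodup) (hL' : ∀ a, a ∈ L) {ξ : E.idx → B} (a : E.idx)
    (h : ∀ b, b ≠ a → ξ b = 0) :
    E.cell L (fun a => TrivSqZeroExt.inr (ξ a)) 1 = E.uu a (DualNumber B) (TrivSqZeroExt.inr (ξ a)) := by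
  unfold Datum.cell
  rw [_root_.map_one, mul_one]
  refine prod_single hL (hL' a) (fun a => E.uu a (DualNumber B) (TrivSqZeroExt.inr (ξ a))) fun b _ hb => ?_
  rw [h b hb, TrivSqZeroExt.inr_zero, Datum.uu_zero]

lemma cell_eq_i {L : List E.idx} {ξ : E.idx → B} (t : TPt E.M (DualNumber B))
    (h : ∀ b, ξ b = 0) :
    E.cell L (fun a => TrivSqZeroExt.inr (ξ a)) t = E.i (DualNumber B) t := by
  have : (fun a => (TrivSqZeroExt.inr (ξ a) : DualNumber B)) = fun _ => 0 := by
    funext a
    rw [h a, TrivSqZeroExt.inr_zero]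
  rw [this, Datum.cell_zero]

/-- **The weight space of a root.** -/
theorem isWt_root_iff (hG : E.Good) (a : E.idx) {g : Pt R A (DualNumber B)} (hg : g ∈ infP R A B) :
    IsWt E (E.root a) g ↔ ∃ ξ : B, g = E.uu a (DualNumber B) (TrivSqZeroExt.inr ξ) := by
  classical
  constructor
  · intro h
    obtain ⟨ξ, t, ht, rfl⟩ := exists_cell E hG (Finset.nodup_toList Finset.univ)
      (fun a => Finset.mem_toList.mpr (Finset.mem_univ a)) hg
    obtain ⟨h1, h2⟩ := coord_of_isWt (Finset.nodup_toList Finset.univ)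
      (fun a => Finset.mem_toList.mpr (Finset.mem_univ a)) ht h
    refine ⟨ξ a, ?_⟩
    rw [h2 (E.root_ne a)]
    exact cell_eq_uu (Finset.nodup_toList Finset.univ)
      (fun a => Finset.mem_toList.mpr (Finset.mem_univ a)) a
      fun b hb => h1 b fun e => hb (E.root_inj e)
  · rintro ⟨ξ, rfl⟩
    exact isWt_uu a ξ

/-- **The weight zero space.** -/
theorem isWt_zero_iff (hG : E.Good) {g : Pt R A (DualNumber B)} (hg : g ∈ infP R A B) :
    IsWt E 0 g ↔ ∃ t : TPt E.M (DualNumber B), TInf E.M R t ∧ g = E.i (DualNumber B) t := by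
  constructor
  · intro h
    obtain ⟨ξ, t, ht, rfl⟩ := exists_cell E hG (Finset.nodup_toList Finset.univ)
      (fun a => Finset.mem_toList.mpr (Finset.mem_univ a)) hg
    obtain ⟨h1, h2⟩ := coord_of_isWt (Finset.nodup_toList Finset.univ)
      (fun a => Finset.mem_toList.mpr (Finset.mem_univ a)) ht h
    exact ⟨t, ht, cell_eq_i t fun b => h1 b (E.root_ne b)⟩
  · rintro ⟨t, -, rfl⟩
    exact isWt_i

/-- **The other weight spaces are trivial.** -/
theorem eq_one_of_isWt (hG : E.Good) {m : E.M} (hm : m ≠ 0) (hr : ∀ a, E.root a ≠ m)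
    {g : Pt R A (DualNumber B)} (hg : g ∈ infP R A B) (h : IsWt E m g) : g = 1 := by
  obtain ⟨ξ, t, ht, rfl⟩ := exists_cell E hG (Finset.nodup_toList Finset.univ)
    (fun a => Finset.mem_toList.mpr (Finset.mem_univ a)) hg
  obtain ⟨h1, h2⟩ := coord_of_isWt (Finset.nodup_toList Finset.univ)
    (fun a => Finset.mem_toList.mpr (Finset.mem_univ a)) ht h
  rw [h2 hm, cell_eq_i _ fun b => h1 b (hr b), _root_.map_one]

lemma uu_inr_eq_one_iff (a : E.idx) (ξ : B) :
    E.uu a (DualNumber B) (TrivSqZeroExt.inr ξ) = 1 ↔ ξ = 0 := by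
  rw [← E.uu_zero a, (E.uu_inj a).eq_iff]
  constructor
  · intro h
    exact congrArg TrivSqZeroExt.snd h
  · rintro rfl
    rw [TrivSqZeroExt.inr_zero]

end gen

end K929.LieCell
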