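import Groth.Agent.LieWt.K929.LieRoot2
import Groth.Agent.S2962
import Groth.Agent.Sga3B.SplitCent889
import Groth.Agent.Sga3B.SplitModel889

/-!
# Split reductive groups without roots are commutative
-/

set_option autoImplicit false
universe u v

open CategoryTheory MonoidalCategory CartesianMonoidalCategory MonObj GrpObj AlgebraicGeometry Limits

namespace K929.LieRoot

open Groth.Agent.Sga3B Cell PinMod DSPts GaPts

variable {S : Scheme.{u}} {G : Over S} [GrpObj G] (D : Red.SplitRed G)

/-- the torus of a splitting is its own centralizer -/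
theorem isCentralizerOf_self : Red.IsCentralizerOf D.i D.i :=
  isCentralizerOf_of_charts D (hasGoodCharts D)

theorem comm_of_isEmpty [IsEmpty D.idx] {X : Over S} (g h : X ⟶ G) : g * h = h * g := by
  have key : ∀ (X : Over S) (t : X ⟶ D.T) (g : X ⟶ G), (t ≫ D.i) * g = g * (t ≫ D.i) := by
    intro X t g
    have h1 := (Groth.Agent.S2962.result D X (t ≫ D.i)).mpr ⟨t, rfl, fun a => isEmptyElim a⟩ X (𝟙 X) g
    rwa [Category.id_comp] at h1
  obtain ⟨t, rfl⟩ := ((isCentralizerOf_self D).2.2 X g).mpr fun X' x t => (key X' t (x ≫ g)).symm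
  exact key X t h

theorem isSolvableGrp_of_isEmpty [IsEmpty D.idx] : Red.IsSolvableGrp G := by
  refine ⟨1, fun X => ?_⟩
  rw [derivedSeries_one, commutator_eq_bot_iff_center_eq_top, eq_top_iff]
  intro g _
  rw [Subgroup.mem_center_iff]
  intro h
  exact comm_of_isEmpty D h g

end K929.LieRoot
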