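import Groth.Agent.LieWt.K929.LieRoot
import Mathlib.LinearAlgebra.FiniteDimensional.Basic

/-!
# Proportional roots; the dimension of the root spaces; groups without roots
-/

set_option autoImplicit false
universe u v

open CategoryTheory MonoidalCategory CartesianMonoidalCategory MonObj GrpObj AlgebraicGeometry Limits

namespace K929.LieRoot

open Groth.Agent.Sga3B Cell PinMod DSPts GaPts K929.LieDict K929.LieCell K929.LieSplit K929.CharLemmas

section zpow

variable {R : Type u} [CommRing R] {G : Over (Spec (CommRingCat.of R))} [GrpObj G]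
  (D : Red.SplitRed G) {T : Over (Spec (CommRingCat.of R))} [GrpObj T] 

lemma comp_zpow {X Y Z : Over (Spec (CommRingCat.of R))} [GrpObj Z] (x : X ⟶ Y) (f : Y ⟶ Z) (n : ℤ) :
    x ≫ f ^ n = (x ≫ f) ^ n := by
  have := map_zpow (((yonedaGrpObj Z).map x.op).hom) f n
  exact this

lemma ch_zpow (m : D.M) (n : ℤ) : (ch D m) ^ n = ch D (n • m) := by
  rw [ch, ch, ← comp_zpow, chi_zsmul]

lemma eq_or_neg_of_smul (hred : D.P.IsReduced) {a b : D.idx} {m n : ℤ} (hm : m ≠ 0)
    (h : m • D.P.root a = n • D.P.root b) : D.P.root b = D.P.root a ∨ D.P.root b = - D.P.root a := by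
  have h1 : ¬ LinearIndependent ℤ ![D.P.root a, D.P.root b] := by
    rw [LinearIndependent.pair_iff]
    intro H
    exact hm (H m (-n) (by rw [h, neg_smul, add_neg_cancel])).1
  rcases hred.eq_or_eq_neg a b h1 with h2 | h2
  · exact Or.inl h2.symm
  · right
    rw [h2, neg_neg]

lemma root_of_zpow_eq [Nontrivial R] (τ : Grp.mk T ≅ Grp.mk D.T) (hred : D.P.IsReduced) {a b : D.idx} {m n : ℤ}
    (hm : m ≠ 0) (_ : n ≠ 0) (h : (τ.hom.hom.hom ≫ ch D (D.P.root a)) ^ m =
      (τ.hom.hom.hom ≫ ch D (D.P.root b)) ^ n) :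
    D.P.root b = D.P.root a ∨ D.P.root b = - D.P.root a := by
  rw [← comp_zpow _ (ch D (D.P.root a)), ← comp_zpow _ (ch D (D.P.root b)), ch_zpow, ch_zpow] at h
  have e2 : τ.inv.hom.hom ≫ τ.hom.hom.hom = 𝟙 _ := congrArg (fun f => f.hom.hom) τ.inv_hom_id
  have h1 := congrArg (fun z => τ.inv.hom.hom ≫ z) h
  simp only [← Category.assoc τ.inv.hom.hom] at h1
  erw [e2, Category.id_comp, Category.id_comp] at h1
  exact eq_or_neg_of_smul D hred hm (ch_injective D h1)

end zpow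

section model

variable {R : Type u} [CommRing R] {G : Over (Spec (CommRingCat.of R))} [GrpObj G]
  (D : Red.SplitRed G) (c : Chart G (𝟙 (Spec (CommRingCat.of R))))
variable {B : Type u} [CommRing B] [Algebra R B] {L : Type v} [LieRing L] [LieAlgebra B L]
  (mdl : LieS.Model G B (Spec.map (CommRingCat.ofHom (algebraMap R B))) L)

/-- The root space of a root is free of rank one. -/
theorem exists_equiv (a : D.idx) :
    Nonempty (B ≃ₗ[B] LieWt.modelWeightSpOf mdl D.i (ch D (D.P.root a))) := by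
  obtain ⟨c⟩ := exists_chart' D
  obtain ⟨y, hy⟩ := exists_infR c (uu_mem (c.datum D) a (1 : B))
  obtain ⟨z, hz⟩ := mdl.e.surjective y
  set x₁ : L := Multiplicative.toAdd z with hx₁
  have hx : mdl.e (Multiplicative.ofAdd x₁) = y := hz
  have h1 : ∀ ξ : B, infR c B (mdl.e (Multiplicative.ofAdd (ξ • x₁))) =
      (c.datum D).uu a (DualNumber B) (TrivSqZeroExt.inr ξ) := by
    intro ξ
    rw [mdl.e_smul, hx, infR_smul, hy, (c.datum D).uu_nat, dscale_inr, _root_.mul_one]
  have hmem : x₁ ∈ LieWt.modelWeightSpOf mdl D.i (ch D (D.P.root a)) := by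
    change mdl.e (Multiplicative.ofAdd x₁) ∈ LieWt.weightSpOf D.i (ch D (D.P.root a)) B
    rw [hx, mem_weightSpOf_root D c]
    exact ⟨1, hy⟩
  refine ⟨LinearEquiv.ofBijective (LinearMap.toSpanSingleton B _ ⟨x₁, hmem⟩) ⟨?_, ?_⟩⟩
  · intro ξ ξ' h
    have h2 : ξ • x₁ = ξ' • x₁ := congrArg Subtype.val h
    have h3 := h1 ξ
    rw [h2, h1 ξ'] at h3
    have h4 := (c.datum D).uu_inj a h3
    exact (congrArg TrivSqZeroExt.snd h4).symm
  · rintro ⟨x, hx'⟩
    have h2 : mdl.e (Multiplicative.ofAdd x) ∈ LieWt.weightSpOf D.i (ch D (D.P.root a)) B := hx'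
    rw [mem_weightSpOf_root D c] at h2
    obtain ⟨ξ, hξ⟩ := h2
    refine ⟨ξ, ?_⟩
    apply Subtype.ext
    change ξ • x₁ = x
    have h3 : infR c B (mdl.e (Multiplicative.ofAdd (ξ • x₁))) =
        infR c B (mdl.e (Multiplicative.ofAdd x)) := by rw [h1, hξ]
    exact Multiplicative.ofAdd.injective (mdl.e.injective (infR_injective c h3))

variable {T : Over (Spec (CommRingCat.of R))} [GrpObj T]

lemma modelWeightSpOf_iso (i : T ⟶ G) (τ : Grp.mk T ≅ Grp.mk D.T) (h : i = τ.hom.hom.hom ≫ D.i)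
    (m : D.M) :
    LieWt.modelWeightSpOf mdl i (τ.hom.hom.hom ≫ ch D m) = LieWt.modelWeightSpOf mdl D.i (ch D m) := by
  have e1 : τ.hom.hom.hom ≫ τ.inv.hom.hom = 𝟙 _ := congrArg (fun f => f.hom.hom) τ.hom_inv_id
  have e2 : τ.inv.hom.hom ≫ τ.hom.hom.hom = 𝟙 _ := congrArg (fun f => f.hom.hom) τ.inv_hom_id
  let e : T ≅ D.T := ⟨τ.hom.hom.hom, τ.inv.hom.hom, e1, e2⟩
  have h1 := weightSpOf_iso i D.i e h (τ.hom.hom.hom ≫ ch D m) B
  have h2 : e.inv ≫ τ.hom.hom.hom ≫ ch D m = ch D m := by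
    rw [← Category.assoc]
    exact (congrArg (fun z => z ≫ ch D m) e2).trans (Category.id_comp _)
  rw [h2] at h1
  ext x
  change mdl.e (Multiplicative.ofAdd x) ∈ LieWt.weightSpOf i (τ.hom.hom.hom ≫ ch D m) B ↔
    mdl.e (Multiplicative.ofAdd x) ∈ LieWt.weightSpOf D.i (ch D m) B
  rw [h1]

end model

end K929.LieRoot
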