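import Groth.Agent.LieWt.K929.FixRed
import Groth.Agent.Sga3B.AlgBc2
import Groth.Agent.Sga3B.DSRigid

/-!
# Reductivity from the reductivity of the centralizers of the kernel tori
-/

set_option autoImplicit false
universe u

open CategoryTheory MonoidalCategory CartesianMonoidalCategory MonObj GrpObj AlgebraicGeometry Limits

namespace K929.RedCrit

open Groth.Agent.Sga3B Cell PinMod DSPts GaPts K929.LieDict K929.LieCell K929.LieSplit K929.LieRoot
open K929.Act K929.ActSub K929.ChartUni RootCoact RootGr K929.FixPts K929.ActGa K929.FixSub K929.HopfChart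
open K929.CharLemmas Groth.Agent.Books.AffBridge Groth.Agent.Sga3B.RootCoact Groth.Agent.Sga3B.RootOrb
open Groth.Agent.Sga3B.RootGa Groth.Agent.Sga3B.AffPts Groth.Agent.Sga3B.DSAff

section ker

variable {k : Type u} [Field k] [IsAlgClosed k] {T : Over (Spec (CommRingCat.of k))} [GrpObj T]
  {M : Type} [AddCommGroup M] (sp : Grp.mk T ≅ Grp.mk (Red.DS (Spec (CommRingCat.of k)) M)) (a : M)

/-- **The kernel torus is the largest subtorus killed by the character.** -/
theorem exists_factor_kerT {T' : Over (Spec (CommRingCat.of k))} [GrpObj T'] (j' : T' ⟶ T) [IsMonHom j']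
    (hT' : Red.IsTorus T') (hj : j' ≫ chr sp a = 1) :
    ∃ f : T' ⟶ Red.DS (Spec (CommRingCat.of k)) (M ⧸ satQ a), f ≫ kerT sp a = j' := by
  obtain ⟨r, ⟨sp'⟩⟩ := TorusAlgClosed.exists_isSplitTorusWith hT'
  have h1 : IsMonHom sp'.inv.hom.hom := sp'.inv.hom.isMonHom_hom
  have h2 : IsMonHom sp.hom.hom.hom := sp.hom.hom.isMonHom_hom
  let g : Red.DS (Spec (CommRingCat.of k)) (Fin r → ℤ) ⟶ Red.DS (Spec (CommRingCat.of k)) M :=
    sp'.inv.hom.hom ≫ j' ≫ sp.hom.hom.hom
  have hg : IsMonHom g := inferInstanceAs (IsMonHom (sp'.inv.hom.hom ≫ j' ≫ sp.hom.hom.hom))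
  obtain ⟨φ, hφ⟩ := DSRigid.exists_eq_DSmap g
  have h3 : φ a = 0 := by
    rw [← chi_eq_one_iff (S := Spec (CommRingCat.of k)), ← DSmap_chi, ← hφ]
    have h4 : g ≫ Red.chi (Spec (CommRingCat.of k)) a = sp'.inv.hom.hom ≫ j' ≫ chr sp a := by
      simp only [g, chr, Category.assoc]
    rw [h4, hj, MonObj.comp_one]
  have h5 : ∀ n ∈ satQ a, φ n = 0 := by
    rintro n ⟨k', l, hk, h⟩
    have h6 := congrArg φ h
    rw [map_zsmul, map_zsmul, h3, smul_zero] at h6
    exact (smul_eq_zero.1 h6).resolve_left hk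
  let φ' : M ⧸ satQ a →+ (Fin r → ℤ) := QuotientAddGroup.lift (satQ a) φ h5
  have h7 : φ'.comp (QuotientAddGroup.mk' (satQ a)) = φ := by
    ext x
    rfl
  refine ⟨sp'.hom.hom.hom ≫ Red.DSmap _ φ', ?_⟩
  have h8 : Red.DSmap (Spec (CommRingCat.of k)) φ' ≫ Red.DSmap _ (QuotientAddGroup.mk' (satQ a)) = g := by
    rw [BorSpan613.DSmap_comp_DSmap, h7, hφ]
  have h9 : g ≫ sp.inv.hom.hom = sp'.inv.hom.hom ≫ j' := by
    have h := sp_hom_inv sp
    exact (Category.assoc _ _ _).trans (congrArg (fun z => sp'.inv.hom.hom ≫ z)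
      ((Category.assoc _ _ _).trans ((congrArg (fun z => j' ≫ z) h).trans (Category.comp_id _))))
  rw [kerT]
  simp only [Category.assoc]
  rw [← Category.assoc (Red.DSmap _ φ'), h8, h9, ← Category.assoc]
  exact (congrArg (fun z => z ≫ j') (sp_hom_inv sp')).trans (Category.id_comp _)

end ker

section root

variable {k : Type u} [Field k]
  {G U T : Over (Spec (CommRingCat.of k))} [GrpObj G] [GrpObj U] [GrpObj T]
  {A : Type u} [CommRing A] [HopfAlgebra k A] (e : G ≅ SpecOver k A) [IsMonHom e.hom]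
  {M : Type} [AddCommGroup M] (p : A →ₐc[k] MonoidAlgebra k (Multiplicative M))
  (i : T ⟶ G) [IsMonHom i] (sp : Grp.mk T ≅ Grp.mk (Red.DS (Spec (CommRingCat.of k)) M))
  (hp : ∀ (X : Over (Spec (CommRingCat.of k))) (t : X ⟶ T),
        t ≫ i ≫ e.hom = affPt X ((chAlg (fnChar (t ≫ sp.hom.hom.hom))).comp (p : A →ₐ[k] _)))
  (cU : Chart U (𝟙 (Spec (CommRingCat.of k)))) (u : U ⟶ G) [IsMonHom u] [Mono u]
  [IsMonHom (sp.inv.hom.hom ≫ i)]
  (hn : ∀ (X : Over (Spec (CommRingCat.of k))) (t : X ⟶ Red.DS (Spec (CommRingCat.of k)) M)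
    (x : X ⟶ U), ∃ x' : X ⟶ U, (t ≫ sp.inv.hom.hom ≫ i) * (x ≫ u) * (t ≫ sp.inv.hom.hom ≫ i)⁻¹ = x' ≫ u)

include hp in
/-- weights of the cotangent space of a normalized subgroup are weights of the group -/
theorem weightSpOf_ne_bot {m : M} {f : cU.A}
    (hf : f ∈ gr (nrm (chart e) cU u (sp.inv.hom.hom ≫ i) hn).tact.coact m)
    (hfa : f ∈ aug k cU.A) (hf2 : f ∉ aug k cU.A ^ 2) : LieWt.weightSpOf i (chr sp m) k ≠ ⊥ := by
  let NN : Nrm k (chart e).A cU.A M := nrm (chart e) cU u (sp.inv.hom.hom ≫ i) hn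
  have hf : f ∈ gr NN.tact.coact m := hf
  have hE : NN.tact.IsAut := NN.isAut
  obtain ⟨g, hg, hgf⟩ : ∃ g ∈ infP k cU.A k, der g f ≠ 0 := by
    by_contra hcon
    push Not at hcon
    exact hf2 (mem_sq hfa hcon)
  set g' := hE.comp m hg with hg'
  have hg'm := hE.comp_mem m hg
  have hg'w := hE.isWt_comp m hg
  have hg'f : der g' f ≠ 0 := by
    have h1 : der g' f = der g (pr NN.tact.coact m f) := hE.snd_comp m hg f
    rw [h1, pr_of_mem_same _ hf]
    exact hgf
  have hg'1 : g' ≠ 1 := by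
    intro h
    rw [h] at hg'f
    exact hg'f (TAct.snd_one_hom (R := k) (A := cU.A) (B := k) f)
  obtain ⟨x, hx⟩ := exists_infR cU hg'm
  have hti : ∀ (B : Type u) [CommRing B] [Algebra k B] (t : TPt M B),
      NN.ti B t = (cv e B).symm (torPt p t) := by
    intro B _ _ t
    apply ((chart e).pts B).injective
    rw [pts_torPt e p i sp hp]
    exact pts_tiPt (chart e) (sp.inv.hom.hom ≫ i) t
  have hact : ∀ {B : Type u} [CommRing B] [Algebra k B] (t : TPt M B) (y : Pt k cU.A B),
      (tact e p).act t (NN.emb B y) = NN.emb B (NN.tact.act t y) := by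
    intro B _ _ t y
    have h1 : NN.emb B (NN.tact.act t y) = _ := NN.emb_act t y
    rw [h1, hti]
    apply (cv e B).injective
    rw [cv_act, _root_.map_mul, _root_.map_mul, _root_.map_inv, MulEquiv.apply_symm_apply]
    rfl
  intro hbot
  have hmem : LieS.map k _ u x ∈ LieWt.weightSpOf i (chr sp m) k := by
    refine (mem_weightSpOf_iff e p i sp hp m _).2 ?_
    have h1 : infR (chart e) k (LieS.map k _ u x) = NN.emb _ (infR cU k x) := (emb_infR (chart e) cU u x).symm
    rw [h1, hx]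
    intro C _ _ φ t
    rw [NN.emb_nat, hact, hg'w C φ t, ← NN.emb_nat]
  rw [hbot, Subgroup.mem_bot] at hmem
  have h2 : x = 1 := by
    apply K929.HopfChart.map_injective u
    rw [hmem, _root_.map_one]
  apply hg'1
  rw [hg', ← hx, h2, _root_.map_one]

end root

section triv

variable {k : Type u} [Field k] {U : Over (Spec (CommRingCat.of k))} [GrpObj U]
  (cU : Chart U (𝟙 (Spec (CommRingCat.of k))))

/-- a smooth connected group with idempotent augmentation ideal is trivial -/
theorem isTrivialGrp_of_aug [Smooth U.hom] [ConnectedSpace ↥U.left] (h : ∀ f ∈ aug k cU.A, f ∈ aug k cU.A ^ 2) :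
    Red.IsTrivialGrp U := by
  have hdom := K929.RootGrpUniq.isDomain_A cU
  have hnoe := K929.RootGrpUniq.isNoetherianRing_A cU
  have h1 : aug k cU.A ≠ ⊤ := by
    intro h
    have h2 : (1 : cU.A) ∈ aug k cU.A := by rw [h]; trivial
    rw [ActGa.mem_aug, _root_.map_one] at h2
    exact one_ne_zero h2
  have h2 := Ideal.iInf_pow_eq_bot_of_isDomain _ h1
  have h3 : ∀ n : ℕ, aug k cU.A ≤ aug k cU.A ^ (n + 1) := by
    intro n
    induction n with
    | zero => rw [zero_add, pow_one]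
    | succ n ih =>
      calc aug k cU.A ≤ aug k cU.A ^ 2 := h
        _ = aug k cU.A * aug k cU.A := sq _
        _ ≤ aug k cU.A ^ (n + 1) * aug k cU.A := Ideal.mul_mono_left ih
        _ = aug k cU.A ^ (n + 1 + 1) := (pow_succ _ _).symm
  have h4 : aug k cU.A = ⊥ := by
    rw [eq_bot_iff, ← h2]
    refine le_iInf fun n => ?_
    exact (h3 n).trans (Ideal.pow_le_pow_right (Nat.le_succ n))
  have h5 : Function.Bijective (algebraMap k cU.A) := by
    refine ⟨(algebraMap k cU.A).injective, fun a => ⟨cou k cU.A a, ?_⟩⟩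
    have h6 := sub_mem_aug (K := k) a
    rw [h4, Ideal.mem_bot, sub_eq_zero] at h6
    exact h6.symm
  have h6 : IsIso (Spec.map (CommRingCat.ofHom (algebraMap k cU.A))) := by
    have h7 : IsIso (CommRingCat.ofHom (algebraMap k cU.A)) :=
      (ConcreteCategory.isIso_iff_bijective _).2 h5
    infer_instance
  have h7 : U.hom = CategoryTheory.inv (uni cU).left ≫ Spec.map (CommRingCat.ofHom (algebraMap k cU.A)) := by
    rw [IsIso.eq_inv_comp, Over.w]
    exact Category.comp_id _
  rw [Red.IsTrivialGrp, h7]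
  infer_instance

end triv

section main

lemma isCentralizerOf_of_iso {S : Scheme.{u}} {G H H' Z : Over S} [GrpObj G] [GrpObj H] [GrpObj H'] [GrpObj Z]
    (i : H ⟶ G) (z : Z ⟶ G) (σ : H' ⟶ H) [IsIso σ] (h : Red.IsCentralizerOf i z) :
    Red.IsCentralizerOf (σ ≫ i) z := by
  refine ⟨h.1, h.2.1, fun X g => ?_⟩
  rw [h.2.2]
  constructor
  · intro h' X' x t
    have := h' X' x (t ≫ σ)
    rwa [Category.assoc] at this
  · intro h' X' x t
    have := h' X' x (t ≫ CategoryTheory.inv σ)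
    rwa [Category.assoc, IsIso.inv_hom_id_assoc] at this

variable {k : Type u} [Field k] [IsAlgClosed k]
  {G T : Over (Spec (CommRingCat.of k))} [GrpObj G] [GrpObj T] [IsAffine G.left] [Smooth G.hom]
  [ConnectedSpace G.left]

theorem isReductiveOver (i : T ⟶ G) (hT : AGF.IsMaxTorus i)
    (hZT : Red.IsCentralizerOf i i)
    (h : ∀ (α : T ⟶ Red.Gm (Spec (CommRingCat.of k))), LieWt.IsRoot i α →
      ∀ (Ta : Over (Spec (CommRingCat.of k))) [GrpObj Ta] (j : Ta ⟶ T) [IsMonHom j] [Mono j],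
      Red.IsTorus Ta → j ≫ α = 1 →
      (∀ (T' : Over (Spec (CommRingCat.of k))) [GrpObj T'] (j' : T' ⟶ T) [IsMonHom j'] [Mono j'],
        Red.IsTorus T' → j' ≫ α = 1 → ∃ f : T' ⟶ Ta, f ≫ j = j') →
        ∀ (Z : Over (Spec (CommRingCat.of k))) [GrpObj Z] (z : Z ⟶ G), Red.IsCentralizerOf (j ≫ i) z → Red.IsReductive Z) :
    Red.IsReductiveOver k G := by
  have hi : IsMonHom i := hT.1
  have him : Mono i := hT.2.1
  obtain ⟨r, ⟨sp⟩⟩ := TorusAlgClosed.exists_isSplitTorusWith hT.2.2.1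
  have hspi : IsMonHom sp.inv.hom.hom := sp.inv.hom.isMonHom_hom
  have hsph : IsMonHom sp.hom.hom.hom := sp.hom.hom.isMonHom_hom
  have hji : IsMonHom (sp.inv.hom.hom ≫ i) := inferInstance
  have hjm : Mono (sp.inv.hom.hom ≫ i) := by
    have : IsIso sp.inv.hom.hom := ⟨sp.hom.hom.hom, sp_inv_hom sp, sp_hom_inv sp⟩
    exact mono_comp _ _
  refine ⟨inferInstance, inferInstance, inferInstance, ?_⟩
  intro U _ u _ hc hs hcn hnu hU
  have hum : Mono u := (Over.forget _).mono_of_mono_map (inferInstanceAs (Mono u.left))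
  obtain ⟨A, _, _, e, he⟩ := exists_hopf k G
  obtain ⟨p, hp⟩ := exists_pi i sp e
  have hUaff : IsAffine U.left := isAffine_of_isAffineHom u.left
  have hUaf : IsAffineHom U.hom := isAffineHom_of_isAffine U.hom
  obtain ⟨cU⟩ := exists_chart U (𝟙 (Spec (CommRingCat.of k)))
  have hn : ∀ (X : Over (Spec (CommRingCat.of k))) (t : X ⟶ Red.DS (Spec (CommRingCat.of k)) (Fin r → ℤ))
      (x : X ⟶ U), ∃ x' : X ⟶ U, (t ≫ sp.inv.hom.hom ≫ i) * (x ≫ u) * (t ≫ sp.inv.hom.hom ≫ i)⁻¹ = x' ≫ u :=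
    fun X t x => hnu X _ x
  let NN : Nrm k (chart e).A cU.A (Fin r → ℤ) := nrm (chart e) cU u (sp.inv.hom.hom ≫ i) hn
  have hE : NN.tact.IsAut := NN.isAut
  have key : ∀ m, ∀ f ∈ gr NN.tact.coact m, f ∈ aug k cU.A → f ∈ aug k cU.A ^ 2 := by
    intro m f hf hfa
    by_contra hf2
    have hwt : LieWt.weightSpOf i (chr sp m) k ≠ ⊥ := weightSpOf_ne_bot e p i sp hp cU u hn hf hfa hf2
    -- the centralizer of the kernel torus
    obtain ⟨Z, _, z, hz, hzc, hZr⟩ : ∃ (Z : Over (Spec (CommRingCat.of k))) (_ : GrpObj Z) (z : Z ⟶ G),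
        Red.IsCentralizerOf (kerT sp m ≫ i) z ∧ IsClosedImmersion z.left ∧ Red.IsReductiveOver k Z := by
      by_cases hm : m = 0
      · subst hm
        refine ⟨T, inferInstance, i, ?_, SsKer.isClosedImmersion_of_isTorus i hT.2.2.1,
          Groth.Agent.Sga3.H807.TorRed.isReductiveOver_of_isTorus hT.2.2.1⟩
        have hb : satQ (0 : Fin r → ℤ) = ⊥ := by
          rw [eq_bot_iff]
          rintro n ⟨k', l, hk, h'⟩
          rw [smul_zero] at h'
          exact (smul_eq_zero.1 h').resolve_left hk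
        let q : (Fin r → ℤ) ≃+ ((Fin r → ℤ) ⧸ satQ (0 : Fin r → ℤ)) :=
          AddEquiv.ofBijective (QuotientAddGroup.mk' (satQ 0))
            ⟨by
              rw [injective_iff_map_eq_zero]
              intro x hx
              have hx' := (QuotientAddGroup.eq_zero_iff _).1 hx
              rw [hb] at hx'
              exact hx', QuotientAddGroup.mk'_surjective _⟩
        obtain ⟨E, hE1, hE2⟩ := BorSpan613.exists_iso_DS (Spec (CommRingCat.of k)) q
        have h1 : IsIso (Red.DSmap (Spec (CommRingCat.of k)) (QuotientAddGroup.mk' (satQ (0 : Fin r → ℤ)))) := by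
          have h2 : Red.DSmap (Spec (CommRingCat.of k)) (QuotientAddGroup.mk' (satQ (0 : Fin r → ℤ))) =
              E.hom.hom.hom := by
            rw [hE1]
            rfl
          rw [h2]
          exact ⟨E.inv.hom.hom, congrArg (fun f => f.hom.hom) E.hom_inv_id,
            congrArg (fun f => f.hom.hom) E.inv_hom_id⟩
        have h2 : IsIso sp.inv.hom.hom := ⟨sp.hom.hom.hom, sp_inv_hom sp, sp_hom_inv sp⟩
        have h3 : IsIso (kerT sp (0 : Fin r → ℤ)) := by
          rw [kerT]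
          exact IsIso.comp_isIso
        exact isCentralizerOf_of_iso i i (kerT sp 0) hZT
      · have hroot : LieWt.IsRoot i (chr sp m) := by
          refine ⟨?_, ?_, hwt⟩
          · rw [chr]
            have : IsMonHom (Red.chi (Spec (CommRingCat.of k)) m) :=
              AdCentre.isMonHom_DSmap (S := Spec (CommRingCat.of k)) _
            infer_instance
          · intro h1
            apply hm
            rw [← chi_eq_one_iff (S := Spec (CommRingCat.of k)), ← inv_chr sp, h1, MonObj.comp_one]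
        obtain ⟨⟨Z, _, z, hz, hzc, -⟩, -⟩ := CentNorm900.exists_centralizer_normalizer_torus
          (Trans894.isTorus_DS _ _) (kerT sp m ≫ i)
        refine ⟨Z, inferInstance, z, hz, hzc, ?_⟩
        rw [← AlgBc.isReductive_iff]
        exact h (chr sp m) hroot _ (kerT sp m) (Trans894.isTorus_DS _ _) (kerT_chr sp m (self_mem_satQ m))
          (fun T' _ j' _ _ hT' hj' => exists_factor_kerT sp m j' hT' hj') Z z hz
    have hz' : Red.IsCentralizerOf (Red.DSmap (Spec (CommRingCat.of k)) (QuotientAddGroup.mk' (satQ m)) ≫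
        sp.inv.hom.hom ≫ i) z := by
      rw [← Category.assoc]
      exact hz
    exact hf2 (mem_sq_of_isReductiveOver (chart e) cU u (sp.inv.hom.hom ≫ i) hn (satQ m) z hz' hnu hU hZr
      (self_mem_satQ m) hf hfa)
  refine isTrivialGrp_of_aug cU fun f hf => ?_
  rw [← sum_pr NN.tact.coact f]
  exact sum_mem fun m _ => key m _ (pr_mem_gr _ _ _) (pr_mem_aug hE m hf)

end main

end K929.RedCrit
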