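import Groth.Agent.LieWt.K929.HopfChart

/-!
# Reductive groups with a split maximal torus over an affine base: the certificate on all fibres
-/

set_option autoImplicit false
universe u

open CategoryTheory MonoidalCategory CartesianMonoidalCategory MonObj GrpObj AlgebraicGeometry Limits
open scoped TensorProduct
open WithConv

namespace K929.HopfChart

open Groth.Agent.Books.DynBasic (mapPt mapPt_apply mapPt_injective)
open Groth.Agent.Books.AffBridge Groth.Agent.Sga3B
open Groth.Agent.Sga3B.RootCoact Groth.Agent.Sga3B.RootOrb Groth.Agent.Sga3B.RootGr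
open Groth.Agent.Sga3B.RootGa Groth.Agent.Sga3B.AffPts Groth.Agent.Sga3B.DSAff
open Groth.Agent.Sga3B.RootCert Groth.Agent.Sga3B.RootDens136
open Groth.Agent.Sga3B.RootRefl136 Groth.Agent.Sga3B.RootBC136 Groth.Agent.Sga3B.RootWt136
open Groth.Agent.Sga3B.RootExt136 Groth.Agent.Sga3B.RootFinal136

/-- The Hopf algebra of a reductive group with a split maximal torus, with the facts on all its fibres. -/
structure Setup {R : Type u} [CommRing R] {G T : Over (Spec (CommRingCat.of R))} [GrpObj G] [GrpObj T]
    (i : T ⟶ G) {M : Type} [AddCommGroup M]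
    (sp : Grp.mk T ≅ Grp.mk (Red.DS (Spec (CommRingCat.of R)) M)) where
  /-- the coordinate ring -/
  A : Type u
  [ring : CommRing A]
  [hopf : HopfAlgebra R A]
  e : G ≅ SpecOver R A
  [he : IsMonHom e.hom]
  p : A →ₐc[R] MonoidAlgebra R (Multiplicative M)
  hp : ∀ (X : Over (Spec (CommRingCat.of R))) (t : X ⟶ T),
        t ≫ i ≫ e.hom = affPt X ((chAlg (fnChar (t ≫ sp.hom.hom.hom))).comp (p : A →ₐ[R] _))
  [smooth : Algebra.Smooth R A]
  surj : Function.Surjective p
  cent : ∀ y, p y = 0 → y ∈ JP p (⊥ : AddSubmonoid M)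
  cert : ∀ (K : Type u) [Field K] [IsAlgClosed K] [Algebra R K], Cert (bcP K p)
  dom : ∀ (K : Type u) [Field K] [IsAlgClosed K] [Algebra R K], IsDomain (K ⊗[R] A)

attribute [instance] Setup.ring Setup.hopf Setup.he Setup.smooth

variable {R : Type u} [CommRing R] {M : Type} [AddCommGroup M]
variable {G T : Over (Spec (CommRingCat.of R))} [GrpObj G] [GrpObj T]

theorem exists_setup [Module.Finite ℤ M] [Module.Free ℤ M] (hG : Red.IsReductive G) (i : T ⟶ G)
    (hT : Red.IsMaximalTorus i) (sp : Grp.mk T ≅ Grp.mk (Red.DS (Spec (CommRingCat.of R)) M)) :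
    Nonempty (Setup i sp) := by
  have hi : IsMonHom i := hT.1
  have : IsAffineHom G.hom := hG.1
  have haff : IsAffine G.left := isAffine_of_isAffineHom G.hom
  obtain ⟨A, _, _, e, he⟩ := exists_hopf R G
  obtain ⟨p, hp⟩ := exists_pi i sp e
  have hsm : Algebra.Smooth R A := by
    have h1 : Smooth G.hom := hG.2.1
    have h2 : Smooth (SpecOver R A).hom := by
      have h3 : (SpecOver R A).hom = e.inv.left ≫ G.hom := (Over.w e.inv).symm
      rw [h3]
      infer_instance
    have h : RingHom.Smooth (algebraMap R A) := (HasRingHomProperty.Spec_iff (P := @Smooth)).1 h2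
    rwa [RingHom.smooth_algebraMap] at h
  have hfp : Algebra.FinitePresentation R A := Algebra.Smooth.finitePresentation
  -- the standard geometric points
  have hs := fun s : Spec (CommRingCat.of R) =>
    letI := RootBridge989.geomAlg s
    RootBridge989.main hG i hT e sp p hp s (RootBridge989.geomPt_eq s)
  have hcs : ∀ s : Spec (CommRingCat.of R), letI := RootBridge989.geomAlg s
      Cert (bcP (AlgebraicClosure ((Spec (CommRingCat.of R)).residueField s)) p) := by
    intro s
    let _ := RootBridge989.geomAlg s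
    obtain ⟨h1, h2, h3, h4, h5⟩ := hs s
    exact RG.CertRed.cert h3 _ h4 h5
  -- surjectivity
  have hps : Function.Surjective p := by
    apply RootSurj878.surjective_of_fibres
    intro 𝔪 h𝔪
    let s : Spec (CommRingCat.of R) := (⟨𝔪, h𝔪.isPrime⟩ : PrimeSpectrum R)
    let alg := RootBridge989.geomAlg s
    refine ⟨_, inferInstance, alg, ?_, (hs s).2.2.2.1⟩
    intro r hr
    have h1 := ker_geomAlg (R := R) s
    change r ∈ RingHom.ker _
    rw [h1]
    exact hr
  -- the centralizer
  have hfgM : AddGroup.FG M := Module.Finite.iff_addGroup_fg.1 inferInstance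
  have hpc : ∀ y, p y = 0 → y ∈ JP p (⊥ : AddSubmonoid M) := by
    apply RootSurj878.cent_of_fibres' p hps
    intro s
    let alg := RootBridge989.geomAlg (R := R) s
    exact ⟨_, inferInstance, alg, ker_geomAlg s, (hcs s).cent⟩
  obtain ⟨hfin, -⟩ := projective_quot (R := R) (A := A) fg_aug
  have hfW := fun m => finite_W p m
  -- all geometric points
  have hall : ∀ (K : Type u) [Field K] [IsAlgClosed K] [Algebra R K],
      Cert (bcP K p) ∧ IsDomain (K ⊗[R] A) := by
    intro K _ _ _
    obtain ⟨s, ψ⟩ := exists_geomPt (R := R) K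
    let _ := RootBridge989.geomAlg s
    obtain ⟨ψ⟩ := ψ
    let K₀ := AlgebraicClosure ((Spec (CommRingCat.of R)).residueField s)
    let _ : Algebra K₀ K := ψ.toRingHom.toAlgebra
    have : IsScalarTower R K₀ K := IsScalarTower.of_algebraMap_eq fun r => (ψ.commutes r).symm
    obtain ⟨h1, h2, h3, h4, h5⟩ := hs s
    exact ⟨cert_ext p K₀ K hps hpc (hcs s), isDomain_ext K₀ K⟩
  exact ⟨{ A := A, e := e, p := p, hp := hp, surj := hps, cent := hpc
           cert := fun K _ _ _ => (hall K).1, dom := fun K _ _ _ => (hall K).2 }⟩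

end K929.HopfChart
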