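import Groth.Agent.LieWt.K929.SetupW

/-!
# Infinitesimal points and the weight modules
-/

set_option autoImplicit false
universe u v

open CategoryTheory MonoidalCategory CartesianMonoidalCategory MonObj GrpObj AlgebraicGeometry Limits
open scoped TensorProduct
open WithConv

namespace K929.HopfChart

open Groth.Agent.Books.DynBasic (mapPt mapPt_apply mapPt_injective)
open Groth.Agent.Books.AffBridge Groth.Agent.Sga3B Cell K929.LieDict K929.LieSplit K929.Act
open Groth.Agent.Sga3B.RootCoact Groth.Agent.Sga3B.RootOrb Groth.Agent.Sga3B.RootGr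
open Groth.Agent.Sga3B.RootGa Groth.Agent.Sga3B.AffPts Groth.Agent.Sga3B.DSAff
open Groth.Agent.Sga3B.RootCert Groth.Agent.Sga3B.RootDens136
open Groth.Agent.Sga3B.RootRefl136 Groth.Agent.Sga3B.RootBC136 Groth.Agent.Sga3B.RootWt136
open Groth.Agent.Sga3B.RootExt136 Groth.Agent.Sga3B.RootFinal136 Groth.Agent.Sga3B.RootDom136
open Groth.Agent.RedSub.H368.HopfPts

section hopf

variable {R : Type u} [CommRing R] {G : Over (Spec (CommRingCat.of R))} [GrpObj G]
  {A : Type u} [CommRing A] [HopfAlgebra R A] (e : G ≅ SpecOver R A) [IsMonHom e.hom]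
  {B : Type u} [CommRing B] [Algebra R B]

lemma one_hom (f : A) : (1 : Pt R (chart e).A B).hom f = algebraMap R B (Coalgebra.counit (R := R) f) :=
  letI := ptGrpOfHopf R A
  one_hom_apply (compat_ptGrpOfHopf R A) f

variable {e}

lemma fst_hom {g : Pt R (chart e).A (DualNumber B)} (hg : g ∈ infP R (chart e).A B) (f : A) :
    (g.hom f).fst = algebraMap R B (Coalgebra.counit (R := R) f) :=
  (TAct.fst_eq hg f).trans (one_hom e f)

/-- the derivation of an infinitesimal point -/
noncomputable def der (g : Pt R (chart e).A (DualNumber B)) : A →ₗ[R] B where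
  toFun f := (g.hom f).snd
  map_add' x y := congrArg TrivSqZeroExt.snd (map_add g.hom (show (chart e).A from x) y)
  map_smul' r x := congrArg TrivSqZeroExt.snd (map_smul g.hom r (show (chart e).A from x))

lemma der_apply (g : Pt R (chart e).A (DualNumber B)) (f : A) : der g f = (g.hom f).snd := rfl

lemma der_mul {g : Pt R (chart e).A (DualNumber B)} (hg : g ∈ infP R (chart e).A B) (f f' : A) :
    der g (f * f') = algebraMap R B (Coalgebra.counit (R := R) f) * der g f' +
      algebraMap R B (Coalgebra.counit (R := R) f') * der g f := by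
  have h1 : g.hom (f * f') = g.hom f * g.hom f' := map_mul g.hom (show (chart e).A from f) f'
  rw [der_apply, h1, TrivSqZeroExt.snd_mul, fst_hom hg, fst_hom hg, op_smul_eq_mul, smul_eq_mul,
    mul_comm (TrivSqZeroExt.snd _)]
  rfl

lemma der_algebraMap (g : Pt R (chart e).A (DualNumber B)) (r : R) : der g (algebraMap R A r) = 0 := by
  have h1 : g.hom (algebraMap R A r) = algebraMap R (DualNumber B) r := g.hom.commutes r
  rw [der_apply, h1]
  rfl

lemma der_sq {g : Pt R (chart e).A (DualNumber B)} (hg : g ∈ infP R (chart e).A B) {f : A}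
    (hf : f ∈ aug R A ^ 2) : der g f = 0 := by
  rw [sq] at hf
  induction hf using Submodule.mul_induction_on' with
  | mem_mul_mem u hu v hv =>
    rw [der_mul hg, mem_aug.1 hu, mem_aug.1 hv, map_zero, zero_mul, zero_mul, add_zero]
  | add x _ y _ hx hy => rw [map_add, hx, hy, add_zero]

/-- the linear form of an infinitesimal point on the cotangent space -/
noncomputable def lin {g : Pt R (chart e).A (DualNumber B)} (hg : g ∈ infP R (chart e).A B) :
    (A ⧸ I2 R A) →ₗ[R] B := (I2 R A).liftQ (der g) fun _ hf => der_sq hg hf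

lemma lin_mkQ {g : Pt R (chart e).A (DualNumber B)} (hg : g ∈ infP R (chart e).A B) (f : A) :
    lin hg ((I2 R A).mkQ f) = (g.hom f).snd := rfl

/-- the linear map of a linear form -/
noncomputable def ofLin₀ (l : (A ⧸ I2 R A) →ₗ[R] B) : A →ₗ[R] DualNumber B where
  toFun f := TrivSqZeroExt.inl (algebraMap R B (Coalgebra.counit (R := R) f)) +
        TrivSqZeroExt.inr (l ((I2 R A).mkQ f))
  map_add' x y := by
    rw [map_add, map_add, map_add, map_add]
    apply TrivSqZeroExt.ext <;> simp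
  map_smul' r x := by
    have h1 : Coalgebra.counit (R := R) (r • x) = r * Coalgebra.counit (R := R) x := by
      rw [map_smul, smul_eq_mul]
    rw [h1, map_mul, map_smul, map_smul, RingHom.id_apply]
    apply TrivSqZeroExt.ext
    · rw [TrivSqZeroExt.fst_smul]
      simp [Algebra.smul_def]
    · simp

lemma fst_ofLin₀ (l : (A ⧸ I2 R A) →ₗ[R] B) (f : A) :
    (ofLin₀ l f).fst = algebraMap R B (Coalgebra.counit (R := R) f) := by
  simp [ofLin₀]

lemma snd_ofLin₀ (l : (A ⧸ I2 R A) →ₗ[R] B) (f : A) :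
    (ofLin₀ l f).snd = l ((I2 R A).mkQ f) := by
  simp [ofLin₀]

lemma mkQ_mul (x y : A) : (I2 R A).mkQ (x * y) = Coalgebra.counit (R := R) x • (I2 R A).mkQ y +
    Coalgebra.counit (R := R) y • (I2 R A).mkQ x -
    (Coalgebra.counit (R := R) x * Coalgebra.counit (R := R) y) • (I2 R A).mkQ 1 := by
  have h3 : (x - algebraMap R A (Coalgebra.counit (R := R) x)) *
      (y - algebraMap R A (Coalgebra.counit (R := R) y)) ∈ I2 R A := by
    change _ ∈ aug R A ^ 2
    rw [sq]
    exact Ideal.mul_mem_mul (sub_counit_mem _) (sub_counit_mem _)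
  rw [← map_smul, ← map_smul, ← map_smul, ← map_add, ← map_sub, ← sub_eq_zero, ← map_sub]
  refine (Submodule.Quotient.mk_eq_zero (I2 R A)).2 ?_
  convert h3 using 1
  simp only [Algebra.smul_def, map_mul]
  ring

/-- the algebra map of a linear form -/
noncomputable def ofLinAlg (l : (A ⧸ I2 R A) →ₗ[R] B) (h1 : l ((I2 R A).mkQ 1) = 0) :
    A →ₐ[R] DualNumber B :=
  AlgHom.ofLinearMap (ofLin₀ l)
    (by
      apply TrivSqZeroExt.ext
      · rw [fst_ofLin₀]; simp
      · rw [snd_ofLin₀, h1]; simp)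
    (fun x y => by
      apply TrivSqZeroExt.ext
      · rw [TrivSqZeroExt.fst_mul, fst_ofLin₀, fst_ofLin₀, fst_ofLin₀, Bialgebra.counit_mul, map_mul]
      · rw [TrivSqZeroExt.snd_mul, fst_ofLin₀, fst_ofLin₀, snd_ofLin₀, snd_ofLin₀, snd_ofLin₀,
          mkQ_mul, map_sub, map_add, map_smul, map_smul, map_smul, h1, smul_zero, sub_zero,
          Algebra.smul_def, Algebra.smul_def, op_smul_eq_mul, smul_eq_mul, mul_comm (l _)])

variable (e) in
/-- the point of a linear form -/
noncomputable def ofLin (l : (A ⧸ I2 R A) →ₗ[R] B) (h1 : l ((I2 R A).mkQ 1) = 0) :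
    Pt R (chart e).A (DualNumber B) := (ofLinAlg l h1 : A →ₐ[R] DualNumber B)

lemma fst_ofLin (l : (A ⧸ I2 R A) →ₗ[R] B) (h1 : l ((I2 R A).mkQ 1) = 0) (f : A) :
    ((ofLin e l h1).hom f).fst = algebraMap R B (Coalgebra.counit (R := R) f) := by
  exact fst_ofLin₀ l f

lemma snd_ofLin (l : (A ⧸ I2 R A) →ₗ[R] B) (h1 : l ((I2 R A).mkQ 1) = 0) (f : A) :
    ((ofLin e l h1).hom f).snd = l ((I2 R A).mkQ f) := by
  exact snd_ofLin₀ l f

lemma ofLin_mem (l : (A ⧸ I2 R A) →ₗ[R] B) (h1 : l ((I2 R A).mkQ 1) = 0) :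
    ofLin e l h1 ∈ infP R (chart e).A B := by
  rw [mem_infP]
  apply Pt.ext
  intro f
  rw [one_hom]
  exact fst_ofLin (e := e) l h1 f

end hopf

section wt

variable {R : Type u} [CommRing R] {M : Type} [AddCommGroup M]
variable {G T : Over (Spec (CommRingCat.of R))} [GrpObj G] [GrpObj T] {i : T ⟶ G}
  {sp : Grp.mk T ≅ Grp.mk (Red.DS (Spec (CommRingCat.of R)) M)} (s : Setup i sp)
  {B : Type u} [CommRing B] [Algebra R B]

namespace Setup

/-- the infinitesimal point of an element of the Lie algebra -/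
noncomputable abbrev inf (x : LieS.LieR G B) : Pt R (chart s.e).A (DualNumber B) := infR (chart s.e) B x

lemma inf_mem (x : LieS.LieR G B) : s.inf x ∈ infP R (chart s.e).A B := infR_mem _ x

lemma inf_injective : Function.Injective (s.inf (B := B)) := infR_injective (chart s.e)

lemma inf_mul (x y : LieS.LieR G B) : s.inf (x * y) = s.inf x * s.inf y := _root_.map_mul _ x y

lemma inf_one : s.inf (1 : LieS.LieR G B) = 1 := _root_.map_one _

/-- the linear form of an element of the Lie algebra -/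
noncomputable def ln (x : LieS.LieR G B) : (s.A ⧸ I2 R s.A) →ₗ[R] B := lin (s.inf_mem x)

lemma ln_mkQ (x : LieS.LieR G B) (f : s.A) : s.ln x ((I2 R s.A).mkQ f) = ((s.inf x).hom f).snd := rfl

lemma ln_mul (x y : LieS.LieR G B) : s.ln (x * y) = s.ln x + s.ln y := by
  apply Submodule.linearMap_qext
  apply LinearMap.ext
  intro f
  change ((s.inf (x * y)).hom f).snd = ((s.inf x).hom f).snd + ((s.inf y).hom f).snd
  rw [inf_mul, snd_mul (s.inf_mem x) (s.inf_mem y)]

lemma ln_smul (b : B) (x : LieS.LieR G B) : s.ln (b • x) = b • s.ln x := by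
  apply Submodule.linearMap_qext
  apply LinearMap.ext
  intro f
  change ((s.inf (b • x)).hom f).snd = b * ((s.inf x).hom f).snd
  rw [Setup.inf, infR_smul, snd_scale]

lemma ln_injective : Function.Injective (s.ln (B := B)) := by
  intro x y h
  apply s.inf_injective
  refine infP_ext (s.inf_mem x) (s.inf_mem y) fun f => ?_
  exact DFunLike.congr_fun h ((I2 R s.A).mkQ f)

lemma exists_ln (l : (s.A ⧸ I2 R s.A) →ₗ[R] B) (h1 : l ((I2 R s.A).mkQ 1) = 0) :
    ∃ x : LieS.LieR G B, s.ln x = l := by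
  obtain ⟨x, hx⟩ := exists_infR (chart s.e) (ofLin_mem (e := s.e) l h1)
  refine ⟨x, ?_⟩
  apply Submodule.linearMap_qext
  apply LinearMap.ext
  intro f
  change ((s.inf x).hom f).snd = l ((I2 R s.A).mkQ f)
  rw [Setup.inf, hx]
  exact snd_ofLin l h1 f

lemma ln_one (x : LieS.LieR G B) : s.ln x ((I2 R s.A).mkQ 1) = 0 := by
  have h1 : (s.inf x).hom (1 : (chart s.e).A) = 1 := map_one (s.inf x).hom
  change ((s.inf x).hom (1 : (chart s.e).A)).snd = 0
  rw [h1]
  rfl

/-- weights in terms of the linear form -/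
theorem mem_weightSpOf (m : M) (x : LieS.LieR G B) :
    x ∈ LieWt.weightSpOf i (sp.hom.hom.hom ≫ Red.chi (Spec (CommRingCat.of R)) m) B ↔
      ∀ n, n ≠ m → ∀ f ∈ gr (conjCoact s.p) n, s.ln x ((I2 R s.A).mkQ f) = 0 := by
  rw [mem_weightSpOf_iff s.e s.p i sp s.hp m x,
    TAct.IsAut.isWt_iff (isAut s.e s.p) (infR_mem (chart s.e) x)]
  exact Iff.rfl

lemma ln_eq_of_mem {m : M} {x : LieS.LieR G B}
    (hx : x ∈ LieWt.weightSpOf i (sp.hom.hom.hom ≫ Red.chi (Spec (CommRingCat.of R)) m) B)
    (y : s.A ⧸ I2 R s.A) : s.ln x y = s.ln x (PQ s.p m y) := by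
  rw [s.mem_weightSpOf] at hx
  obtain ⟨f, rfl⟩ := (I2 R s.A).mkQ_surjective y
  rw [PQ_mk]
  induction f using induction_gr (conjCoact s.p) with
  | h0 => simp
  | hadd a b ha hb => simp only [map_add, ha, hb]
  | h n f hf =>
    by_cases hn : n = m
    · subst hn
      rw [pr_of_mem_same _ hf]
    · rw [pr_of_mem_ne _ hf hn, map_zero, map_zero, hx n hn f hf]

end Setup

end wt

end K929.HopfChart
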