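import Groth.Agent.LieWt.K929.SetupRoot
import Groth.Agent.Sga3B.AdCentre

/-!
# The Lie algebras of the torus and of centralizers of subtori
-/

set_option autoImplicit false
universe u v

open CategoryTheory MonoidalCategory CartesianMonoidalCategory MonObj GrpObj AlgebraicGeometry Limits
open scoped TensorProduct
open WithConv

namespace K929.HopfChart

open Groth.Agent.Books.DynBasic (mapPt mapPt_apply mapPt_injective)
open Groth.Agent.Books.AffBridge Groth.Agent.Sga3B Cell K929.LieDict K929.LieSplit K929.Act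
open Groth.Agent.Sga3B.RootCoact Groth.Agent.Sga3B.RootOrb Groth.Agent.Sga3B.RootGr
open Groth.Agent.Sga3B.RootGa Groth.Agent.Sga3B.AffPts Groth.Agent.Sga3B.DSAff
open Groth.Agent.Sga3B.RootCert Groth.Agent.Sga3B.RootDens136
open Groth.Agent.Sga3B.RootRefl136 Groth.Agent.Sga3B.RootBC136 Groth.Agent.Sga3B.RootWt136
open Groth.Agent.Sga3B.RootExt136 Groth.Agent.Sga3B.RootFinal136 Groth.Agent.Sga3B.RootDom136
open Groth.Agent.RedSub.H368.HopfPts K929.CharLemmas PinMod DSPts GaPts

section tor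

variable {R : Type u} [CommRing R] {A : Type u} [CommRing A] [HopfAlgebra R A]
  {M : Type} [AddCommGroup M] {p : A →ₐc[R] MonoidAlgebra R (Multiplicative M)}
  {C : Type u} [CommRing C] [Algebra R C]

/-- points killing the ideal of the torus -/
lemma exists_torPt (hp : Function.Surjective p) (g : WithConv (A →ₐ[R] C))
    (hg : ∀ y, p y = 0 → g.ofConv y = 0) : ∃ t : TPt M C, torPt p t = g := by
  obtain ⟨h, hh⟩ : ∃ h : MonoidAlgebra R (Multiplicative M) →ₐ[R] C, ∀ y, h (p y) = g.ofConv y := by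
    let p' : A →ₐ[R] MonoidAlgebra R (Multiplicative M) := (p : A →ₐ[R] MonoidAlgebra R (Multiplicative M))
    have hp' : Function.Surjective p' := hp
    have hk : ∀ y ∈ RingHom.ker p', g.ofConv y = 0 := fun y hy => hg y hy
    let k1 : (A ⧸ RingHom.ker p') →ₐ[R] C := Ideal.Quotient.liftₐ (RingHom.ker p') g.ofConv hk
    let k2 : (A ⧸ RingHom.ker p') ≃ₐ[R] MonoidAlgebra R (Multiplicative M) :=
      Ideal.quotientKerAlgEquivOfSurjective hp'
    refine ⟨k1.comp k2.symm.toAlgHom, fun y => ?_⟩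
    have h1 : k2.symm (p' y) = Ideal.Quotient.mk _ y := by
      rw [AlgEquiv.symm_apply_eq]
      rfl
    change k1 (k2.symm (p' y)) = _
    rw [h1]
    rfl
  let t : TPt M C := MonoidHom.toHomUnits ((h : MonoidAlgebra R (Multiplicative M) →* C).comp
    (MonoidAlgebra.of R (Multiplicative M)))
  refine ⟨t, ?_⟩
  apply WithConv.ofConv_injective
  apply AlgHom.ext
  intro y
  rw [torPt_apply, ← hh]
  congr 1
  apply algHom_ext_single
  intro m
  rw [evT_single, one_smul]
  rfl

/-- torus points kill the homogeneous functions of non-zero degree -/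
lemma torPt_apply_of_mem (t : TPt M C) {n : M} (hn : n ≠ 0) {f : A} (hf : f ∈ gr (conjCoact p) n) :
    (torPt p t).ofConv f = 0 := by
  refine (fixed_iff p p (torPt p t)).1 ?_ n hn f hf
  rw [orbU, orb, mapPt_torPt]
  have h1 : ∀ s s' : Multiplicative M →* (MonoidAlgebra C (Multiplicative M))ˣ,
      torPt p s * torPt p s' = torPt p s' * torPt p s := by
    intro s s'
    rw [← _root_.map_mul, ← _root_.map_mul]
    exact congrArg (torPt p) (mul_comm s s')
  rw [h1, mul_inv_cancel_right]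

end tor

variable {R : Type u} [CommRing R] {M : Type} [AddCommGroup M]
variable {G T : Over (Spec (CommRingCat.of R))} [GrpObj G] [GrpObj T] {i : T ⟶ G}
  {sp : Grp.mk T ≅ Grp.mk (Red.DS (Spec (CommRingCat.of R)) M)} (s : Setup i sp)
  {B : Type u} [CommRing B] [Algebra R B]

namespace Setup

lemma pts_inf (x : LieS.LieR G B) :
    (chart s.e).pts (DualNumber B) (s.inf x) = (castD (str_eq R B)).hom ≫ x.1 :=
  K929.LieDict.pts_inf (chart s.e) (str_eq R B) x

lemma hom_eq_zero {x : LieS.LieR G B} {n : M} (hn : n ≠ 0) {f : s.A} (hf : f ∈ gr (conjCoact s.p) n)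
    (h : s.ln x ((I2 R s.A).mkQ f) = 0) : (s.inf x).hom f = 0 := by
  apply TrivSqZeroExt.ext
  · rw [fst_hom (s.inf_mem x), mem_aug.1 (counit_gr s.p hn hf), map_zero]
    rfl
  · exact h

/-- **The Lie algebra of the torus.** -/
theorem mem_map_torus [IsMonHom i] [Mono i] (x : LieS.LieR G B) :
    x ∈ Subgroup.map (LieS.map B (Spec.map (CommRingCat.ofHom (algebraMap R B))) i) ⊤ ↔
      ∀ n, n ≠ 0 → ∀ f ∈ gr (conjCoact s.p) n, s.ln x ((I2 R s.A).mkQ f) = 0 := by
  constructor
  · rintro ⟨y, -, rfl⟩ n hn f hf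
    obtain ⟨t, ht⟩ := exists_chΓ (𝟙 _) ((castD (str_eq R B)).hom ≫ y.1 ≫ sp.hom.hom.hom)
    have h1 : s.inf (LieS.map B (Spec.map (CommRingCat.ofHom (algebraMap R B))) i y) =
        (cv s.e (DualNumber B)).symm (torPt s.p t) := by
      apply ((chart s.e).pts (DualNumber B)).injective
      rw [pts_inf, pts_torPt s.e s.p i sp s.hp, ← ht]
      change (castD (str_eq R B)).hom ≫ y.1 ≫ i = _
      have h2 : sp.hom.hom.hom ≫ sp.inv.hom.hom ≫ i = i :=
        (Category.assoc _ _ _).symm.trans ((congrArg (fun z => z ≫ i) (sp_hom_inv sp)).trans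
          (Category.id_comp _))
      exact ((Category.assoc _ _ _).trans (congrArg (fun z => (castD (str_eq R B)).hom ≫ z)
        ((Category.assoc _ _ _).trans (congrArg (fun z => y.1 ≫ z) h2)))).symm
    have h3 : (s.inf (LieS.map B (Spec.map (CommRingCat.ofHom (algebraMap R B))) i y)).hom f =
        (torPt s.p t).ofConv f := by
      rw [h1]
      rfl
    rw [ln_mkQ, h3, torPt_apply_of_mem t hn hf]
    rfl
  · intro h
    have h1 : ∀ y, s.p y = 0 → (cv s.e (DualNumber B) (s.inf x)).ofConv y = 0 := by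
      intro y hy
      refine (vanish_JP_iff s.p (cv s.e (DualNumber B) (s.inf x))).2 ?_ y (s.cent y hy)
      rw [mem_PSub]
      intro m hm f hf
      have hm0 : m ≠ 0 := fun h => hm (by rw [h]; exact zero_mem _)
      exact s.hom_eq_zero hm0 hf (h m hm0 f hf)
    obtain ⟨t, ht⟩ := exists_torPt s.surj _ h1
    have h2 : (castD (str_eq R B)).hom ≫ x.1 =
        dsEquiv (tB (𝟙 _) (DualNumber B)) M (chΓ (𝟙 _) t) ≫ sp.inv.hom.hom ≫ i := by
      rw [← s.pts_inf x, ← pts_torPt s.e s.p i sp s.hp, ht]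
      congr 1
    let y : LieS.dpt B (str R B) ⟶ T := (castD (str_eq R B)).inv ≫
      dsEquiv (tB (𝟙 _) (DualNumber B)) M (chΓ (𝟙 _) t) ≫ sp.inv.hom.hom
    have hy : y ≫ i = x.1 := by
      change ((castD (str_eq R B)).inv ≫ _ ≫ _) ≫ i = x.1
      rw [← cancel_epi (castD (str_eq R B)).hom, h2]
      simp only [Category.assoc, Iso.hom_inv_id_assoc]
    refine ⟨⟨y, ?_⟩, trivial, Subtype.ext hy⟩
    rw [LieS.mem_Lie_iff, ← cancel_mono i, Category.assoc, hy, MonObj.one_comp]
    exact (LieS.mem_Lie_iff G B _ x.1).1 x.2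

/-- the elements of the Lie algebra without component of weight `m` -/
noncomputable def noComp (m : M) : Subgroup (LieS.LieR G B) where
  carrier := {x | ∀ f ∈ gr (conjCoact s.p) m, s.ln x ((I2 R s.A).mkQ f) = 0}
  one_mem' := by
    intro f _
    rw [ln_mkQ, inf_one]
    exact TAct.snd_one_hom (A := (chart s.e).A) f
  mul_mem' := by
    intro x y hx hy f hf
    rw [ln_mul, LinearMap.add_apply, hx f hf, hy f hf, add_zero]
  inv_mem' := by
    intro x hx f hf
    have h1 : s.ln x⁻¹ ((I2 R s.A).mkQ f) + s.ln x ((I2 R s.A).mkQ f) = 0 := by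
      rw [← LinearMap.add_apply, ← ln_mul, inv_mul_cancel, ln_mkQ, inf_one]
      exact TAct.snd_one_hom (A := (chart s.e).A) f
    rw [hx f hf, add_zero] at h1
    exact h1

lemma mem_noComp {m : M} {x : LieS.LieR G B} :
    x ∈ s.noComp m ↔ ∀ f ∈ gr (conjCoact s.p) m, s.ln x ((I2 R s.A).mkQ f) = 0 := Iff.rfl

lemma mem_weightSpOf' (m : M) (x : LieS.LieR G B) :
    x ∈ LieWt.weightSpOf i (chr sp m) B ↔ ∀ n, n ≠ m → x ∈ s.noComp n := s.mem_weightSpOf m x

lemma mem_map_torus' [IsMonHom i] [Mono i] (x : LieS.LieR G B) :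
    x ∈ Subgroup.map (LieS.map B (Spec.map (CommRingCat.ofHom (algebraMap R B))) i) ⊤ ↔
      ∀ n, n ≠ 0 → x ∈ s.noComp n := s.mem_map_torus x

/-- an element without components is trivial -/
lemma eq_one_of_noComp {x : LieS.LieR G B} (h : ∀ n, x ∈ s.noComp n) : x = 1 := by
  apply s.ln_injective
  apply Submodule.linearMap_qext
  apply LinearMap.ext
  intro f
  change s.ln x ((I2 R s.A).mkQ f) = s.ln 1 ((I2 R s.A).mkQ f)
  induction f using induction_gr (conjCoact s.p) with
  | h0 => simp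
  | hadd a b ha hb => simp only [map_add, ha, hb]
  | h n f hf => rw [h n f hf, (s.noComp n).one_mem f hf]

/-- independence of the weight spaces -/
theorem iSupIndep_of {J : Type*} (F : J → Subgroup (LieS.LieR G B)) (w : J → M)
    (hw : Function.Injective w) (hF : ∀ k, ∀ x ∈ F k, ∀ n, n ≠ w k → x ∈ s.noComp n) : iSupIndep F := by
  intro k
  rw [Subgroup.disjoint_def]
  intro x hx hx'
  have h1 : (⨆ (j) (_ : j ≠ k), F j) ≤ s.noComp (w k) :=
    iSup₂_le fun j hj y hy => hF j y hy (w k) fun h => hj (hw h).symm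
  refine s.eq_one_of_noComp fun n => ?_
  by_cases hn : n = w k
  · subst hn
    exact h1 hx'
  · exact hF k x hx n hn

section cent

variable {Ta Z : Over (Spec (CommRingCat.of R))} [GrpObj Ta] (j : Ta ⟶ T) [GrpObj Z] (z : Z ⟶ G)
  [IsMonHom z]

lemma chr_zero : chr sp (0 : M) = 1 := by
  rw [chr, chi_zero, MonObj.comp_one]

/-- elements of the Lie algebra fixed by a subgroup of the torus -/
theorem mem_map_centralizer_of (hz : Red.IsCentralizerOf (j ≫ i) z) (x : LieS.LieR G B)
    (hx : ∀ n, j ≫ chr sp n ≠ 1 → x ∈ s.noComp n) :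
    x ∈ Subgroup.map (LieS.map B (Spec.map (CommRingCat.ofHom (algebraMap R B))) z) ⊤ := by
  have hzm : Mono z := hz.2.1
  have key : ∀ (X' : Over (Spec (CommRingCat.of R))) (x' : X' ⟶ LieS.dpt B (str R B)) (h : X' ⟶ Ta),
      (x' ≫ x.1) * (h ≫ j ≫ i) = (h ≫ j ≫ i) * (x' ≫ x.1) := by
    intro X' x' h
    rw [← cancel_mono s.e.hom, MonObj.mul_comp, MonObj.mul_comp]
    obtain ⟨kv, hkv⟩ := (affPt_bijective X').2
      (x' ≫ (castD (str_eq R B)).inv ≫ (castS R (DualNumber B)).hom)
    let gx : s.A →ₐ[R] DualNumber B := (s.inf x).hom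
    have e1 : (x' ≫ x.1) ≫ s.e.hom = affPt X' (kv.comp gx) := by
      rw [← affPt_specMap, hkv]
      have h1 : (chart s.e).pts (DualNumber B) (s.inf x) =
        (castS R (DualNumber B)).hom ≫ specMap R gx ≫ s.e.inv := rfl
      have h2 := s.pts_inf x
      rw [h1] at h2
      have h3 : x.1 = (castD (str_eq R B)).inv ≫ (castS R (DualNumber B)).hom ≫ specMap R gx ≫ s.e.inv := by
        rw [h2, Iso.inv_hom_id_assoc]
      rw [h3]
      simp only [Category.assoc, Iso.inv_hom_id, Category.comp_id]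
    let t : Multiplicative M →* (Fn X')ˣ := MonoidHom.toHomUnits (fnChar ((h ≫ j) ≫ sp.hom.hom.hom))
    have e2 : (h ≫ j ≫ i) ≫ s.e.hom = affPt X' (torPt s.p t).ofConv := by
      have h1 := s.hp X' (h ≫ j)
      simp only [Category.assoc] at h1 ⊢
      rw [h1]
      congr 1
    have e3 : orb s.p s.p t (toConv (kv.comp gx)) = toConv (kv.comp gx) := by
      apply WithConv.ofConv_injective
      apply AlgHom.ext
      intro f
      induction f using induction_gr (conjCoact s.p) with
      | h0 => rw [map_zero, map_zero]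
      | hadd a b ha hb => rw [map_add, map_add, ha, hb]
      | h n f hf =>
        rw [orb_apply_of_mem s.p s.p t _ hf]
        by_cases hn : j ≫ chr sp n = 1
        · have h1 : ((t (Multiplicative.ofAdd n) : (Fn X')ˣ) : Fn X') = 1 := by
            change dsChar ((h ≫ j) ≫ sp.hom.hom.hom) (Multiplicative.ofAdd n) = 1
            rw [← gmFn_chi]
            have h2 : ((h ≫ j) ≫ sp.hom.hom.hom) ≫ Red.chi (Spec (CommRingCat.of R)) n = 1 := by
              have h3 : ((h ≫ j) ≫ sp.hom.hom.hom) ≫ Red.chi (Spec (CommRingCat.of R)) n =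
                  h ≫ j ≫ chr sp n := by
                simp only [Category.assoc]
              rw [h3, hn, MonObj.comp_one]
            rw [h2, gmFn_one']
          rw [h1, _root_.mul_one]
        · have hn0 : n ≠ 0 := by
            rintro rfl
            exact hn (by rw [chr_zero, MonObj.comp_one])
          have h1 : gx f = 0 := s.hom_eq_zero hn0 hf (hx n hn f hf)
          have h2 : (toConv (kv.comp gx)).ofConv f = 0 := by
            change kv (gx f) = 0
            rw [h1, map_zero]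
          rw [h2, zero_mul]
    have e4 : torPt s.p t * toConv (kv.comp gx) = toConv (kv.comp gx) * torPt s.p t := by
      rw [orb, mul_inv_eq_iff_eq_mul] at e3
      exact e3
    rw [e1, e2]
    have e5 := congrArg (fun w => affPt X' w.ofConv) e4
    simp only [affPt_mul] at e5
    exact e5.symm
  obtain ⟨z', hz'⟩ := (hz.2.2 _ x.1).2 key
  refine ⟨⟨z', ?_⟩, trivial, Subtype.ext hz'⟩
  rw [LieS.mem_Lie_iff, ← cancel_mono z, Category.assoc, hz', MonObj.one_comp]
  exact (LieS.mem_Lie_iff G B _ x.1).1 x.2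

/-- the Lie algebra of the centralizer of a subtorus -/
theorem noComp_of_mem_map (hz : Red.IsCentralizerOf (j ≫ i) z) {N : AddSubgroup M}
    (f' : Red.DS (Spec (CommRingCat.of R)) (M ⧸ N) ⟶ Ta)
    (hf' : f' ≫ j = Red.DSmap (Spec (CommRingCat.of R)) (QuotientAddGroup.mk' N) ≫ sp.inv.hom.hom)
    {x : LieS.LieR G B}
    (hx : x ∈ Subgroup.map (LieS.map B (Spec.map (CommRingCat.ofHom (algebraMap R B))) z) ⊤)
    {n : M} (hn : n ∉ N) : x ∈ s.noComp n := by
  obtain ⟨y, -, rfl⟩ := hx
  set x := LieS.map B (Spec.map (CommRingCat.ofHom (algebraMap R B))) z y with hxy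
  have hcomm := (hz.2.2 _ x.1).1 ⟨y.1, rfl⟩
  let C := MA (M ⧸ N) (DualNumber B)
  let q : Multiplicative M →* Multiplicative (M ⧸ N) := AddMonoidHom.toMultiplicative (QuotientAddGroup.mk' N)
  let u : TPt (M ⧸ N) C := uT (M ⧸ N) (DualNumber B)
  let u' : TPt M C := MonoidHom.comp u q
  let cc : DualNumber B →ₐ[R] C := cM R (M ⧸ N) (DualNumber B)
  have h1 := hcomm (tB (𝟙 (Spec (CommRingCat.of R))) C) (tMap (𝟙 _) cc ≫ (castD (str_eq R B)).hom)
    (dsEquiv (tB (𝟙 _) C) (M ⧸ N) (chΓ (𝟙 _) u) ≫ f')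
  have e1 : (tMap (𝟙 _) cc ≫ (castD (str_eq R B)).hom) ≫ x.1 =
      (chart s.e).pts C (Pt.map cc (s.inf x)) := by
    rw [Category.assoc, ← s.pts_inf x, (chart s.e).pts_nat]
  have e2 : (dsEquiv (tB (𝟙 (Spec (CommRingCat.of R))) C) (M ⧸ N) (chΓ (𝟙 _) u) ≫ f') ≫ j ≫ i =
      (chart s.e).pts C ((cv s.e C).symm (torPt s.p u')) := by
    rw [pts_torPt s.e s.p i sp s.hp]
    have h2 : dsEquiv (tB (𝟙 (Spec (CommRingCat.of R))) C) (M ⧸ N) (chΓ (𝟙 _) u) ≫
        Red.DSmap (Spec (CommRingCat.of R)) (QuotientAddGroup.mk' N) =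
        dsEquiv (tB (𝟙 _) C) M (chΓ (𝟙 _) u') := by
      apply (dsEquiv _ M).symm.injective
      change dsChar _ = dsChar _
      rw [dsChar_DSmap, dsChar_dsEquiv, dsChar_dsEquiv]
      rfl
    rw [← h2]
    simp only [Category.assoc]
    rw [← Category.assoc f' j i, hf']
    simp only [Category.assoc]
  rw [e1, e2, ← _root_.map_mul, ← _root_.map_mul] at h1
  have h2 := ((chart s.e).pts C).injective h1
  have h3 := congrArg (cv s.e C) h2
  rw [_root_.map_mul, _root_.map_mul, MulEquiv.apply_symm_apply, cv_map] at h3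
  have h4 : orb s.p s.p u' (mapPt cc (cv s.e _ (s.inf x))) = mapPt cc (cv s.e _ (s.inf x)) := by
    rw [orb, mul_inv_eq_iff_eq_mul, h3]
  intro f hf
  have h5 := congrArg (fun w => w.ofConv f) h4
  simp only [orb_apply_of_mem s.p s.p u' _ hf, mapPt_apply, cv_ofConv] at h5
  have h6 : ((u' (Multiplicative.ofAdd n) : Cˣ) : C) =
      MonoidAlgebra.single (Multiplicative.ofAdd (QuotientAddGroup.mk' N n)) 1 := rfl
  have h7 : ∀ b : DualNumber B, cc b = MonoidAlgebra.single 1 b := fun b => cM_apply b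
  rw [h6, h7, MonoidAlgebra.single_mul_single, _root_.one_mul, _root_.mul_one] at h5
  have h8 := congrArg (fun w : C => w.coeff (Multiplicative.ofAdd (QuotientAddGroup.mk' N n))) h5
  simp only [MonoidAlgebra.coeff_single, Finsupp.single_eq_same] at h8
  rw [Finsupp.single_eq_of_ne] at h8
  · rw [ln_mkQ]
    have h9 : (s.inf x).hom f = 0 := h8
    rw [h9]
    rfl
  · intro h9
    apply hn
    rw [← QuotientAddGroup.eq_zero_iff]
    exact (Multiplicative.ofAdd.injective h9.symm).symm ▸ rfl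

end cent

end Setup

end K929.HopfChart
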