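import Groth.Agent.LieWt.K929.SetupInf
import Groth.Agent.LieWt.K929.CharLemmas

/-!
# Roots of a reductive group with a split maximal torus over an affine base
-/

set_option autoImplicit false
universe u v

open CategoryTheory MonoidalCategory CartesianMonoidalCategory MonObj GrpObj AlgebraicGeometry Limits
open scoped TensorProduct
open WithConv

namespace K929.HopfChart

open Groth.Agent.Books.DynBasic (mapPt mapPt_apply mapPt_injective)
open Groth.Agent.Books.AffBridge Groth.Agent.Sga3B Cell K929.LieDict K929.LieSplit K929.Act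
open Groth.Agent.Sga3B.RootCoact Groth.Agent.Sga3B.RootOrb Groth.Agent.Sga3B.RootGr
open Groth.Agent.Sga3B.RootGa Groth.Agent.Sga3B.AffPts Groth.Agent.Sga3B.DSAff
open Groth.Agent.Sga3B.RootCert Groth.Agent.Sga3B.RootDens136
open Groth.Agent.Sga3B.RootRefl136 Groth.Agent.Sga3B.RootBC136 Groth.Agent.Sga3B.RootWt136
open Groth.Agent.Sga3B.RootExt136 Groth.Agent.Sga3B.RootFinal136 Groth.Agent.Sga3B.RootDom136
open Groth.Agent.RedSub.H368.HopfPts K929.CharLemmas

variable {R : Type u} [CommRing R] {M : Type} [AddCommGroup M]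
variable {G T : Over (Spec (CommRingCat.of R))} [GrpObj G] [GrpObj T] {i : T ⟶ G}
  {sp : Grp.mk T ≅ Grp.mk (Red.DS (Spec (CommRingCat.of R)) M)} (s : Setup i sp)
  {B : Type u} [CommRing B] [Algebra R B] {L : Type v} [LieRing L] [LieAlgebra B L]
  (mdl : LieS.Model G B (Spec.map (CommRingCat.ofHom (algebraMap R B))) L)

/-- the character of the torus -/
noncomputable abbrev chr (sp : Grp.mk T ≅ Grp.mk (Red.DS (Spec (CommRingCat.of R)) M)) (m : M) :
    T ⟶ Red.Gm (Spec (CommRingCat.of R)) := sp.hom.hom.hom ≫ Red.chi (Spec (CommRingCat.of R)) m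

lemma chr_neg (m : M) : (chr sp m)⁻¹ = chr sp (-m) := by
  rw [chr, chr, chi_neg, GrpObj.comp_inv]

namespace Setup

/-- the linear form on the weight module -/
noncomputable def wtLin (m : M) : LieWt.modelWeightSpOf mdl i (chr sp m) →ₗ[B] (W s.p m →ₗ[R] B) where
  toFun x := s.ln (mdl.e (Multiplicative.ofAdd (x : L))) ∘ₗ (W s.p m).subtype
  map_add' x y := by
    have h1 : mdl.e (Multiplicative.ofAdd ((x : L) + y)) = mdl.e (Multiplicative.ofAdd (x : L)) *
        mdl.e (Multiplicative.ofAdd (y : L)) := by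
      rw [ofAdd_add, _root_.map_mul]
    rw [Submodule.coe_add, h1, s.ln_mul, LinearMap.add_comp]
  map_smul' b x := by
    rw [Submodule.coe_smul, mdl.e_smul, s.ln_smul, RingHom.id_apply, LinearMap.smul_comp]

lemma wtLin_injective (m : M) : Function.Injective (s.wtLin mdl m) := by
  intro x y h
  apply Subtype.ext
  apply Multiplicative.ofAdd.injective
  apply mdl.e.injective
  apply s.ln_injective
  apply LinearMap.ext
  intro z
  have hx : mdl.e (Multiplicative.ofAdd (x : L)) ∈ LieWt.weightSpOf i (chr sp m) B := x.2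
  have hy : mdl.e (Multiplicative.ofAdd (y : L)) ∈ LieWt.weightSpOf i (chr sp m) B := y.2
  rw [s.ln_eq_of_mem hx, s.ln_eq_of_mem hy]
  exact DFunLike.congr_fun h ⟨PQ s.p m z, LinearMap.mem_range_self _ _⟩

/-- every linear form on the weight module comes from the weight space -/
lemma exists_mem_weightSpOf {m : M} (hm : m ≠ 0) (l : W s.p m →ₗ[R] B) :
    ∃ x ∈ LieWt.weightSpOf i (chr sp m) B, s.ln x = l ∘ₗ toW s.p m := by
  have h1 : (l ∘ₗ toW s.p m) ((I2 R s.A).mkQ 1) = 0 := by
    have h2 : toW s.p m ((I2 R s.A).mkQ 1) = 0 := by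
      apply Subtype.ext
      rw [toW_coe, PQ_mk, pr_of_mem_ne _ (one_mem_gr _) (Ne.symm hm), map_zero]
      rfl
    rw [LinearMap.comp_apply, h2, map_zero]
  obtain ⟨x, hx⟩ := s.exists_ln (l ∘ₗ toW s.p m) h1
  refine ⟨x, ?_, hx⟩
  rw [s.mem_weightSpOf]
  intro n hn f hf
  rw [hx]
  have h2 : toW s.p m ((I2 R s.A).mkQ f) = 0 := by
    apply Subtype.ext
    rw [toW_coe, PQ_mk, pr_of_mem_ne _ hf hn, map_zero]
    rfl
  rw [LinearMap.comp_apply, h2, map_zero]

lemma wtLin_surjective {m : M} (hm : m ≠ 0) : Function.Surjective (s.wtLin mdl m) := by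
  intro l
  obtain ⟨x, hx, hxl⟩ := s.exists_mem_weightSpOf hm l
  obtain ⟨y, hy⟩ := mdl.e.surjective x
  refine ⟨⟨Multiplicative.toAdd y, ?_⟩, ?_⟩
  · change mdl.e y ∈ LieWt.weightSpOf i (chr sp m) B
    rw [hy]
    exact hx
  · change s.ln (mdl.e y) ∘ₗ (W s.p m).subtype = l
    rw [hy, hxl, LinearMap.comp_assoc, toW_comp_subtype, LinearMap.comp_id]

/-- **The weight spaces as the linear forms on the weight modules.** -/
theorem exists_wtEquiv {m : M} (hm : m ≠ 0) :
    Nonempty (LieWt.modelWeightSpOf mdl i (chr sp m) ≃ₗ[B] (W s.p m →ₗ[R] B)) :=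
  ⟨LinearEquiv.ofBijective (s.wtLin mdl m) ⟨s.wtLin_injective mdl m, s.wtLin_surjective mdl hm⟩⟩

end Setup

section R

variable {L : Type v} [LieRing L] [LieAlgebra R L]
  (mdl : LieS.Model G R (Spec.map (CommRingCat.ofHom (algebraMap R R))) L)

namespace Setup

/-- roots have weight modules of rank one everywhere -/
theorem rk_ne_zero_of_invertible {a : M} (ha : a ≠ 0)
    (h : Module.Invertible R ↥(LieWt.modelWeightSpOf mdl i (chr sp a))) (x : PrimeSpectrum R) :
    s.rk a x ≠ 0 := by
  intro h0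
  have := s.finite_W a
  have := s.projective_W a
  obtain ⟨e⟩ := s.exists_wtEquiv mdl ha
  have hinv : Module.Invertible R (W s.p a →ₗ[R] R) := Module.Invertible.congr e
  rw [rk, Module.rankAtStalk_eq_zero_iff_notMem_support, Module.mem_support_iff_of_finite,
    SetLike.not_le_iff_exists] at h0
  obtain ⟨r, hr, hrx⟩ := h0
  have hr0 : r = 0 := by
    apply FaithfulSMul.eq_of_smul_eq_smul (M := R) (α := W s.p a →ₗ[R] R)
    intro l
    ext w
    rw [LinearMap.smul_apply, ← map_smul, Module.mem_annihilator.1 hr w, map_zero, zero_smul,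
      LinearMap.zero_apply]
  exact hrx (hr0 ▸ zero_mem _)

/-- weight modules of rank one everywhere give roots -/
theorem invertible_of_rk {a : M} (ha : a ≠ 0) (h : ∀ x, s.rk a x ≠ 0) :
    Module.Invertible R ↥(LieWt.modelWeightSpOf mdl i (chr sp a)) := by
  have := s.finite_W a
  have := s.projective_W a
  obtain ⟨e⟩ := s.exists_wtEquiv mdl ha
  have h1 : Module.Invertible R (W s.p a) := InvRank136.invertible_of_rank_one fun x => by
    have h2 := s.rk_le_one ha x
    have h3 := h x
    change s.rk a x = 1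
    omega
  have h2 : Module.Invertible R (W s.p a →ₗ[R] R) := inferInstanceAs (Module.Invertible R (Module.Dual R (W s.p a)))
  exact Module.Invertible.congr e.symm

end Setup

end R

end K929.HopfChart
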