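import Groth.Agent.LieWt.K929.Setup

/-!
# The weight modules of a reductive group with a split maximal torus over an affine base
-/

set_option autoImplicit false
universe u

open CategoryTheory MonoidalCategory CartesianMonoidalCategory MonObj GrpObj AlgebraicGeometry Limits
open scoped TensorProduct
open WithConv

namespace K929.HopfChart

open Groth.Agent.Books.DynBasic (mapPt mapPt_apply mapPt_injective)
open Groth.Agent.Books.AffBridge Groth.Agent.Sga3B
open Groth.Agent.Sga3B.RootCoact Groth.Agent.Sga3B.RootOrb Groth.Agent.Sga3B.RootGr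
open Groth.Agent.Sga3B.RootGa Groth.Agent.Sga3B.AffPts Groth.Agent.Sga3B.DSAff
open Groth.Agent.Sga3B.RootCert Groth.Agent.Sga3B.RootDens136
open Groth.Agent.Sga3B.RootRefl136 Groth.Agent.Sga3B.RootBC136 Groth.Agent.Sga3B.RootWt136
open Groth.Agent.Sga3B.RootExt136 Groth.Agent.Sga3B.RootFinal136 Groth.Agent.Sga3B.RootDom136

namespace Setup

variable {R : Type u} [CommRing R] {M : Type} [AddCommGroup M]
variable {G T : Over (Spec (CommRingCat.of R))} [GrpObj G] [GrpObj T] {i : T ⟶ G}
  {sp : Grp.mk T ≅ Grp.mk (Red.DS (Spec (CommRingCat.of R)) M)} (s : Setup i sp)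

include s

lemma fg : (aug R s.A).FG :=
  have : Algebra.FinitePresentation R s.A := Algebra.Smooth.finitePresentation
  fg_aug

lemma finite_W (m : M) : Module.Finite R (W s.p m) :=
  have := (projective_quot (R := R) (A := s.A) s.fg).1
  RootWt136.finite_W s.p m

lemma projective_W (m : M) : Module.Projective R (W s.p m) :=
  have := (projective_quot (R := R) (A := s.A) s.fg).2
  RootWt136.projective_W s.p m

/-- the rank of a weight module -/
noncomputable def rk (m : M) (x : PrimeSpectrum R) : ℕ :=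
  Module.rankAtStalk (R := R) (W s.p m) x

lemma finrank_eq (K : Type u) [Field K] [Algebra R K] (m : M) :
    Module.finrank K (K ⊗[R] (W s.p m)) = s.rk m ((⊥ : PrimeSpectrum K).comap (algebraMap R K)) := by
  have := s.finite_W m
  have := s.projective_W m
  rw [rk, ← Module.rankAtStalk_baseChange, Module.rankAtStalk_eq_finrank_of_free]
  rfl

omit s in
/-- the geometric point over a prime -/
lemma comap_bot (x : PrimeSpectrum R) : (⊥ : PrimeSpectrum (AlgebraicClosure x.asIdeal.ResidueField)).comap
    (algebraMap R (AlgebraicClosure x.asIdeal.ResidueField)) = x := by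
  apply PrimeSpectrum.ext
  ext r
  change algebraMap R (AlgebraicClosure x.asIdeal.ResidueField) r = 0 ↔ _
  rw [IsScalarTower.algebraMap_apply R x.asIdeal.ResidueField (AlgebraicClosure x.asIdeal.ResidueField),
    map_eq_zero_iff _ (algebraMap x.asIdeal.ResidueField
      (AlgebraicClosure x.asIdeal.ResidueField)).injective, Ideal.algebraMap_residueField_eq_zero]

lemma isWt_iff_rk (K : Type u) [Field K] [Algebra R K] {m : M} (hm : m ≠ 0) :
    IsWt (bcP K s.p) m ↔ s.rk m ((⊥ : PrimeSpectrum K).comap (algebraMap R K)) ≠ 0 := by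
  have := s.finite_W m
  rw [RootWt136.isWt_iff s.p K hm, ← Module.finrank_pos_iff (R := K), finrank_eq, Nat.pos_iff_ne_zero]

lemma rk_le_one {m : M} (hm : m ≠ 0) (x : PrimeSpectrum R) : s.rk m x ≤ 1 := by
  rw [← comap_bot x, ← finrank_eq]
  exact RootWt136.finrank_le_one s.p _ m ((s.cert _).one m hm)

/-- the negative of a root is a root -/
lemma rk_neg [Module.Finite ℤ M] [Module.Free ℤ M] {m : M} (hm : m ≠ 0) {x : PrimeSpectrum R}
    (h : s.rk m x ≠ 0) : s.rk (-m) x ≠ 0 := by
  let K := AlgebraicClosure x.asIdeal.ResidueField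
  have h1 : IsWt (bcP K s.p) m := by
    rw [isWt_iff_rk s K hm, comap_bot]
    exact h
  have : IsDomain (K ⊗[R] s.A) := s.dom K
  have : Infinite K := IsAlgClosed.instInfinite
  have : IsDomain ((K ⊗[R] s.A) ⧸ JP (bcP K s.p) (lamQ m)) := isDomain_JP_lamQ (bcP K s.p) m
  obtain ⟨n, f, hf, hn⟩ := exists_refl (s.cert K) hm h1 inferInstance
  have h2 := isWt_of_normRel hn h1
  rw [sRefl_self hf, isWt_iff_rk s K (neg_ne_zero.mpr hm), comap_bot] at h2
  exact h2

/-- proportional roots -/
lemma rk_eq_zero_of_mem {a m : M} (ha : a ≠ 0) (hm : m ≠ 0) (hma : m ≠ a) (hma' : m ≠ -a)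
    (hmem : m ∈ lamQ a) {x : PrimeSpectrum R} (h : s.rk a x ≠ 0) [Module.Free ℤ M] : s.rk m x = 0 := by
  by_contra hne
  let K := AlgebraicClosure x.asIdeal.ResidueField
  have h1 : IsWt (bcP K s.p) a := by
    rw [isWt_iff_rk s K ha, comap_bot]
    exact h
  have h2 : IsWt (bcP K s.p) m := by
    rw [isWt_iff_rk s K hm, comap_bot]
    exact hne
  obtain ⟨k, l, hk, hkl⟩ := hmem
  have hl : l ≠ 0 := by
    rintro rfl
    rw [zero_smul] at hkl
    exact (smul_ne_zero hk hm) hkl
  rcases (s.cert K).prop a m ha hm h1 h2 l k hl hk hkl.symm with h3 | h3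
  · exact hma h3
  · exact hma' h3

lemma subsingleton_of_rk {m : M} (h : ∀ x, s.rk m x = 0) : Subsingleton (W s.p m) := by
  have := s.finite_W m
  have := s.projective_W m
  rw [← Module.rankAtStalk_eq_zero_iff_subsingleton (R := R)]
  funext x
  exact h x

/-- homogeneous functions of a degree which is not a root -/
lemma mem_sq_of_rk {m : M} (h : ∀ x, s.rk m x = 0) {f : s.A} (hf : f ∈ gr (conjCoact s.p) m) :
    f ∈ aug R s.A ^ 2 :=
  have := s.subsingleton_of_rk h
  mem_sq_of_subsingleton s.p hf

end Setup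

end K929.HopfChart
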